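import Cfsg.Agent.Components.Misc.PrimitivePart

/-!
# A primitive prime divisor that is large or repeated

For a prime `p ≥ 7` and `n ≥ 3` some primitive prime divisor `s` of `p ^ n - 1` satisfies `2n+1 < s` or
`s ^ 2 ∣ p ^ n - 1`, unless `(p, n) = (17, 6)`.
-/

set_option autoImplicit false
set_option linter.unusedSectionVars false

namespace Cfsg.Lib.Blocks.CoprimeTransitive

open Polynomial

/-- A part of `Φ_n(q)` all of whose primes are primitive, of size at least `Φ_n(q) / n`. -/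
theorem primitive_part {q e : ℕ} (hq : 2 ≤ q) (he : 3 ≤ e) :
    ∃ m : ℕ, m ∣ q ^ e - 1 ∧ q ^ e.totient ≤ 4 * (e * m) ∧
      ∀ s, s.Prime → s ∣ m → (∀ i, 0 < i → i < e → ¬ s ∣ q ^ i - 1) ∧ e ∣ s - 1 := by
  have hpos := cyclotomic_pos' e (x := (q : ℤ)) (by exact_mod_cast (by omega : 1 < q))
  set Φ := ((cyclotomic e ℤ).eval (q : ℤ)).natAbs with hΦ
  have hΦe : (Φ : ℤ) = (cyclotomic e ℤ).eval (q : ℤ) := by rw [hΦ, Int.natAbs_of_nonneg hpos.le]
  have hlow : q ^ e.totient ≤ 4 * Φ := by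
    have := Cfsg.Lib.PrimitivePart.eval_lower hq (by omega : 0 < e)
    rw [← hΦe] at this
    exact_mod_cast this
  have hdvd : Φ ∣ q ^ e - 1 := by
    have h := Polynomial.eval_dvd (x := (q : ℤ)) (cyclotomic.dvd_X_pow_sub_one e ℤ)
    rw [eval_sub, eval_pow, eval_X, eval_one, ← hΦe] at h
    rw [← Int.natCast_dvd_natCast, Nat.cast_sub (Nat.one_le_pow _ _ (by omega)), Nat.cast_pow, Nat.cast_one]
    exact h
  obtain ⟨m, hmΦ, hsize, hm⟩ : ∃ m, m ∣ Φ ∧ Φ ≤ e * m ∧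
      ∀ s, s.Prime → s ∣ m → (∀ i, 0 < i → i < e → ¬ s ∣ q ^ i - 1) ∧ e ∣ s - 1 := by
    by_cases hbad : ∃ r, r.Prime ∧ r ∣ Φ ∧ ∃ k m : ℕ, e = r ^ (k + 1) * m ∧ ¬ r ∣ m ∧ m ∣ r - 1 ∧
        IsPrimitiveRoot (q : ZMod r) m
    · obtain ⟨r, hr, hrΦ, k, m0, hem, hrm, hmr, hroot⟩ := hbad
      obtain ⟨m, hm⟩ := hrΦ
      have hre : r ≤ e := Nat.le_of_dvd (by omega) (hem ▸ Dvd.dvd.mul_right (dvd_pow_self r k.succ_ne_zero) m0)
      refine ⟨m, hm ▸ dvd_mul_left m r, hm ▸ Nat.mul_le_mul_right m hre, fun s hs hsm => ?_⟩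
      have hsΦ : (s : ℤ) ∣ (cyclotomic e ℤ).eval (q : ℤ) := by
        rw [← hΦe]; exact_mod_cast hm ▸ hsm.mul_left r
      rcases Cfsg.Lib.PrimitivePart.prime_cases (a := q) (n := e) (by omega) (by omega) hs hsΦ with
        h | ⟨k', m', hem', -, hms, -⟩
      · exact h
      · exfalso
        have hsr := Cfsg.Lib.PrimitivePart.bad_unique hr hs hem hmr hem' hms
        subst hsr
        refine Cfsg.Lib.PrimitivePart.bad_sq (by omega) he hr hem hrm hmr hroot ?_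
        rw [← hΦe, pow_two]
        exact_mod_cast hm ▸ Nat.mul_dvd_mul_left s hsm
    · push Not at hbad
      refine ⟨Φ, dvd_rfl, Nat.le_mul_of_pos_left _ (by omega), fun s hs hsΦ => ?_⟩
      rcases Cfsg.Lib.PrimitivePart.prime_cases (a := q) (n := e) (by omega) (by omega) hs
          (by rw [← hΦe]; exact_mod_cast hsΦ) with h | ⟨k, m, h1, h2, h3, h4⟩
      · exact h
      · exact absurd h4 (hbad s hs hsΦ k m h1 h2 h3)
  exact ⟨m, hmΦ.trans hdvd, by omega, hm⟩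

/-- The finitely many small cases, each with a witness (`0` for the exception). -/
def witnesses : List (ℕ × ℕ × ℕ) :=
  [(7, 3, 19), (11, 3, 19), (13, 3, 61), (17, 3, 307), (7, 4, 5), (11, 4, 61), (13, 4, 17), (17, 4, 29),
    (19, 4, 181), (23, 4, 53), (7, 6, 43), (11, 6, 37), (13, 6, 157), (19, 6, 7), (23, 6, 13), (29, 6, 271),
    (31, 6, 7), (37, 6, 31), (41, 6, 547), (43, 6, 139), (7, 8, 1201), (7, 10, 191), (7, 12, 181), (11, 12, 1117)]

theorem witnesses_ok : ∀ t ∈ witnesses, t.2.2 ∣ t.1 ^ t.2.1 - 1 ∧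
    (∀ i ∈ Finset.range t.2.1, 0 < i → ¬ t.2.2 ∣ t.1 ^ i - 1) ∧
    (2 * t.2.1 + 1 < t.2.2 ∨ t.2.2 ^ 2 ∣ t.1 ^ t.2.1 - 1) := by
  decide +kernel

theorem witnesses_prime : ∀ t ∈ witnesses, t.2.2.Prime := by
  intro t ht
  simp only [witnesses, List.mem_cons, List.not_mem_nil, or_false] at ht
  rcases ht with rfl | rfl | rfl | rfl | rfl | rfl | rfl | rfl | rfl | rfl | rfl | rfl | rfl | rfl | rfl |
    rfl | rfl | rfl | rfl | rfl | rfl | rfl | rfl | rfl <;> norm_num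

theorem small_cases : ∀ e ∈ Finset.Ico 3 93, 4 * e * ((e + 1) * (2 * e + 1)) < 47 ^ e.totient ∧
    ∀ q ∈ Finset.Ico 7 47, q ^ e.totient ≤ 4 * e * ((e + 1) * (2 * e + 1)) → (∀ d ∈ Finset.Ico 2 7, ¬ d ∣ q) →
      (q = 17 ∧ e = 6) ∨ witnesses.any (fun t => t.1 == q && t.2.1 == e) = true := by
  decide +kernel

theorem seven_pow_big : ∀ k : ℕ, 24 ≤ k → 4 * (2 * k ^ 2) * ((3 * k ^ 2) * (5 * k ^ 2)) < 7 ^ k := by
  intro k hk
  induction k, hk using Nat.le_induction with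
  | base => norm_num
  | succ k hk ih =>
    have h1 : (k + 1) ^ 2 * 10 ≤ 11 * k ^ 2 := by nlinarith
    have h2 : ((k + 1) ^ 2 * 10) ^ 3 ≤ (11 * k ^ 2) ^ 3 := Nat.pow_le_pow_left h1 3
    have e1 : 4 * (2 * (k + 1) ^ 2) * ((3 * (k + 1) ^ 2) * (5 * (k + 1) ^ 2)) * 1000 =
        120 * ((k + 1) ^ 2 * 10) ^ 3 := by ring
    have e2 : 120 * (11 * k ^ 2) ^ 3 = 4 * (2 * k ^ 2) * ((3 * k ^ 2) * (5 * k ^ 2)) * 1331 := by ring
    rw [pow_succ 7 k]
    have h3 : 120 * ((k + 1) ^ 2 * 10) ^ 3 ≤ 120 * (11 * k ^ 2) ^ 3 := Nat.mul_le_mul_left _ h2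
    generalize 4 * (2 * (k + 1) ^ 2) * ((3 * (k + 1) ^ 2) * (5 * (k + 1) ^ 2)) = A at *
    generalize 4 * (2 * k ^ 2) * ((3 * k ^ 2) * (5 * k ^ 2)) = B at *
    omega

/-- A primitive prime divisor that is large or divides twice, except for `(17, 6)`. -/
theorem ppd_large_or_sq {p n : ℕ} (hp : p.Prime) (hp7 : 7 ≤ p) (hn : 3 ≤ n) :
    (∃ s, s.Prime ∧ s ∣ p ^ n - 1 ∧ (∀ i, 0 < i → i < n → ¬ s ∣ p ^ i - 1) ∧
      (2 * n + 1 < s ∨ s ^ 2 ∣ p ^ n - 1)) ∨ (p = 17 ∧ n = 6) := by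
  obtain ⟨m, hmd, hsize, hm⟩ := primitive_part (q := p) (by omega) hn
  by_cases hgood : ∃ s, s.Prime ∧ s ∣ m ∧ (2 * n + 1 < s ∨ s ^ 2 ∣ m)
  · obtain ⟨s, hs, hsm, hor⟩ := hgood
    exact Or.inl ⟨s, hs, hsm.trans hmd, (hm s hs hsm).1, hor.imp_right fun h => h.trans hmd⟩
  push Not at hgood
  have hm0 : m ≠ 0 := by
    rintro rfl
    have : 0 < p ^ n.totient := pow_pos hp.pos _
    omega
  have hpr : ∀ s, s.Prime → s ∣ m → s = n + 1 ∨ s = 2 * n + 1 := fun s hs hsm => by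
    obtain ⟨c, hc⟩ := (hm s hs hsm).2
    have h1 := (hgood s hs hsm).1
    have h2 := hs.two_le
    have hc2 : c ≤ 2 := by
      by_contra h
      have : n * 3 ≤ n * c := Nat.mul_le_mul_left n (by omega)
      omega
    interval_cases c <;> omega
  have hdv : m ∣ (n + 1) * (2 * n + 1) := by
    refine (Nat.dvd_iff_prime_pow_dvd_dvd ((n + 1) * (2 * n + 1)) m).2 fun s k hs hsk => ?_
    rcases k with _ | _ | k
    · simp
    · rw [pow_one] at hsk ⊢
      rcases hpr s hs hsk with rfl | rfl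
      · exact dvd_mul_right _ _
      · exact dvd_mul_left _ _
    · exact absurd ((pow_dvd_pow s (by omega : 2 ≤ k + 1 + 1)).trans hsk)
        ((hgood s hs ((dvd_pow_self s (by omega : k + 1 + 1 ≠ 0)).trans hsk)).2)
  have hle : p ^ n.totient ≤ 4 * n * ((n + 1) * (2 * n + 1)) := by
    refine hsize.trans ?_
    rw [mul_assoc]
    exact Nat.mul_le_mul_left 4 (Nat.mul_le_mul_left n (Nat.le_of_dvd (by positivity) hdv))
  have h93 : n < 93 := by
    refine Cfsg.Lib.PrimitivePart.small_totient (by omega) ?_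
    by_contra hh
    have h1 := Cfsg.Lib.PrimitivePart.totient_sq (e := n) (by omega)
    have h2 := seven_pow_big n.totient (by omega)
    have h4 : 4 * n * ((n + 1) * (2 * n + 1)) ≤
        4 * (2 * n.totient ^ 2) * ((3 * n.totient ^ 2) * (5 * n.totient ^ 2)) :=
      Nat.mul_le_mul (Nat.mul_le_mul_left 4 h1) (Nat.mul_le_mul (by omega) (by omega))
    have h5 : 7 ^ n.totient ≤ p ^ n.totient := Nat.pow_le_pow_left hp7 _
    omega
  obtain ⟨h47, hc⟩ := small_cases n (Finset.mem_Ico.2 ⟨hn, h93⟩)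
  have hp47 : p < 47 := by
    by_contra hh
    exact absurd (lt_of_lt_of_le h47 (Nat.pow_le_pow_left (by omega : 47 ≤ p) _)) (not_lt.2 hle)
  have hnd : ∀ d ∈ Finset.Ico 2 7, ¬ d ∣ p := fun d hd hdp => by
    have := Finset.mem_Ico.1 hd
    rcases hp.eq_one_or_self_of_dvd d hdp with h | h <;> omega
  rcases hc p (Finset.mem_Ico.2 ⟨hp7, hp47⟩) hle hnd with h | h
  · exact Or.inr h
  · obtain ⟨⟨a, b, s⟩, ht, htq⟩ := List.any_eq_true.1 h
    simp only [Bool.and_eq_true, beq_iff_eq] at htq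
    obtain ⟨rfl, rfl⟩ := htq
    obtain ⟨h1, h2, h3⟩ := witnesses_ok _ ht
    exact Or.inl ⟨s, witnesses_prime _ ht, h1, fun i hi hin => h2 i (Finset.mem_range.2 hin) hi, h3⟩

/-- The primitive prime condition in terms of orders. -/
theorem orderOf_eq_of_ppd {p n s : ℕ} (hp : 0 < p) (hn : 0 < n) (hs : s ∣ p ^ n - 1)
    (hmin : ∀ i, 0 < i → i < n → ¬ s ∣ p ^ i - 1) : orderOf (p : ZMod s) = n := by
  have key : ∀ i, (p : ZMod s) ^ i = 1 ↔ s ∣ p ^ i - 1 := fun i => by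
    rw [← ZMod.natCast_eq_zero_iff, Nat.cast_sub (Nat.one_le_pow _ _ hp), Nat.cast_pow, Nat.cast_one, sub_eq_zero]
  refine (orderOf_eq_iff hn).2 ⟨(key n).2 hs, fun i hin hi h => hmin i hi hin ((key i).1 h)⟩

end Cfsg.Lib.Blocks.CoprimeTransitive
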