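import Cfsg.Agent.Blocks.CoprimeTransitive.Arith

/-!
# Primitive prime divisors for the primes three and five

For `p ∈ {3, 5}` and `n ≥ 3` some primitive prime divisor `s` of `p ^ n - 1` satisfies `2n+1 < s` or
`s ^ 2 ∣ p ^ n - 1`, unless `(p, n)` is `(3, 4)`, `(3, 6)`, `(3, 18)` or `(5, 6)`.
-/

set_option autoImplicit false
set_option linter.unusedSectionVars false

namespace Cfsg.Lib.Blocks.CoprimeTransitive

/-- A large or repeated primitive prime divisor, or `p ^ φ(n)` is small. -/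
theorem ppd_or_small {p n : ℕ} (hp : p.Prime) (hn : 3 ≤ n) :
    (∃ s, s.Prime ∧ s ∣ p ^ n - 1 ∧ (∀ i, 0 < i → i < n → ¬ s ∣ p ^ i - 1) ∧
      (2 * n + 1 < s ∨ s ^ 2 ∣ p ^ n - 1)) ∨ p ^ n.totient ≤ 4 * n * ((n + 1) * (2 * n + 1)) := by
  obtain ⟨m, hmd, hsize, hm⟩ := primitive_part (q := p) hp.two_le hn
  by_cases hgood : ∃ s, s.Prime ∧ s ∣ m ∧ (2 * n + 1 < s ∨ s ^ 2 ∣ m)
  · obtain ⟨s, hs, hsm, hor⟩ := hgood
    exact Or.inl ⟨s, hs, hsm.trans hmd, (hm s hs hsm).1, hor.imp_right fun h => h.trans hmd⟩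
  right
  push Not at hgood
  have hpr : ∀ s, s.Prime → s ∣ m → s = n + 1 ∨ s = 2 * n + 1 := fun s hs hsm => by
    obtain ⟨c, hc⟩ := (hm s hs hsm).2
    have h1 := (hgood s hs hsm).1
    have h2 := hs.two_le
    have hc2 : c ≤ 2 := by
      by_contra h
      have : n * 3 ≤ n * c := Nat.mul_le_mul_left n (by omega)
      omega
    interval_cases c <;> omega
  have hdv : m ∣ (n + 1) * (2 * n + 1) := by
    refine (Nat.dvd_iff_prime_pow_dvd_dvd ((n + 1) * (2 * n + 1)) m).2 fun s k hs hsk => ?_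
    rcases k with _ | _ | k
    · simp
    · rw [pow_one] at hsk ⊢
      rcases hpr s hs hsk with rfl | rfl
      · exact dvd_mul_right _ _
      · exact dvd_mul_left _ _
    · exact absurd ((pow_dvd_pow s (by omega : 2 ≤ k + 1 + 1)).trans hsk)
        ((hgood s hs ((dvd_pow_self s (by omega : k + 1 + 1 ≠ 0)).trans hsk)).2)
  refine hsize.trans ?_
  rw [mul_assoc]
  exact Nat.mul_le_mul_left 4 (Nat.mul_le_mul_left n (Nat.le_of_dvd (by positivity) hdv))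

/-- Witnesses for the primes three and five. -/
def smallWitnesses : List (ℕ × ℕ × ℕ) :=
  [(3, 3, 13), (5, 3, 31), (5, 4, 13), (3, 5, 11), (5, 5, 71), (3, 7, 1093), (3, 8, 41), (5, 8, 313), (3, 9, 757),
    (3, 10, 61), (5, 10, 521), (3, 12, 73), (5, 12, 601), (3, 14, 547), (5, 14, 449), (3, 15, 4561), (3, 16, 193),
    (5, 18, 5167), (3, 20, 1181), (3, 22, 67), (3, 24, 6481), (3, 30, 271), (3, 42, 2269)]

theorem smallWitnesses_ok : ∀ t ∈ smallWitnesses, t.2.2 ∣ t.1 ^ t.2.1 - 1 ∧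
    (∀ i ∈ Finset.range t.2.1, 0 < i → ¬ t.2.2 ∣ t.1 ^ i - 1) ∧
    (2 * t.2.1 + 1 < t.2.2 ∨ t.2.2 ^ 2 ∣ t.1 ^ t.2.1 - 1) := by
  decide +kernel

theorem smallWitnesses_prime : ∀ t ∈ smallWitnesses, t.2.2.Prime := by
  intro t ht
  simp only [smallWitnesses, List.mem_cons, List.not_mem_nil, or_false] at ht
  rcases ht with rfl | rfl | rfl | rfl | rfl | rfl | rfl | rfl | rfl | rfl | rfl | rfl | rfl | rfl | rfl |
    rfl | rfl | rfl | rfl | rfl | rfl | rfl | rfl <;> norm_num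

theorem small_cases_three_five : ∀ e ∈ Finset.Ico 3 93, ∀ q ∈ ({3, 5} : Finset ℕ),
    q ^ e.totient ≤ 4 * e * ((e + 1) * (2 * e + 1)) →
      (q = 3 ∧ (e = 4 ∨ e = 6 ∨ e = 18)) ∨ (q = 5 ∧ e = 6) ∨
        smallWitnesses.any (fun t => t.1 == q && t.2.1 == e) = true := by
  decide +kernel

theorem three_pow_big : ∀ k : ℕ, 24 ≤ k → 4 * (2 * k ^ 2) * ((3 * k ^ 2) * (5 * k ^ 2)) < 3 ^ k := by
  intro k hk
  induction k, hk using Nat.le_induction with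
  | base => norm_num
  | succ k hk ih =>
    have h1 : (k + 1) ^ 2 * 10 ≤ 11 * k ^ 2 := by nlinarith
    have h2 : ((k + 1) ^ 2 * 10) ^ 3 ≤ (11 * k ^ 2) ^ 3 := Nat.pow_le_pow_left h1 3
    have e1 : 4 * (2 * (k + 1) ^ 2) * ((3 * (k + 1) ^ 2) * (5 * (k + 1) ^ 2)) * 1000 =
        120 * ((k + 1) ^ 2 * 10) ^ 3 := by ring
    have e2 : 120 * (11 * k ^ 2) ^ 3 = 4 * (2 * k ^ 2) * ((3 * k ^ 2) * (5 * k ^ 2)) * 1331 := by ring
    rw [pow_succ 3 k]
    have h3 : 120 * ((k + 1) ^ 2 * 10) ^ 3 ≤ 120 * (11 * k ^ 2) ^ 3 := Nat.mul_le_mul_left _ h2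
    generalize 4 * (2 * (k + 1) ^ 2) * ((3 * (k + 1) ^ 2) * (5 * (k + 1) ^ 2)) = A at *
    generalize 4 * (2 * k ^ 2) * ((3 * k ^ 2) * (5 * k ^ 2)) = B at *
    omega

/-- A primitive prime divisor that is large or divides twice, for `p ∈ {3, 5}`. -/
theorem ppd_three_five {p n : ℕ} (hp : p = 3 ∨ p = 5) (hn : 3 ≤ n) :
    (∃ s, s.Prime ∧ s ∣ p ^ n - 1 ∧ (∀ i, 0 < i → i < n → ¬ s ∣ p ^ i - 1) ∧
      (2 * n + 1 < s ∨ s ^ 2 ∣ p ^ n - 1)) ∨ (p = 3 ∧ (n = 4 ∨ n = 6 ∨ n = 18)) ∨ (p = 5 ∧ n = 6) := by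
  have hpp : p.Prime := by rcases hp with rfl | rfl <;> norm_num
  rcases ppd_or_small hpp hn with h | hle
  · exact Or.inl h
  have h93 : n < 93 := by
    refine Cfsg.Lib.PrimitivePart.small_totient (by omega) ?_
    by_contra hh
    have h1 := Cfsg.Lib.PrimitivePart.totient_sq (e := n) (by omega)
    have h2 := three_pow_big n.totient (by omega)
    have h4 : 4 * n * ((n + 1) * (2 * n + 1)) ≤
        4 * (2 * n.totient ^ 2) * ((3 * n.totient ^ 2) * (5 * n.totient ^ 2)) :=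
      Nat.mul_le_mul (Nat.mul_le_mul_left 4 h1) (Nat.mul_le_mul (by omega) (by omega))
    have h5 : 3 ^ n.totient ≤ p ^ n.totient := Nat.pow_le_pow_left (by omega) _
    omega
  rcases small_cases_three_five n (Finset.mem_Ico.2 ⟨hn, h93⟩) p (by simp [hp]) hle with h | h | h
  · exact Or.inr (Or.inl h)
  · exact Or.inr (Or.inr h)
  · obtain ⟨⟨a, b, s⟩, ht, htq⟩ := List.any_eq_true.1 h
    simp only [Bool.and_eq_true, beq_iff_eq] at htq
    obtain ⟨rfl, rfl⟩ := htq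
    obtain ⟨h1, h2, h3⟩ := smallWitnesses_ok _ ht
    exact Or.inl ⟨s, smallWitnesses_prime _ ht, h1, fun i hi hin => h2 i (Finset.mem_range.2 hin) hi, h3⟩

end Cfsg.Lib.Blocks.CoprimeTransitive
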