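import Mathlib
import Cfsg.Agent.Blocks.LocalRing

/-!
# A coprime linear group in characteristic `p` has a faithful complex representation of no larger dimension

Lift the averaged projection `(x, y) ↦ ρ (x y⁻¹) / |H|` entrywise and keep the generalised eigenspaces
of the eigenvalues reducing to `1`.
-/

set_option autoImplicit false
set_option linter.unusedSectionVars false
set_option linter.style.haveILetI false

namespace Cfsg.Lib.Blocks.CoprimeTransitive

open Polynomial Matrix Module
open Cfsg Cfsg.Lib.Blocks

variable {p : ℕ} {M : Ideal AlgInt} {ι : Type*} [Fintype ι] [DecidableEq ι]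

/-- The inclusion of the place. -/
noncomputable abbrev inc (M : Ideal AlgInt) : place M →+* ℂ := (place M).subtype

/-- The roots of the characteristic polynomial of a matrix over the place, and their residues. -/
theorem roots_res (Q : Matrix ι ι ℂ) (hQ : ∀ i j, Q i j ∈ place M) :
    (∀ l ∈ Q.charpoly.roots, l ∈ place M) ∧
      (Q.map (res M)).charpoly.roots = Q.charpoly.roots.map (res M) := by
  set Q₀ : Matrix ι ι (place M) := Matrix.of fun i j => ⟨Q i j, hQ i j⟩ with hQ₀
  have hmap : Q₀.map (inc M) = Q := rfl
  have hres : Q₀.map (IsLocalRing.residue (place M)) = Q.map (res M) := by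
    ext i j
    exact (res_coe (⟨Q i j, hQ i j⟩ : place M)).symm
  have hc : Q.charpoly = Q₀.charpoly.map (inc M) := by rw [← Matrix.charpoly_map, hmap]
  have hmem : ∀ l ∈ Q.charpoly.roots, l ∈ place M := by
    intro l hl
    have hint : IsIntegral (place M) l := ⟨Q₀.charpoly, Q₀.charpoly_monic, by
      rw [← eval_map]
      exact (hc ▸ isRoot_of_mem_roots hl : (Q₀.charpoly.map (inc M)).IsRoot l)⟩
    obtain ⟨y, hy⟩ := IsIntegrallyClosed.isIntegral_iff.1 hint
    exact hy ▸ y.2
  refine ⟨hmem, ?_⟩
  set s₀ : Multiset (place M) := Q.charpoly.roots.attach.map fun l => ⟨l.1, hmem l.1 l.2⟩ with hs₀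
  have hs : s₀.map (inc M) = Q.charpoly.roots := by
    rw [hs₀, Multiset.map_map]
    exact Multiset.attach_map_val _
  clear_value s₀
  have h0 : Q₀.charpoly = (s₀.map fun a => X - C a).prod := by
    refine Polynomial.map_injective (inc M) Subtype.val_injective ?_
    rw [← hc, Polynomial.map_multiset_prod, Multiset.map_map]
    have : (s₀.map (Polynomial.map (inc M) ∘ fun a => X - C a)) = Q.charpoly.roots.map fun a => X - C a := by
      rw [← hs, Multiset.map_map]
      exact Multiset.map_congr rfl fun a _ => by simp
    rw [this]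
    exact (IsAlgClosed.splits Q.charpoly).eq_prod_roots_of_monic Q.charpoly_monic
  rw [← hres, Matrix.charpoly_map, h0, Polynomial.map_multiset_prod, Multiset.map_map]
  have : (s₀.map (Polynomial.map (IsLocalRing.residue (place M)) ∘ fun a => X - C a)) =
      (Q.charpoly.roots.map (res M)).map fun a => X - C a := by
    rw [← hs, Multiset.map_map, Multiset.map_map]
    exact Multiset.map_congr rfl fun a _ => by simp [res_coe]
  rw [this, Polynomial.roots_multiset_prod_X_sub_C]

section lift

variable {H : Type*} [Group H] [Fintype H] [DecidableEq H] {n : ℕ}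
  [hp : Fact p.Prime] (ρ : H →* Matrix (Fin n) (Fin n) (ZMod p))

/-- The entrywise lift of the averaged projection. -/
noncomputable def proj : Matrix (H × Fin n) (H × Fin n) ℂ :=
  Matrix.of fun a b => (Fintype.card H : ℂ)⁻¹ * ((ρ (a.1 * b.1⁻¹) a.2 b.2).val : ℂ)

/-- Right translation. -/
def trans (R : Type*) [Zero R] [One R] (h : H) : Matrix (H × Fin n) (H × Fin n) R :=
  Matrix.of fun a b => if b = (a.1 * h, a.2) then 1 else 0

lemma trans_mul_apply {R : Type*} [Semiring R] {κ : Type*} (h : H) (Q : Matrix (H × Fin n) κ R) (a : H × Fin n)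
    (b : κ) : (trans (n := n) R h * Q) a b = Q (a.1 * h, a.2) b := by
  rw [Matrix.mul_apply, Finset.sum_eq_single (a.1 * h, a.2)]
  · simp [trans]
  · intro c _ hc
    simp [trans, hc]
  · simp

lemma mul_trans_apply {R : Type*} [Semiring R] {κ : Type*} (h : H) (Q : Matrix κ (H × Fin n) R) (a : κ)
    (b : H × Fin n) : (Q * trans (n := n) R h) a b = Q a (b.1 * h⁻¹, b.2) := by
  rw [Matrix.mul_apply, Finset.sum_eq_single (b.1 * h⁻¹, b.2)]
  · simp [trans]
  · intro c _ hc
    simp only [trans, Matrix.of_apply]
    rw [if_neg, mul_zero]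
    intro hb
    exact hc (by rw [hb]; simp)
  · simp

lemma trans_mul (R : Type*) [Semiring R] (a b : H) :
    trans (n := n) R (a * b) = trans (n := n) R a * trans (n := n) R b := by
  ext x y
  rw [trans_mul_apply]
  simp [trans, mul_assoc]

lemma trans_one (R : Type*) [Semiring R] : trans (n := n) (H := H) R 1 = 1 := by
  ext x y
  simp [trans, Matrix.one_apply, eq_comm]

lemma proj_comm (h : H) : Commute (trans (n := n) ℂ h) (proj ρ) := by
  ext a b
  rw [trans_mul_apply, mul_trans_apply]
  simp [proj, mul_assoc]

/-- A faithful complex representation of dimension at most `n`. -/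
theorem exists_lift (hM : IsPModular p M) (hcop : ¬ p ∣ Fintype.card H) (hinj : Function.Injective ρ) :
    ∃ m ≤ n, ∃ π : Representation ℂ H (Fin m → ℂ), Function.Injective π := by
  classical
  haveI := charP_res hM
  set φ : ZMod p →+* Res M := ZMod.castHom (dvd_refl p) (Res M) with hφ
  have hunit := isUnitAt_natCast hM hcop
  have hval : ∀ z : ZMod p, res M (z.val : ℂ) = φ z := fun z => by
    rw [res_natCast, hφ, ZMod.castHom_apply, ZMod.cast_eq_val]
  set c : Res M := res M ((Fintype.card H : ℂ)⁻¹) with hcdef
  have hc : c * (Fintype.card H : Res M) = 1 := by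
    rw [hcdef, ← res_natCast, ← res_mul hunit.inv.mem_place (natCast_mem_place _),
      inv_mul_cancel₀ hunit.ne_zero, res_one]
  set P := proj ρ with hP
  have hPmem : ∀ a b, P a b ∈ place M := fun a b => mul_mem hunit.inv.mem_place (natCast_mem_place _)
  set B : Matrix (H × Fin n) (Fin n) (Res M) := Matrix.of fun a k => φ (ρ a.1 a.2 k) with hB
  set A : Matrix (Fin n) (H × Fin n) (Res M) := Matrix.of fun i b => c * φ (ρ b.1⁻¹ i b.2) with hA
  have hAB : A * B = 1 := by
    ext i k
    rw [Matrix.mul_apply, Fintype.sum_prod_type]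
    have : ∀ y : H, ∑ j, A i (y, j) * B (y, j) k = c * φ ((1 : Matrix (Fin n) (Fin n) (ZMod p)) i k) := by
      intro y
      rw [← map_one ρ, show (1 : H) = y⁻¹ * y by group, map_mul, Matrix.mul_apply, map_sum, Finset.mul_sum]
      exact Finset.sum_congr rfl fun j _ => by simp [hA, hB, mul_assoc]
    rw [Finset.sum_congr rfl fun y _ => this y, Finset.sum_const, Finset.card_univ, nsmul_eq_mul, ← mul_assoc,
      mul_comm _ c, hc, one_mul, Matrix.one_apply, Matrix.one_apply]
    split_ifs <;> simp
  have hBA : P.map (res M) = B * A := by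
    ext a b
    rw [Matrix.map_apply, hP, proj, Matrix.of_apply, res_mul hunit.inv.mem_place (natCast_mem_place _), hval,
      ← hcdef, map_mul, Matrix.mul_apply, map_sum, Finset.mul_sum, Matrix.mul_apply]
    exact Finset.sum_congr rfl fun k _ => by simp [hA, hB]; ring
  -- the reductions of the eigenvalues
  obtain ⟨hPr, hProots⟩ := roots_res (M := M) P hPmem
  have hchar : (X : (Res M)[X]) ^ n * (P.map (res M)).charpoly = X ^ Fintype.card (H × Fin n) * (X - 1) ^ n := by
    have := Matrix.charpoly_mul_comm' B A
    rw [Fintype.card_fin, hAB, Matrix.charpoly_one, Fintype.card_fin] at this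
    rw [hBA]
    exact this
  have hroots : (Multiset.replicate n (0 : Res M)) + P.charpoly.roots.map (res M) =
      Multiset.replicate (Fintype.card (H × Fin n)) 0 + Multiset.replicate n 1 := by
    have hne : (X : (Res M)[X]) ^ n * (P.map (res M)).charpoly ≠ 0 :=
      mul_ne_zero (pow_ne_zero _ X_ne_zero) (Matrix.charpoly_monic _).ne_zero
    have h1 := Polynomial.roots_mul hne
    rw [hProots, Polynomial.roots_pow, Polynomial.roots_X, Multiset.nsmul_singleton] at h1
    rw [← h1, hchar, Polynomial.roots_mul (hchar ▸ hne), Polynomial.roots_pow, Polynomial.roots_X,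
      Multiset.nsmul_singleton, Polynomial.roots_pow, ← map_one Polynomial.C, Polynomial.roots_X_sub_C,
      Multiset.nsmul_singleton]
  have hcount : (P.charpoly.roots.map (res M)).count 1 = n := by
    have := congrArg (Multiset.count (1 : Res M)) hroots
    simpa [Multiset.count_add, Multiset.count_replicate] using this
  have hzero_or : ∀ l ∈ P.charpoly.roots, res M l = 0 ∨ res M l = 1 := by
    intro l hl
    have : res M l ∈ Multiset.replicate n (0 : Res M) + P.charpoly.roots.map (res M) :=
      Multiset.mem_add.2 (Or.inr (Multiset.mem_map_of_mem _ hl))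
    rw [hroots, Multiset.mem_add] at this
    exact this.imp Multiset.eq_of_mem_replicate Multiset.eq_of_mem_replicate
  -- the invariant subspace
  let Pl : Module.End ℂ (H × Fin n → ℂ) := Matrix.toLin' P
  let S : Finset ℂ := P.charpoly.roots.toFinset.filter fun l => res M l = 1
  let W : Submodule ℂ (H × Fin n → ℂ) := S.sup fun l => Pl.maxGenEigenspace l
  have hWdim : finrank ℂ W ≤ n := by
    have h1 : finrank ℂ W ≤ ∑ l ∈ S, finrank ℂ (Pl.maxGenEigenspace l) := by
      show finrank ℂ ↥(S.sup fun l => Pl.maxGenEigenspace l) ≤ _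
      clear_value S
      induction S using Finset.induction with
      | empty => simp
      | insert a s ha ih =>
        rw [Finset.sup_insert, Finset.sum_insert ha]
        refine le_trans ?_ (Nat.add_le_add_left ih _)
        have := Submodule.finrank_sup_add_finrank_inf_eq (Pl.maxGenEigenspace a) (s.sup fun l => Pl.maxGenEigenspace l)
        omega
    refine h1.trans ?_
    have h2 : ∀ l ∈ S, finrank ℂ (Pl.maxGenEigenspace l) = P.charpoly.roots.count l := fun l _ => by
      rw [LinearMap.finrank_maxGenEigenspace_eq, Matrix.charpoly_toLin', count_roots]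
    rw [Finset.sum_congr rfl h2]
    refine le_of_le_of_eq ?_ hcount
    rw [Multiset.count_map]
    have h3 : ∑ l ∈ S, P.charpoly.roots.count l = (P.charpoly.roots.filter fun l => res M l = 1).card := by
      rw [← Multiset.toFinset_sum_count_eq, Multiset.toFinset_filter]
      refine Finset.sum_congr rfl fun l hl => ?_
      rw [Multiset.count_filter, if_pos (Finset.mem_filter.1 hl).2]
    rw [h3]
    exact le_of_eq (congrArg Multiset.card (Multiset.filter_congr fun l _ => eq_comm))
  let T : H →* Module.End ℂ (H × Fin n → ℂ) :=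
    { toFun := fun h => Matrix.toLin' (trans ℂ h)
      map_one' := by rw [trans_one, Matrix.toLin'_one]; rfl
      map_mul' := fun a b => by rw [trans_mul, Matrix.toLin'_mul]; rfl }
  have hcomm : ∀ h, Commute (T h) Pl := fun h => by
    show Matrix.toLin' (trans ℂ h) * Matrix.toLin' P = Matrix.toLin' P * Matrix.toLin' (trans ℂ h)
    rw [Module.End.mul_eq_comp, ← Matrix.toLin'_mul, (proj_comm ρ h).eq, Matrix.toLin'_mul]
    rfl
  have hWst : ∀ h : H, ∀ v ∈ W, T h v ∈ W := by
    intro h v hv
    have : W ≤ W.comap (T h) := Finset.sup_le fun l hl => fun x hx =>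
      (Finset.le_sup (f := fun l => Pl.maxGenEigenspace l) hl)
        (Module.End.mapsTo_maxGenEigenspace_of_comm (hcomm h).symm l hx)
    exact this hv
  let σ : Representation ℂ H W :=
    { toFun := fun h => (T h).restrict (hWst h)
      map_one' := LinearMap.ext fun v => Subtype.ext (by
        show T 1 (v : H × Fin n → ℂ) = v
        rw [map_one]; rfl)
      map_mul' := fun a b => LinearMap.ext fun v => Subtype.ext (by
        show T (a * b) (v : H × Fin n → ℂ) = _
        rw [map_mul]; rfl) }
  have hσ : ∀ h : H, σ h = 1 → h = 1 := by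
    intro h hh
    have hfix : ∀ v ∈ W, T h v = v := fun v hv =>
      congrArg Subtype.val (LinearMap.congr_fun hh ⟨v, hv⟩)
    set D := (trans ℂ h - 1) * P with hD
    have hDmem : ∀ a b, D a b ∈ place M := fun a b => by
      rw [hD, sub_mul, one_mul, Matrix.sub_apply, trans_mul_apply]
      exact sub_mem (hPmem _ _) (hPmem _ _)
    have hsmall : ∀ μ ∈ D.charpoly.roots, res M μ = 0 := by
      intro μ hμ
      have hev : Module.End.HasEigenvalue (Matrix.toLin' D) μ := by
        rw [Module.End.hasEigenvalue_iff_isRoot_charpoly, Matrix.charpoly_toLin']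
        exact isRoot_of_mem_roots hμ
      set E := Module.End.eigenspace (Matrix.toLin' D) μ
      have hDl : Matrix.toLin' D = (T h - 1) * Pl := by
        rw [hD, Matrix.toLin'_mul, map_sub, Matrix.toLin'_one]
        rfl
      have hDc : Commute (Matrix.toLin' D) Pl := by
        rw [hDl]
        exact (((hcomm h).sub_left (Commute.one_left _))).mul_left (Commute.refl _)
      have hEst : ∀ x ∈ E, Pl x ∈ E := fun x hx => by
        rw [Module.End.mem_eigenspace_iff] at hx ⊢
        rw [← Module.End.mul_apply, hDc.eq, Module.End.mul_apply, hx, map_smul]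
      haveI : Nontrivial E := Submodule.nontrivial_iff_ne_bot.2 hev
      obtain ⟨l, hl⟩ := Module.End.exists_eigenvalue (Pl.restrict hEst)
      obtain ⟨⟨v, hvE⟩, hv, hv0⟩ := hl.exists_hasEigenvector
      have hPv : Pl v = l • v := congrArg Subtype.val (Module.End.mem_eigenspace_iff.1 hv)
      have hv0' : v ≠ 0 := fun e => hv0 (Subtype.ext e)
      have hDv : T h (l • v) - l • v = μ • v := by
        have := Module.End.mem_eigenspace_iff.1 hvE
        rw [hDl, Module.End.mul_apply, hPv, LinearMap.sub_apply, Module.End.one_apply] at this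
        exact this
      by_cases hl0 : l = 0
      · rw [hl0, zero_smul, map_zero, sub_zero, eq_comm, smul_eq_zero] at hDv
        rw [hDv.resolve_right hv0', res_zero]
      have hlroot : l ∈ P.charpoly.roots := by
        rw [mem_roots (Matrix.charpoly_monic P).ne_zero, ← Matrix.charpoly_toLin',
          ← Module.End.hasEigenvalue_iff_isRoot_charpoly]
        exact Module.End.hasEigenvalue_of_hasEigenvector ⟨Module.End.mem_eigenspace_iff.2 hPv, hv0'⟩
      set ζ := 1 + μ / l with hζ
      have hTv : T h v = ζ • v := by
        rw [map_smul, sub_eq_iff_eq_add] at hDv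
        rw [← smul_right_inj hl0, hDv, hζ, smul_smul, ← add_smul]
        congr 1
        field_simp
        ring
      have hpow : ∀ j : ℕ, T (h ^ j) v = ζ ^ j • v := by
        intro j
        induction j with
        | zero => simp
        | succ j ih => rw [pow_succ, map_mul, Module.End.mul_apply, hTv, map_smul, ih, smul_smul, pow_succ']
      have hζ1 : ζ ^ Fintype.card H = 1 := by
        refine smul_left_injective ℂ hv0' ?_
        simp only
        rw [← hpow, pow_card_eq_one, map_one, one_smul, Module.End.one_apply]
      have hζm : ζ ∈ place M := isIntegral_mem_place hM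
        ⟨X ^ Fintype.card H - 1, monic_X_pow_sub_C _ Fintype.card_ne_zero, by simp [hζ1]⟩
      rcases hzero_or l hlroot with h0 | h1
      · have hμ' : μ = (ζ - 1) * l := by rw [hζ]; field_simp; ring
        rw [hμ', res_mul (sub_mem hζm (one_mem _)) (hPr l hlroot), h0, mul_zero]
      · have hvW : v ∈ W := (Finset.le_sup (f := fun l => Pl.maxGenEigenspace l)
          (Finset.mem_filter.2 ⟨Multiset.mem_toFinset.2 hlroot, h1⟩))
          (Pl.eigenspace_le_maxGenEigenspace (Module.End.mem_eigenspace_iff.2 hPv))
        rw [map_smul, hfix v hvW, sub_self, eq_comm, smul_eq_zero] at hDv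
        rw [hDv.resolve_right hv0', res_zero]
    obtain ⟨-, hDroots⟩ := roots_res (M := M) D hDmem
    have hnil : IsNilpotent (D.map (res M)) := by
      set q := (D.map (res M)).charpoly with hqdef
      have hq : q = X ^ q.roots.card := by
        have hs : q.roots = Multiset.replicate q.roots.card 0 := Multiset.eq_replicate_card.2 fun a ha => by
          rw [hDroots, Multiset.mem_map] at ha
          obtain ⟨μ, hμ, rfl⟩ := ha
          exact hsmall μ hμ
        have hcard : q.roots.card = q.natDegree := by
          rw [hDroots, Multiset.card_map, ← (IsAlgClosed.splits D.charpoly).natDegree_eq_card_roots,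
            Matrix.charpoly_natDegree_eq_dim, Matrix.charpoly_natDegree_eq_dim]
        conv_lhs => rw [← Polynomial.prod_multiset_X_sub_C_of_monic_of_roots_card_eq (show q.Monic from Matrix.charpoly_monic _) hcard]
        rw [hs, Multiset.map_replicate, Multiset.prod_replicate, map_zero, sub_zero, Multiset.card_replicate]
      refine ⟨q.roots.card, ?_⟩
      have := Matrix.aeval_self_charpoly (D.map (res M))
      rwa [← hqdef, hq, map_pow, aeval_X] at this
    set R : Matrix (Fin n) (Fin n) (Res M) := (ρ h).map φ - 1 with hR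
    have hDB : D.map (res M) = B * R * A := by
      have h1 : D.map (res M) = (trans (Res M) h - 1) * (P.map (res M)) := by
        ext a b
        simp only [Matrix.map_apply, hD, sub_mul, one_mul, Matrix.sub_apply, trans_mul_apply]
        exact res_sub (hPmem _ _) (hPmem _ _)
      have h2 : trans (Res M) h * B = B * (ρ h).map φ := by
        ext a k
        refine (trans_mul_apply h B a k).trans ?_
        simp [hB, map_mul, Matrix.mul_apply]
      rw [h1, hBA, ← Matrix.mul_assoc, Matrix.sub_mul, Matrix.one_mul, hR, Matrix.mul_sub, Matrix.mul_one]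
      exact congrArg (fun Q => (Q - B) * A) h2
    obtain ⟨k, hk⟩ := hnil
    have hBRA : ∀ j, (B * R * A) ^ (j + 1) = B * R ^ (j + 1) * A := by
      intro j
      induction j with
      | zero => simp
      | succ j ih =>
        rw [pow_succ, ih]
        simp only [Matrix.mul_assoc]
        rw [← Matrix.mul_assoc A B (R * A), hAB, Matrix.one_mul, ← Matrix.mul_assoc (R ^ (j + 1)) R A, ← pow_succ]
    have hRk : R ^ (k + 1) = 0 := by
      have h0 : B * R ^ (k + 1) * A = 0 := by
        rw [← hBRA k, ← hDB, pow_succ, hk, zero_mul]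
      have := congrArg (fun Q => A * Q * B) h0
      simp only [Matrix.mul_zero, Matrix.zero_mul] at this
      rwa [← Matrix.mul_assoc A (B * R ^ (k + 1)) A, ← Matrix.mul_assoc A B, hAB, Matrix.one_mul,
        Matrix.mul_assoc, hAB, Matrix.mul_one] at this
    have hρk : ((ρ h) - 1) ^ (k + 1) = 0 := by
      refine Matrix.map_injective φ.injective ?_
      have : φ.mapMatrix (((ρ h) - 1) ^ (k + 1)) = φ.mapMatrix 0 := by
        rw [map_pow, map_sub, map_one, map_zero]
        exact hRk
      exact this
    rcases n with _ | n'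
    · exact hinj (Subsingleton.elim _ _)
    have hpk : ρ (h ^ p ^ (k + 1)) = 1 := by
      have he := sub_pow_char_pow_of_commute p (k + 1) (Commute.one_right (ρ h))
      rw [one_pow] at he
      rw [map_pow, ← sub_eq_zero, ← he]
      refine pow_eq_zero_of_le ?_ hρk
      exact (Nat.lt_pow_self hp.out.one_lt).le
    have hd : orderOf h ∣ p ^ (k + 1) :=
      orderOf_dvd_of_pow_eq_one (hinj (by rw [hpk, map_one]))
    refine orderOf_eq_one_iff.1 (Nat.eq_one_of_dvd_coprimes ?_ hd (orderOf_dvd_card))
    exact Nat.Coprime.pow_left _ (hp.out.coprime_iff_not_dvd.2 hcop)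
  set b := Module.finBasis ℂ W
  refine ⟨finrank ℂ W, hWdim, ((b.equivFun.conjRingEquiv).toRingHom.toMonoidHom).comp σ, ?_⟩
  intro a a' e
  have h1 : σ a = σ a' := (b.equivFun.conjRingEquiv).injective e
  have h2 : σ (a'⁻¹ * a) = 1 := by rw [map_mul, h1, ← map_mul, inv_mul_cancel, map_one]
  exact (inv_mul_eq_one.1 (hσ _ h2)).symm

end lift

end Cfsg.Lib.Blocks.CoprimeTransitive
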