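import Cfsg.Agent.Blocks.CoprimeTransitive.Classes

/-!
# Class numbers of groups with abelian centralisers that are almost self-normalising

If every non-central centraliser is abelian and meets each class in at most two elements then the class
number is at least a quarter of the order, with two exceptions.
-/

set_option autoImplicit false
set_option linter.unusedSectionVars false
set_option linter.style.haveILetI false

namespace Cfsg.Lib.Blocks.CoprimeTransitive

open Subgroup

/-- The hypothesis. -/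
structure AbelianCentralisers (H : Type*) [Group H] : Prop where
  comm : ∀ x : H, x ∉ center H → ∀ a ∈ centralizer ({x} : Set H), ∀ b ∈ centralizer ({x} : Set H), a * b = b * a
  two : ∀ x : H, x ∉ center H →
    Nat.card {y : H // y ∈ centralizer ({x} : Set H) ∧ IsConj x y} ≤ 2

variable {H : Type*} [Group H] [Finite H]

/-- The arithmetic of the partition. -/
theorem partition_arith {ι : Type*} (s : Finset ι) (a f : ι → ℕ) (g : ℕ) (hg : 2 ≤ g)
    (ha : ∀ i ∈ s, 2 ≤ a i) (hf : ∀ i ∈ s, f i = 1 ∨ f i = 2) (hfa : ∀ i ∈ s, f i * a i ≤ g)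
    (had : ∀ i ∈ s, a i ∣ g)
    (hne : ∀ i ∈ s, a i ≠ g)
    (heq : ∑ i ∈ s, ((a i : ℚ) - 1) / (f i * a i) = 1 - 1 / g) :
    ((∃ i ∈ s, 2 * a i = g) ∧ (g : ℚ) / 4 ≤ 1 + ∑ i ∈ s, ((a i : ℚ) - 1) / f i) ∨
      (((g = 12 ∧ 1 + ∑ i ∈ s, ((a i : ℚ) - 1) / f i = 7 / 2) ∨
        (g = 24 ∧ 1 + ∑ i ∈ s, ((a i : ℚ) - 1) / f i = 4) ∨
        (g = 60 ∧ 1 + ∑ i ∈ s, ((a i : ℚ) - 1) / f i = 9 / 2)) ∧ ∀ i ∈ s, a i ≤ 5) := by
  classical
  have hg' : (2 : ℚ) ≤ g := by exact_mod_cast hg
  have hg0 : (0 : ℚ) < 1 / g := by positivity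
  have hterm : ∀ i ∈ s, (1 / 4 : ℚ) ≤ ((a i : ℚ) - 1) / (f i * a i) := by
    intro i hi
    have h2 : (2 : ℚ) ≤ a i := by exact_mod_cast ha i hi
    rcases hf i hi with h | h <;> rw [h] <;> push_cast <;> rw [le_div_iff₀ (by positivity)] <;> nlinarith
  have hcard : s.card ≤ 3 := by
    by_contra h
    have h1 := Finset.card_nsmul_le_sum s _ _ hterm
    rw [heq, nsmul_eq_mul] at h1
    have : (4 : ℚ) ≤ s.card := by exact_mod_cast (by omega : 4 ≤ s.card)
    nlinarith
  interval_cases hc : s.card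
  · rw [Finset.card_eq_zero.1 hc, Finset.sum_empty] at heq
    have : (1 : ℚ) / g ≤ 1 / 2 := one_div_le_one_div_of_le (by norm_num) hg'
    linarith
  · obtain ⟨i, rfl⟩ := Finset.card_eq_one.1 hc
    have hi := Finset.mem_singleton_self i
    rw [Finset.sum_singleton] at heq
    exfalso
    have h2 : (2 : ℚ) ≤ a i := by exact_mod_cast ha i hi
    rcases hf i hi with h | h <;> rw [h] at heq <;> push_cast at heq
    · have : (a i : ℚ) = g := by field_simp at heq; linarith
      exact hne i hi (by exact_mod_cast this)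
    · have : ((a i : ℚ) - 1) / (2 * a i) < 1 / 2 := by rw [div_lt_iff₀ (by positivity)]; linarith
      have : (1 : ℚ) / g ≤ 1 / 2 := one_div_le_one_div_of_le (by norm_num) hg'
      linarith
  · obtain ⟨i₀, j₀, hij, rfl⟩ := Finset.card_eq_two.1 hc
    have hi : i₀ ∈ ({i₀, j₀} : Finset ι) := by simp
    have hj : j₀ ∈ ({i₀, j₀} : Finset ι) := by simp
    simp only [Finset.sum_pair hij] at heq ⊢
    have two : ∀ i j : ι, i ∈ ({i₀, j₀} : Finset ι) → j ∈ ({i₀, j₀} : Finset ι) → (f i ≤ f j) →
        ((a i : ℚ) - 1) / (f i * a i) + ((a j : ℚ) - 1) / (f j * a j) = 1 - 1 / g →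
        (2 * a j = g ∧ (g : ℚ) / 4 ≤ 1 + (((a i : ℚ) - 1) / f i + ((a j : ℚ) - 1) / f j)) ∨
          (g = 12 ∧ 1 + (((a i : ℚ) - 1) / f i + ((a j : ℚ) - 1) / f j) = 7 / 2 ∧ a i ≤ 5 ∧ a j ≤ 5) := by
      intro i j hi hj hfij heq
      have h2i : (2 : ℚ) ≤ a i := by exact_mod_cast ha i hi
      have h2j : (2 : ℚ) ≤ a j := by exact_mod_cast ha j hj
      have hai := ha i hi
      have haj := ha j hj
      rcases hf j hj with hfj | hfj
      · exfalso
        have hfi : f i = 1 := by rcases hf i hi with h | h <;> omega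
        rw [hfi, hfj] at heq
        push_cast at heq
        have h3 : ∀ x : ℚ, 2 ≤ x → 1 / 2 ≤ (x - 1) / (1 * x) := fun x hx => by
          rw [le_div_iff₀ (by linarith)]; linarith
        linarith [h3 _ h2i, h3 _ h2j]
      rcases hf i hi with hfi | hfi
      · rw [hfi, hfj] at heq ⊢
        push_cast at heq ⊢
        have key : (1 : ℚ) / a i + 1 / (2 * a j) = 1 / 2 + 1 / g := by
          field_simp at heq ⊢; linarith
        rcases (by omega : a i = 2 ∨ 3 ≤ a i) with h | h
        · rw [h] at key ⊢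
          push_cast at key ⊢
          have hgj : (2 * a j : ℚ) = g := by field_simp at key; linarith
          exact Or.inl ⟨by exact_mod_cast hgj, by linarith⟩
        · have h3 : (3 : ℚ) ≤ a i := by exact_mod_cast h
          have hle : (1 : ℚ) / a i ≤ 1 / 3 := one_div_le_one_div_of_le (by norm_num) h3
          have haj2 : a j = 2 := by
            by_contra hne'
            have hq : (3 : ℚ) ≤ a j := by exact_mod_cast (by omega : 3 ≤ a j)
            have : (1 : ℚ) / (2 * a j) ≤ 1 / 6 := one_div_le_one_div_of_le (by norm_num) (by linarith)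
            linarith
          rw [haj2] at key ⊢
          push_cast at key ⊢
          have hai3 : a i = 3 := by
            by_contra hne'
            have hq : (4 : ℚ) ≤ a i := by exact_mod_cast (by omega : 4 ≤ a i)
            have : (1 : ℚ) / a i ≤ 1 / 4 := one_div_le_one_div_of_le (by norm_num) hq
            linarith
          rw [hai3] at key ⊢
          push_cast at key ⊢
          have hg12 : (g : ℚ) = 12 := by field_simp at key; linarith
          exact Or.inr ⟨by exact_mod_cast hg12, by norm_num, by norm_num, by norm_num⟩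
      · exfalso
        rw [hfi, hfj] at heq
        push_cast at heq
        have key : (1 : ℚ) / (2 * a i) + 1 / (2 * a j) = 1 / g := by field_simp at heq ⊢; linarith
        have hgi : ((2 * a i : ℕ) : ℚ) ≤ g := by exact_mod_cast (hfi ▸ hfa i hi)
        push_cast at hgi
        have : (1 : ℚ) / g ≤ 1 / (2 * a i) := one_div_le_one_div_of_le (by linarith) hgi
        have : (0 : ℚ) < 1 / (2 * a j) := by positivity
        linarith
    rcases le_total (f i₀) (f j₀) with h | h
    · rcases two i₀ j₀ hi hj h heq with ⟨h1, h2⟩ | ⟨h1, h2, h3, h4⟩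
      · exact Or.inl ⟨⟨j₀, hj, h1⟩, h2⟩
      · exact Or.inr ⟨Or.inl ⟨h1, h2⟩, by simp [h3, h4]⟩
    · rw [add_comm (((a i₀ : ℚ) - 1) / f i₀)]
      rcases two j₀ i₀ hj hi h (by rw [add_comm]; exact heq) with ⟨h1, h2⟩ | ⟨h1, h2, h3, h4⟩
      · exact Or.inl ⟨⟨i₀, hi, h1⟩, h2⟩
      · exact Or.inr ⟨Or.inl ⟨h1, h2⟩, by simp [h3, h4]⟩
  · obtain ⟨i, j, l, hij, hil, hjl, rfl⟩ := Finset.card_eq_three.1 hc
    have hi : i ∈ ({i, j, l} : Finset ι) := by simp
    have hj : j ∈ ({i, j, l} : Finset ι) := by simp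
    have hl : l ∈ ({i, j, l} : Finset ι) := by simp
    have hsum : ∀ F : ι → ℚ, ∑ x ∈ ({i, j, l} : Finset ι), F x = F i + F j + F l := fun F => by
      rw [Finset.sum_insert (by simp [hij, hil]), Finset.sum_pair hjl, add_assoc]
    have h14 : ∀ x ∈ ({i, j, l} : Finset ι), f x = 1 → (1 / 2 : ℚ) ≤ ((a x : ℚ) - 1) / (f x * a x) := by
      intro x hx h
      have : (2 : ℚ) ≤ a x := by exact_mod_cast ha x hx
      rw [h, Nat.cast_one, one_mul, le_div_iff₀ (by positivity)]
      linarith
    rw [hsum] at heq ⊢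
    have hf2 : f i = 2 ∧ f j = 2 ∧ f l = 2 := by
      refine ⟨(hf i hi).resolve_left fun h => ?_, (hf j hj).resolve_left fun h => ?_, (hf l hl).resolve_left fun h => ?_⟩
      · linarith [h14 i hi h, hterm j hj, hterm l hl]
      · linarith [h14 j hj h, hterm i hi, hterm l hl]
      · linarith [h14 l hl h, hterm i hi, hterm j hj]
    obtain ⟨hfi, hfj, hfl⟩ := hf2
    rw [hfi, hfj, hfl] at heq ⊢
    push_cast at heq ⊢
    have key : (1 : ℚ) / a i + 1 / a j + 1 / a l = 1 + 2 / g := by
      have h2i : (2 : ℚ) ≤ a i := by exact_mod_cast ha i hi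
      have h2j : (2 : ℚ) ≤ a j := by exact_mod_cast ha j hj
      have h2l : (2 : ℚ) ≤ a l := by exact_mod_cast ha l hl
      field_simp at heq ⊢
      linarith
    -- sort
    have main : ∀ x y z : ℕ, 2 ≤ x → x ≤ y → y ≤ z → (1 : ℚ) / x + 1 / y + 1 / z = 1 + 2 / g →
        (2 * z = g ∧ (g : ℚ) / 4 ≤ 1 + (((x : ℚ) - 1) / 2 + ((y : ℚ) - 1) / 2 + ((z : ℚ) - 1) / 2)) ∨
          (((g = 12 ∧ 1 + (((x : ℚ) - 1) / 2 + ((y : ℚ) - 1) / 2 + ((z : ℚ) - 1) / 2) = 7 / 2) ∨
            (g = 24 ∧ 1 + (((x : ℚ) - 1) / 2 + ((y : ℚ) - 1) / 2 + ((z : ℚ) - 1) / 2) = 4) ∨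
            (g = 60 ∧ 1 + (((x : ℚ) - 1) / 2 + ((y : ℚ) - 1) / 2 + ((z : ℚ) - 1) / 2) = 9 / 2)) ∧ z ≤ 5) := by
      intro x y z hx hxy hyz he
      have hgp : (0 : ℚ) < 2 / g := by positivity
      have b : ∀ m n : ℕ, 0 < m → m ≤ n → (1 : ℚ) / n ≤ 1 / m := fun m n hm hmn =>
        one_div_le_one_div_of_le (by exact_mod_cast hm) (by exact_mod_cast hmn)
      have hx2 : x = 2 := by
        by_contra h
        have h1 := b 3 x (by norm_num) (by omega)
        have h2 := b 3 y (by norm_num) (by omega)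
        have h3 := b 3 z (by norm_num) (by omega)
        push_cast at h1 h2 h3
        linarith
      subst hx2
      rcases (by omega : y = 2 ∨ y = 3 ∨ 4 ≤ y) with rfl | rfl | h
      · push_cast at he ⊢
        have hz0 : (0 : ℚ) < z := by exact_mod_cast (by omega : 0 < z)
        have : (2 * z : ℚ) = g := by field_simp at he; linarith
        left; exact ⟨by exact_mod_cast this, by linarith⟩
      · rcases (by omega : z = 3 ∨ z = 4 ∨ z = 5 ∨ 6 ≤ z) with rfl | rfl | rfl | h6
        · push_cast at he ⊢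
          have : (g : ℚ) = 12 := by field_simp at he; linarith
          right; exact ⟨Or.inl ⟨by exact_mod_cast this, by norm_num⟩, by norm_num⟩
        · push_cast at he ⊢
          have : (g : ℚ) = 24 := by field_simp at he; linarith
          right; exact ⟨Or.inr (Or.inl ⟨by exact_mod_cast this, by norm_num⟩), by norm_num⟩
        · push_cast at he ⊢
          have : (g : ℚ) = 60 := by field_simp at he; linarith
          right; exact ⟨Or.inr (Or.inr ⟨by exact_mod_cast this, by norm_num⟩), by norm_num⟩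
        · have h3 := b 6 z (by norm_num) h6
          push_cast at he h3
          linarith
      · have h2 := b 4 y (by norm_num) h
        have h3 := b 4 z (by norm_num) (by omega)
        push_cast at he h2 h3
        linarith
    have hi2 := ha i hi
    have hj2 := ha j hj
    have hl2 := ha l hl
    have hall : ∀ m : ℕ, a i ≤ m → a j ≤ m → a l ≤ m → ∀ x ∈ ({i, j, l} : Finset ι), a x ≤ m := by
      intro m h1 h2 h3 x hx
      simp only [Finset.mem_insert, Finset.mem_singleton] at hx
      rcases hx with rfl | rfl | rfl <;> assumption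
    have fin : ∀ x y w : ℕ, 2 ≤ x → x ≤ y → y ≤ w →
        (1 : ℚ) / x + 1 / y + 1 / w = 1 / a i + 1 / a j + 1 / a l →
        (x : ℚ) + y + w = a i + a j + a l → (a i ≤ w ∧ a j ≤ w ∧ a l ≤ w) →
        (∃ k ∈ ({i, j, l} : Finset ι), a k = w) →
        ((∃ k ∈ ({i, j, l} : Finset ι), 2 * a k = g) ∧
          (g : ℚ) / 4 ≤ 1 + (((a i : ℚ) - 1) / 2 + ((a j : ℚ) - 1) / 2 + ((a l : ℚ) - 1) / 2)) ∨
          (((g = 12 ∧ 1 + (((a i : ℚ) - 1) / 2 + ((a j : ℚ) - 1) / 2 + ((a l : ℚ) - 1) / 2) = 7 / 2) ∨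
            (g = 24 ∧ 1 + (((a i : ℚ) - 1) / 2 + ((a j : ℚ) - 1) / 2 + ((a l : ℚ) - 1) / 2) = 4) ∨
            (g = 60 ∧ 1 + (((a i : ℚ) - 1) / 2 + ((a j : ℚ) - 1) / 2 + ((a l : ℚ) - 1) / 2) = 9 / 2)) ∧
            ∀ x ∈ ({i, j, l} : Finset ι), a x ≤ 5) := by
      intro x y w hx hxy hyw he hs hmx ⟨k, hk, hkw⟩
      rcases main x y w hx hxy hyw (he.trans key) with ⟨h0, h⟩ | ⟨h, h''⟩
      · exact Or.inl ⟨⟨k, hk, hkw ▸ h0⟩, by linarith⟩
      · refine Or.inr ⟨?_, hall 5 (by omega) (by omega) (by omega)⟩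
        rcases h with ⟨h, h'⟩ | ⟨h, h'⟩ | ⟨h, h'⟩
        · exact Or.inl ⟨h, by linarith⟩
        · exact Or.inr (Or.inl ⟨h, by linarith⟩)
        · exact Or.inr (Or.inr ⟨h, by linarith⟩)
    rcases le_total (a i) (a j) with h1 | h1
    · rcases le_total (a j) (a l) with h2 | h2
      · exact fin (a i) (a j) (a l) hi2 (by omega) (by omega) (by ring) (by ring) (by omega) ⟨l, hl, rfl⟩
      · rcases le_total (a i) (a l) with h3 | h3
        · exact fin (a i) (a l) (a j) hi2 (by omega) (by omega) (by ring) (by ring) (by omega) ⟨j, hj, rfl⟩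
        · exact fin (a l) (a i) (a j) hl2 (by omega) (by omega) (by ring) (by ring) (by omega) ⟨j, hj, rfl⟩
    · rcases le_total (a j) (a l) with h2 | h2
      · rcases le_total (a i) (a l) with h3 | h3
        · exact fin (a j) (a i) (a l) hj2 (by omega) (by omega) (by ring) (by ring) (by omega) ⟨l, hl, rfl⟩
        · exact fin (a j) (a l) (a i) hj2 (by omega) (by omega) (by ring) (by ring) (by omega) ⟨i, hi, rfl⟩
      · exact fin (a l) (a j) (a i) hl2 (by omega) (by omega) (by ring) (by ring) (by omega) ⟨i, hi, rfl⟩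

theorem centralizer_eq_of_mem (hA : AbelianCentralisers H) {x y : H} (hx : x ∉ center H) (hy : y ∉ center H)
    (hyx : y ∈ centralizer ({x} : Set H)) : centralizer ({y} : Set H) = centralizer ({x} : Set H) := by
  have hxy : x ∈ centralizer ({y} : Set H) :=
    mem_centralizer_singleton_iff.2 (mem_centralizer_singleton_iff.1 hyx).symm
  refine le_antisymm (fun z hz => mem_centralizer_singleton_iff.2 (hA.comm y hy z hz x hxy)) fun z hz =>
    mem_centralizer_singleton_iff.2 (hA.comm x hx z hz y hyx)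

theorem centralizer_conj (g x : H) :
    (centralizer ({x} : Set H)).map (MulAut.conj g).toMonoidHom = centralizer ({g * x * g⁻¹} : Set H) := by
  ext z
  rw [Subgroup.mem_map_equiv, mem_centralizer_singleton_iff, mem_centralizer_singleton_iff, MulAut.conj_symm_apply]
  constructor
  · intro h
    calc z * (g * x * g⁻¹) = g * ((g⁻¹ * z * g) * x) * g⁻¹ := by group
      _ = g * (x * (g⁻¹ * z * g)) * g⁻¹ := by rw [h]
      _ = g * x * g⁻¹ * z := by group
  · intro h
    calc g⁻¹ * z * g * x = g⁻¹ * (z * (g * x * g⁻¹)) * g := by group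
      _ = g⁻¹ * (g * x * g⁻¹ * z) * g := by rw [h]
      _ = x * (g⁻¹ * z * g) := by group

/-- A large abelian subgroup of index two or one of three small quotients. -/
theorem two_dim_shape (hA : AbelianCentralisers H) (hcomm : center H ≠ ⊤) :
    (Nat.card H ≤ 4 * Nat.card (ConjClasses H) ∧
      ∃ x : H, x ∉ center H ∧ 2 * Nat.card ↥(centralizer ({x} : Set H)) = Nat.card H) ∨
      (((Nat.card H = 12 * Nat.card (center H) ∧ 2 * Nat.card (ConjClasses H) = 7 * Nat.card (center H)) ∨
        (Nat.card H = 24 * Nat.card (center H) ∧ Nat.card (ConjClasses H) = 4 * Nat.card (center H)) ∨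
        (Nat.card H = 60 * Nat.card (center H) ∧ 2 * Nat.card (ConjClasses H) = 9 * Nat.card (center H))) ∧
        ∀ x : H, x ∉ center H → Nat.card ↥(centralizer ({x} : Set H)) ≤ 5 * Nat.card (center H)) := by
  classical
  haveI := Fintype.ofFinite H
  haveI := Fintype.ofFinite (ConjClasses H)
  haveI : DecidableEq (Subgroup H) := Classical.decEq _
  set Z := center H with hZ
  set z := Nat.card Z with hz
  set N := Nat.card H with hN
  set g := Z.index with hg
  have hNg : z * g = N := Z.card_mul_index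
  have hz0 : 0 < z := Nat.card_pos
  have hg0 : 0 < g := Nat.pos_of_ne_zero Subgroup.index_ne_zero_of_finite
  have hg2 : 2 ≤ g := by
    by_contra h
    exact hcomm (Subgroup.index_eq_one.1 (by omega : g = 1))
  set orb : Subgroup H → Finset (Subgroup H) := fun A =>
    Finset.univ.image fun t : H => A.map (MulAut.conj t).toMonoidHom with horb
  have horb_eq : ∀ t x : H, orb (centralizer ({t * x * t⁻¹} : Set H)) = orb (centralizer ({x} : Set H)) := by
    intro t x
    ext B
    simp only [horb, Finset.mem_image, Finset.mem_univ, true_and]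
    constructor
    · rintro ⟨u, rfl⟩
      exact ⟨u * t, by rw [centralizer_conj, centralizer_conj]; congr 2; group⟩
    · rintro ⟨u, rfl⟩
      exact ⟨u * t⁻¹, by rw [centralizer_conj, centralizer_conj]; congr 2; group⟩
  let key : ConjClasses H → Finset (Subgroup H) := fun C => orb (centralizer ({C.out} : Set H))
  have hout : ∀ C : ConjClasses H, ConjClasses.mk C.out = C := fun C => Quotient.out_eq C
  have hkey : ∀ x : H, key (ConjClasses.mk x) = orb (centralizer ({x} : Set H)) := by
    intro x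
    obtain ⟨t, ht⟩ := isConj_iff.1 (ConjClasses.mk_eq_mk_iff_isConj.1 (hout (ConjClasses.mk x)).symm)
    show orb _ = _
    rw [← ht, horb_eq]
  set S : Finset (ConjClasses H) := Finset.univ.filter fun C => C.out ∉ Z with hS
  set K := S.image key with hK
  have hnot : ∀ x : H, x ∉ Z → ConjClasses.mk x ∈ S := fun x hx => by
    refine Finset.mem_filter.2 ⟨Finset.mem_univ _, fun h => hx ?_⟩
    obtain ⟨t, ht⟩ := isConj_iff.1 (ConjClasses.mk_eq_mk_iff_isConj.1 (hout (ConjClasses.mk x)))
    rw [← ht]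
    exact (inferInstance : Z.Normal).conj_mem _ h t
  -- the data attached to a key
  have hdata : ∀ κ ∈ K, ∃ a f : ℕ, 2 ≤ a ∧ (f = 1 ∨ f = 2) ∧ f * a ≤ g ∧ a ∣ g ∧ a ≠ g ∧
      (S.filter fun C => key C = κ).card * f = (a - 1) * z ∧
      ∀ C ∈ S.filter fun C => key C = κ, Nat.card ↥(centralizer ({C.out} : Set H)) = a * z := by
    intro κ hκ
    obtain ⟨C₀, hC₀, rfl⟩ := Finset.mem_image.1 hκ
    have hx₀ : C₀.out ∉ Z := (Finset.mem_filter.1 hC₀).2
    set x₀ := C₀.out
    set A := centralizer ({x₀} : Set H) with hAdef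
    have hZA : Z ≤ A := center_le_centralizer _
    have hx₀A : x₀ ∈ A := mem_centralizer_singleton_iff.2 rfl
    obtain ⟨a, ha⟩ : z ∣ Nat.card A := Subgroup.card_dvd_of_le hZA
    set R := normalizer (A : Set H)
    have hAR : A ≤ R := le_normalizer
    -- orbit of the normaliser
    have horbit : ∀ x ∈ A, x ∉ Z → ∀ B : Finset H, (∀ y, y ∈ B ↔ (y ∈ A ∧ y ∉ Z) ∧ IsConj x y) →
        B.card = A.relIndex R := by
      intro x hxA hxZ B hB
      have hAx : centralizer ({x} : Set H) = A := centralizer_eq_of_mem hA hx₀ hxZ hxA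
      let e : (R ⧸ A.subgroupOf R) ≃ {y // y ∈ B} := by
        refine Equiv.ofBijective (Quotient.lift (fun r : R => (⟨(r : H) * x * (r : H)⁻¹, (hB _).2
          ⟨⟨(Subgroup.mem_normalizer_iff.1 r.2 x).1 hxA, fun h => hxZ (by
            have := (inferInstance : Z.Normal).conj_mem _ h (r : H)⁻¹
            simpa [mul_assoc] using this)⟩, isConj_iff.2 ⟨_, rfl⟩⟩⟩ : {y // y ∈ B})) ?_) ⟨?_, ?_⟩
        · intro r r' h
          have h' := QuotientGroup.leftRel_apply.1 h
          rw [Subgroup.mem_subgroupOf, Subgroup.coe_mul, Subgroup.coe_inv, ← hAx, mem_centralizer_singleton_iff] at h'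
          refine Subtype.ext ?_
          show (r : H) * x * (r : H)⁻¹ = (r' : H) * x * (r' : H)⁻¹
          calc (r : H) * x * (r : H)⁻¹ = r * (x * ((r : H)⁻¹ * r')) * (r' : H)⁻¹ := by group
            _ = r * (((r : H)⁻¹ * r') * x) * (r' : H)⁻¹ := by rw [h']
            _ = (r' : H) * x * (r' : H)⁻¹ := by group
        · rintro ⟨r⟩ ⟨r'⟩ h
          have h' : (r : H) * x * (r : H)⁻¹ = (r' : H) * x * (r' : H)⁻¹ := congrArg Subtype.val h
          refine Quotient.sound (QuotientGroup.leftRel_apply.2 ?_)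
          rw [Subgroup.mem_subgroupOf, Subgroup.coe_mul, Subgroup.coe_inv, ← hAx, mem_centralizer_singleton_iff]
          calc (r : H)⁻¹ * r' * x = (r : H)⁻¹ * ((r' : H) * x * (r' : H)⁻¹) * r' := by group
            _ = (r : H)⁻¹ * ((r : H) * x * (r : H)⁻¹) * r' := by rw [h']
            _ = x * ((r : H)⁻¹ * r') := by group
        · rintro ⟨y, hy⟩
          obtain ⟨⟨hyA, hyZ⟩, hc⟩ := (hB y).1 hy
          obtain ⟨t, rfl⟩ := isConj_iff.1 hc
          have htR : t ∈ R := by
            have h1 : A.map (MulAut.conj t).toMonoidHom = A := by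
              conv_lhs => rw [← hAx]
              rw [centralizer_conj, centralizer_eq_of_mem hA hx₀ hyZ hyA]
            refine Subgroup.mem_normalizer_iff.2 fun w => ?_
            conv_rhs => rw [← h1, Subgroup.mem_map_equiv, MulAut.conj_symm_apply]
            rw [show t⁻¹ * (t * w * t⁻¹) * t = w by group]
          exact ⟨Quotient.mk'' ⟨t, htR⟩, rfl⟩
      rw [Subgroup.relIndex, Subgroup.index, Nat.card_congr e, Nat.card_eq_fintype_card, Fintype.card_coe]
    set f := A.relIndex R with hf
    have hf2 : f ≤ 2 := by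
      refine le_trans ?_ (hA.two x₀ hx₀)
      rw [← horbit x₀ hx₀A hx₀ (Finset.univ.filter fun y => (y ∈ A ∧ y ∉ Z) ∧ IsConj x₀ y) (by simp),
        Nat.card_eq_fintype_card, Fintype.card_subtype]
      refine Finset.card_le_card fun y hy => ?_
      simp only [Finset.mem_filter, Finset.mem_univ, true_and] at hy ⊢
      exact ⟨hy.1.1, hy.2⟩
    have hf0 : 0 < f := Nat.pos_of_ne_zero (by rw [hf]; exact Subgroup.index_ne_zero_of_finite)
    have hAN : Nat.card A * f = Nat.card R := by
      rw [hf]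
      have := Subgroup.relIndex_mul_relIndex ⊥ A R bot_le hAR
      simpa [Subgroup.relIndex_bot_left] using this
    have ha2 : 2 ≤ a := by
      rcases a with _ | _ | a
      · rw [mul_zero] at ha; exact absurd ha Nat.card_pos.ne'
      · exfalso
        exact hx₀ ((Subgroup.eq_of_le_of_card_ge hZA (by rw [ha, hz]; simp)).symm ▸ hx₀A)
      · omega
    have hag : a ∣ g := Nat.dvd_of_mul_dvd_mul_left hz0 (by rw [← ha, hNg]; exact Subgroup.card_subgroup_dvd_card A)
    have hane : a ≠ g := by
      intro h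
      have hAtop : A = ⊤ := Subgroup.eq_top_of_card_eq _ (by rw [ha, h, hNg])
      exact hx₀ (Subgroup.mem_center_iff.2 fun w => mem_centralizer_singleton_iff.1 (hAtop ▸ mem_top w : w ∈ A))
    have hfa : f * a ≤ g := by
      refine Nat.le_of_mul_le_mul_left ?_ hz0
      calc z * (f * a) = Nat.card A * f := by rw [ha]; ring
        _ = Nat.card R := hAN
        _ ≤ N := Nat.le_of_dvd (Nat.card_pos) (Subgroup.card_subgroup_dvd_card R)
        _ = z * g := hNg.symm
    set A0 : Finset H := Finset.univ.filter fun y => y ∈ A ∧ y ∉ Z with hA0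
    have hA0card : A0.card = (a - 1) * z := by
      have h1 : (Finset.univ.filter fun y => y ∈ A).card = Nat.card A := by
        rw [Nat.card_eq_fintype_card, Fintype.card_subtype]
      have h2 : (Finset.univ.filter fun y => y ∈ Z).card = z := by
        rw [hz, Nat.card_eq_fintype_card, Fintype.card_subtype]
      have h3 : A0 = (Finset.univ.filter fun y => y ∈ A) \ (Finset.univ.filter fun y => y ∈ Z) := by
        ext y; simp [hA0]
      rw [h3, Finset.card_sdiff_of_subset (fun y hy => by simp at hy ⊢; exact hZA hy), h1, h2, ha,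
        Nat.sub_mul, one_mul, mul_comm]
    have hfib : (S.filter fun C => key C = key C₀) = A0.image ConjClasses.mk := by
      ext C
      simp only [Finset.mem_filter, Finset.mem_image, hA0, Finset.mem_univ, true_and]
      constructor
      · rintro ⟨hCS, hk⟩
        have hCZ : C.out ∉ Z := (Finset.mem_filter.1 hCS).2
        have hmem : A ∈ key C := by
          rw [hk]
          exact Finset.mem_image.2 ⟨1, Finset.mem_univ _, by rw [centralizer_conj, one_mul, inv_one, mul_one]⟩
        obtain ⟨t, -, ht⟩ := Finset.mem_image.1 hmem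
        rw [centralizer_conj] at ht
        refine ⟨t * C.out * t⁻¹, ⟨ht ▸ mem_centralizer_singleton_iff.2 rfl, fun h => hCZ ?_⟩, ?_⟩
        · have := (inferInstance : Z.Normal).conj_mem _ h t⁻¹
          simpa [mul_assoc] using this
        · rw [← hout C]
          exact ConjClasses.mk_eq_mk_iff_isConj.2 (isConj_iff.2 ⟨t⁻¹, by rw [hout C]; group⟩)
      · rintro ⟨y, ⟨hyA, hyZ⟩, rfl⟩
        exact ⟨hnot y hyZ, by rw [hkey, centralizer_eq_of_mem hA hx₀ hyZ hyA]⟩
    refine ⟨a, f, ha2, by omega, hfa, hag, hane, ?_, ?_⟩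
    · rw [hfib, ← hA0card, Finset.card_eq_sum_card_image ConjClasses.mk A0]
      rw [Finset.sum_const_nat (m := f)]
      intro C hC
      obtain ⟨x, hx, rfl⟩ := Finset.mem_image.1 hC
      simp only [hA0, Finset.mem_filter, Finset.mem_univ, true_and] at hx
      refine horbit x hx.1 hx.2 _ fun y => ?_
      simp only [hA0, Finset.mem_filter, Finset.mem_univ, true_and]
      exact and_congr_right fun _ => ⟨fun h => (ConjClasses.mk_eq_mk_iff_isConj.1 h).symm,
        fun h => (ConjClasses.mk_eq_mk_iff_isConj.2 h).symm⟩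
    · intro C hC
      rw [hfib] at hC
      obtain ⟨y, hy, rfl⟩ := Finset.mem_image.1 hC
      simp only [hA0, Finset.mem_filter, Finset.mem_univ, true_and] at hy
      obtain ⟨t, ht⟩ := isConj_iff.1 (ConjClasses.mk_eq_mk_iff_isConj.1 (hout (ConjClasses.mk y)).symm)
      rw [← ht, ← centralizer_conj, Nat.card_congr (Subgroup.equivMapOfInjective _ _
        (MulAut.conj t).injective).symm.toEquiv, centralizer_eq_of_mem hA hx₀ hy.2 hy.1, ← hAdef, ha, mul_comm]
  choose! a f ha hf hfa had hne hm hcent using hdata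
  -- the class sizes
  have hcs : ∀ C : ConjClasses H, Nat.card C.carrier * Nat.card ↥(centralizer ({C.out} : Set H)) = N := by
    intro C
    conv_lhs => rw [show C.carrier = (ConjClasses.mk C.out).carrier by rw [hout]]
    exact card_carrier_mul _
  have hcentral : ∀ C ∈ Finset.univ.filter (fun C : ConjClasses H => ¬ C.out ∉ Z), Nat.card C.carrier = 1 := by
    intro C hC
    have hC' : C.out ∈ Z := not_not.1 (Finset.mem_filter.1 hC).2
    have := hcs C
    rw [show centralizer ({C.out} : Set H) = ⊤ from top_unique fun w _ =>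
      mem_centralizer_singleton_iff.2 (Subgroup.mem_center_iff.1 hC' w), Subgroup.card_top] at this
    exact Nat.eq_of_mul_eq_mul_right (Nat.card_pos : 0 < N) (by rw [this, one_mul])
  have hzc : (Finset.univ.filter fun C : ConjClasses H => ¬ C.out ∉ Z).card = z := by
    have hmk : ∀ w ∈ Z, ∀ v, IsConj v w → v = w := fun w hw v hv => by
      obtain ⟨t, ht⟩ := isConj_iff.1 hv.symm
      rw [← ht, Subgroup.mem_center_iff.1 hw t, mul_inv_cancel_right]
    rw [hz, Nat.card_eq_fintype_card, Fintype.card_subtype]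
    refine Finset.card_bij' (fun C _ => C.out) (fun w _ => ConjClasses.mk w) ?_ ?_ ?_ ?_
    · intro C hC; simpa using hC
    · intro w hw
      simp only [Finset.mem_filter, Finset.mem_univ, true_and, not_not] at hw ⊢
      rw [hmk w hw _ (ConjClasses.mk_eq_mk_iff_isConj.1 (hout (ConjClasses.mk w)))]
      exact hw
    · intro C _; exact hout C
    · intro w hw
      simp only [Finset.mem_filter, Finset.mem_univ, true_and] at hw
      exact hmk w hw _ (ConjClasses.mk_eq_mk_iff_isConj.1 (hout (ConjClasses.mk w)))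
  have hk : Nat.card (ConjClasses H) = z + ∑ κ ∈ K, (S.filter fun C => key C = κ).card := by
    rw [← Finset.card_eq_sum_card_image key S, ← hzc, Nat.card_eq_fintype_card, ← Finset.card_univ, hS,
      add_comm, Finset.card_filter_add_card_filter_not]
  have hsum : z + ∑ κ ∈ K, ∑ C ∈ S.filter (fun C => key C = κ), Nat.card C.carrier = N := by
    rw [Finset.sum_fiberwise_of_maps_to (fun C hC => Finset.mem_image_of_mem key hC), hS, show N = ∑ C : ConjClasses H, Nat.card C.carrier from sum_carrier.symm,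
      ← Finset.sum_filter_add_sum_filter_not Finset.univ (fun C : ConjClasses H => C.out ∉ Z), add_comm,
      Finset.sum_congr rfl hcentral, Finset.sum_const, hzc, smul_eq_mul, mul_one]
  -- rational form
  have hzq : (0 : ℚ) < z := by exact_mod_cast hz0
  have hgq : (0 : ℚ) < g := by exact_mod_cast hg0
  have hmq : ∀ κ ∈ K, (((S.filter fun C => key C = κ).card : ℕ) : ℚ) = ((a κ : ℚ) - 1) / f κ * z := by
    intro κ hκ
    have h := congrArg (Nat.cast : ℕ → ℚ) (hm κ hκ)
    push_cast [Nat.cast_sub (by linarith [ha κ hκ] : 1 ≤ a κ)] at h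
    have hf0 : (f κ : ℚ) ≠ 0 := by rcases hf κ hκ with h' | h' <;> rw [h'] <;> norm_num
    rw [div_mul_eq_mul_div, eq_div_iff hf0]
    exact h
  have heq : ∑ κ ∈ K, ((a κ : ℚ) - 1) / (f κ * a κ) = 1 - 1 / g := by
    have h := congrArg (Nat.cast : ℕ → ℚ) hsum
    push_cast at h
    have h2 : ∀ κ ∈ K, ∑ C ∈ S.filter (fun C => key C = κ), (Nat.card C.carrier : ℚ) =
        ((a κ : ℚ) - 1) / (f κ * a κ) * N := by
      intro κ hκ
      have h3 : ∀ C ∈ S.filter (fun C => key C = κ), (Nat.card C.carrier : ℚ) = N / (a κ * z) := fun C hC => by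
        have h4 := congrArg (Nat.cast : ℕ → ℚ) (hcs C)
        rw [hcent κ hκ C hC] at h4
        push_cast at h4
        have : (2 : ℚ) ≤ a κ := by exact_mod_cast ha κ hκ
        rw [eq_div_iff (by positivity)]
        exact h4
      have : (2 : ℚ) ≤ a κ := by exact_mod_cast ha κ hκ
      have hf0 : (f κ : ℚ) ≠ 0 := by rcases hf κ hκ with h' | h' <;> rw [h'] <;> norm_num
      rw [Finset.sum_congr rfl h3, Finset.sum_const, nsmul_eq_mul, hmq κ hκ]
      field_simp
    rw [Finset.sum_congr rfl h2, ← Finset.sum_mul] at h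
    have hNq : (N : ℚ) = z * g := by exact_mod_cast hNg.symm
    rw [hNq] at h
    refine mul_right_cancel₀ (mul_ne_zero hzq.ne' hgq.ne') ?_
    rw [show (1 - 1 / (g : ℚ)) * (z * g) = z * g - z by field_simp]
    linarith
  have hkq : (Nat.card (ConjClasses H) : ℚ) = z * (1 + ∑ κ ∈ K, ((a κ : ℚ) - 1) / f κ) := by
    rw [hk]
    push_cast
    rw [Finset.sum_congr rfl hmq, ← Finset.sum_mul]
    ring
  have hcard : ∀ x : H, x ∉ Z → Nat.card ↥(centralizer ({x} : Set H)) = a (key (ConjClasses.mk x)) * z := by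
    intro x hx
    obtain ⟨t, ht⟩ := isConj_iff.1 (ConjClasses.mk_eq_mk_iff_isConj.1 (hout (ConjClasses.mk x)))
    conv_lhs => rw [← ht]
    rw [← centralizer_conj, Nat.card_congr (Subgroup.equivMapOfInjective _ _
      (MulAut.conj t).injective).symm.toEquiv,
      hcent _ (Finset.mem_image_of_mem key (hnot x hx)) _ (Finset.mem_filter.2 ⟨hnot x hx, rfl⟩)]
  rcases partition_arith K a f g hg2 ha hf hfa had hne heq with ⟨⟨κ, hκ, hκg⟩, h⟩ | ⟨h, h5⟩
  · left
    refine ⟨?_, ?_⟩
    · rw [← hNg]
      exact_mod_cast (show (z * g : ℚ) ≤ 4 * (Nat.card (ConjClasses H) : ℚ) by rw [hkq]; nlinarith)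
    · obtain ⟨C, hC, rfl⟩ := Finset.mem_image.1 hκ
      refine ⟨C.out, (Finset.mem_filter.1 hC).2, ?_⟩
      rw [hcard _ (Finset.mem_filter.1 hC).2, hout, ← hNg, ← hκg]
      ring
  · right
    refine ⟨?_, fun x hx => ?_⟩
    · rcases h with ⟨h1, h2⟩ | ⟨h1, h2⟩ | ⟨h1, h2⟩
      · rw [h2] at hkq
        exact Or.inl ⟨by rw [← hNg, h1, mul_comm],
          by exact_mod_cast (show (2 : ℚ) * Nat.card (ConjClasses H) = 7 * z by linarith)⟩
      · rw [h2] at hkq
        exact Or.inr (Or.inl ⟨by rw [← hNg, h1, mul_comm],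
          by exact_mod_cast (show (Nat.card (ConjClasses H) : ℚ) = 4 * z by linarith)⟩)
      · rw [h2] at hkq
        exact Or.inr (Or.inr ⟨by rw [← hNg, h1, mul_comm],
          by exact_mod_cast (show (2 : ℚ) * Nat.card (ConjClasses H) = 9 * z by linarith)⟩)
    · rw [hcard x hx]
      exact Nat.mul_le_mul_right z (h5 _ (Finset.mem_image_of_mem key (hnot x hx)))

/-- At least a quarter of the order many classes, with two exceptions. -/
theorem classes_two_dim (hA : AbelianCentralisers H) :
    Nat.card H ≤ 4 * Nat.card (ConjClasses H) ∨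
      (Nat.card H = 24 * Nat.card (center H) ∧ Nat.card (ConjClasses H) = 4 * Nat.card (center H)) ∨
      (Nat.card H = 60 * Nat.card (center H) ∧ 2 * Nat.card (ConjClasses H) = 9 * Nat.card (center H) ∧
        ∀ x : H, x ∉ center H → Nat.card ↥(centralizer ({x} : Set H)) ≤ 5 * Nat.card (center H)) := by
  by_cases hcomm : center H = ⊤
  · left
    rw [card_classes_of_comm fun a b => (Subgroup.mem_center_iff.1 (hcomm ▸ mem_top a) b).symm]
    omega
  rcases two_dim_shape hA hcomm with ⟨h, -⟩ | ⟨h | h | h, h5⟩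
  · exact Or.inl h
  · left; omega
  · exact Or.inr (Or.inl h)
  · exact Or.inr (Or.inr ⟨h.1, h.2, h5⟩)

end Cfsg.Lib.Blocks.CoprimeTransitive
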