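import Cfsg.Agent.Blocks.CoprimeTransitive.Classes
import Cfsg.Agent.Blocks.CoprimeTransitive.TwoDim

/-!
# Elements of coprime linear groups
-/

set_option autoImplicit false
set_option linter.unusedSectionVars false
set_option linter.style.haveILetI false

namespace Cfsg.Lib.Blocks.CoprimeTransitive

open Polynomial Module

universe u v

variable {p : ℕ} [hp : Fact p.Prime] {V : Type v} [AddCommGroup V] [Module (ZMod p) V] [Finite V]
  {H : Type u} [Group H] [Finite H] {ρ : H →* Module.End (ZMod p) V}

/-- An element of prime order `s ≠ p` is conjugate to at most `dim V` of its powers. -/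
theorem conj_pow_count (hinj : Function.Injective ρ) {x : H} {s : ℕ} (hs : s.Prime) (hx : orderOf x = s)
    (hsp : s ≠ p) :
    Nat.card {i : Fin s // IsConj x (x ^ (i : ℕ))} ≤ finrank (ZMod p) V := by
  classical
  haveI := Fact.mk hs
  have hx1 : x ≠ 1 := fun h => hs.one_lt.ne (by rw [← hx, h, orderOf_one])
  haveI : Nontrivial (Module.End (ZMod p) V) := ⟨ρ x, 1, fun h => hx1 (hinj (by rw [h, map_one]))⟩
  set T := ρ x with hT
  have hint : IsIntegral (ZMod p) T := Algebra.IsIntegral.isIntegral T
  set m := minpoly (ZMod p) T with hm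
  have hTs : T ^ s = 1 := by rw [hT, ← map_pow, ← hx, pow_orderOf_eq_one, map_one]
  have hdvd : m ∣ X ^ s - 1 := minpoly.dvd _ _ (by rw [map_sub, map_pow, aeval_X, map_one, hTs, sub_self])
  have hsK : ((s : ℕ) : ZMod p) ≠ 0 := fun h => hsp (((Nat.prime_dvd_prime_iff_eq hp.out hs).1
    ((ZMod.natCast_eq_zero_iff _ _).1 h)).symm)
  have hsep : m.Separable := by
    refine Separable.of_dvd ?_ hdvd
    have := separable_X_pow_sub_C (1 : ZMod p) hsK one_ne_zero
    rwa [map_one] at this
  set L := AlgebraicClosure (ZMod p)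
  set R := (m.aroots L).toFinset
  have hmem : ∀ z : L, z ∈ R ↔ aeval z m = 0 := fun z => by
    rw [Multiset.mem_toFinset, mem_aroots]
    exact and_iff_right (minpoly.ne_zero hint)
  -- a root other than one
  obtain ⟨ζ, hζ, hζ1⟩ : ∃ ζ ∈ R, ζ ≠ 1 := by
    by_contra hno
    push Not at hno
    have hcard : R.card = m.natDegree := by
      rw [Multiset.toFinset_card_of_nodup (Polynomial.nodup_roots (hsep.map)),
        ← (IsAlgClosed.splits (m.map (algebraMap (ZMod p) L))).natDegree_eq_card_roots, natDegree_map]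
    have hR : R.card ≤ 1 := Finset.card_le_one.2 fun a ha b hb => by rw [hno a ha, hno b hb]
    have hdeg : m.natDegree = 1 := le_antisymm (hcard ▸ hR) (minpoly.natDegree_pos hint)
    have heq : m = X + C (m.coeff 0) := (minpoly.monic hint).eq_X_add_C hdeg
    have h1 : aeval (1 : L) m = 0 := by
      obtain ⟨ζ, hζ⟩ := Finset.card_pos.1 (by rw [hcard]; omega : 0 < R.card)
      exact (hmem 1).1 (hno ζ hζ ▸ hζ)
    rw [heq, map_add, aeval_X, aeval_C] at h1
    have hc : m.coeff 0 = -1 := (algebraMap (ZMod p) L).injective (by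
      rw [map_neg, map_one]; exact eq_neg_of_add_eq_zero_right h1)
    have h2 : aeval T m = 0 := minpoly.aeval _ _
    rw [heq, map_add, aeval_X, aeval_C, hc, map_neg, map_one, add_neg_eq_zero] at h2
    have : x = 1 := hinj (by rw [map_one]; exact h2)
    rw [this, orderOf_one] at hx
    exact hs.one_lt.ne hx
  have hζs : ζ ^ s = 1 := by
    have := aeval_eq_zero_of_dvd_aeval_eq_zero hdvd ((hmem ζ).1 hζ)
    rwa [map_sub, map_pow, aeval_X, map_one, sub_eq_zero] at this
  have hord : orderOf ζ = s := orderOf_eq_prime hζs hζ1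
  have hroot : ∀ i : Fin s, IsConj x (x ^ (i : ℕ)) → ζ ^ (i : ℕ) ∈ R := by
    intro i hi
    obtain ⟨e, he⟩ := isConj_iff.1 hi
    have hu : ρ e⁻¹ * ρ e = 1 := by rw [← map_mul, inv_mul_cancel, map_one]
    have hu' : ρ e * ρ e⁻¹ = 1 := by rw [← map_mul, mul_inv_cancel, map_one]
    let u : (Module.End (ZMod p) V)ˣ := ⟨ρ e, ρ e⁻¹, hu', hu⟩
    have hTi : T ^ (i : ℕ) = (u : Module.End (ZMod p) V) * T * ↑u⁻¹ := by
      rw [hT, ← map_pow, ← he, map_mul, map_mul]
      rfl
    have h0 : aeval (T ^ (i : ℕ)) m = 0 := by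
      rw [hTi]
      have : ∀ q : (ZMod p)[X], aeval ((u : Module.End (ZMod p) V) * T * ↑u⁻¹) q = u * aeval T q * ↑u⁻¹ := fun q => by
        induction q using Polynomial.induction_on' with
        | add a b ha hb => rw [map_add, map_add, ha, hb, mul_add, add_mul]
        | monomial k a =>
          rw [aeval_monomial, aeval_monomial, Units.conj_pow]
          rw [← mul_assoc, ← mul_assoc, ← mul_assoc (u : Module.End (ZMod p) V),
            (Algebra.commutes a (u : Module.End (ZMod p) V)).symm]
      rw [this, hm, minpoly.aeval, mul_zero, zero_mul]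
    have hd : m ∣ m.comp (X ^ (i : ℕ)) := minpoly.dvd _ _ (by rw [aeval_comp, map_pow, aeval_X, h0])
    have := aeval_eq_zero_of_dvd_aeval_eq_zero hd ((hmem ζ).1 hζ)
    rw [aeval_comp, map_pow, aeval_X] at this
    exact (hmem _).2 this
  haveI := Fintype.ofFinite {i : Fin s // IsConj x (x ^ (i : ℕ))}
  have h1 : Nat.card {i : Fin s // IsConj x (x ^ (i : ℕ))} ≤ R.card := by
    rw [← Fintype.card_coe, ← Nat.card_eq_fintype_card (α := ↥R)]
    refine Nat.card_le_card_of_injective (fun i => (⟨ζ ^ (i.1 : ℕ), hroot i.1 i.2⟩ : ↥R)) fun i j h => ?_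
    have h' : ζ ^ (i.1 : ℕ) = ζ ^ (j.1 : ℕ) := congrArg Subtype.val h
    exact Subtype.ext (Fin.ext (pow_injOn_Iio_orderOf (by simp [hord]) (by simp [hord]) h'))
  refine h1.trans ((Multiset.toFinset_card_le _).trans ?_)
  rw [aroots_def]
  refine (card_roots' _).trans ?_
  rw [natDegree_map, ← LinearMap.charpoly_natDegree T]
  exact natDegree_le_of_dvd (LinearMap.minpoly_dvd_charpoly T) (LinearMap.charpoly_monic T).ne_zero

/-- An element of prime order spreads its powers over many classes. -/
theorem prime_order_classes (hinj : Function.Injective ρ) {x : H} {s : ℕ} (hs : s.Prime) (hx : orderOf x = s)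
    (hsp : s ≠ p) : s ≤ finrank (ZMod p) V * Nat.card (ConjClasses H) := by
  classical
  haveI := Fintype.ofFinite H
  haveI := Fintype.ofFinite (ConjClasses H)
  have hn : 1 ≤ finrank (ZMod p) V := by
    refine le_trans ?_ (conj_pow_count hinj hs hx hsp)
    rw [Nat.one_le_iff_ne_zero, Nat.card_ne_zero]
    exact ⟨⟨⟨⟨1, hs.one_lt⟩, by rw [pow_one]⟩⟩, inferInstance⟩
  have hfib : ∀ C ∈ (Finset.univ : Finset (ConjClasses H)),
      (Finset.univ.filter fun j : Fin s => ConjClasses.mk (x ^ (j : ℕ)) = C).card ≤ finrank (ZMod p) V := by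
    intro C _
    by_cases hne : ∃ j : Fin s, ConjClasses.mk (x ^ (j : ℕ)) = C
    · obtain ⟨j, rfl⟩ := hne
      by_cases hy1 : x ^ (j : ℕ) = 1
      · refine le_trans ?_ hn
        refine Finset.card_le_one.2 fun a ha b hb => ?_
        simp only [Finset.mem_filter, Finset.mem_univ, true_and, hy1, ConjClasses.mk_eq_mk_iff_isConj,
          isConj_one_left] at ha hb
        exact Fin.ext (pow_injOn_Iio_orderOf (by simp [hx]) (by simp [hx]) (ha.trans hb.symm))
      set y := x ^ (j : ℕ) with hy
      have hoy : orderOf y = s := by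
        haveI := Fact.mk hs
        exact orderOf_eq_prime (by rw [hy, ← pow_mul, mul_comm, pow_mul, show x ^ s = 1 from hx ▸ pow_orderOf_eq_one x, one_pow]) hy1
      -- `x` is a power of `y`
      obtain ⟨c, hc⟩ : ∃ c, y ^ c = x := by
        have hcop : (j : ℕ).Coprime (orderOf x) := by
          rw [hx, Nat.coprime_comm, hs.coprime_iff_not_dvd]
          exact fun h => hy1 (orderOf_dvd_iff_pow_eq_one.1 (hx ▸ h))
        exact ⟨_, (exists_pow_eq_self_of_coprime hcop).choose_spec⟩
      have hys : ∀ k : ℕ, y ^ (k % s) = y ^ k := fun k => by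
        conv_rhs => rw [← pow_mod_orderOf, hoy]
      refine le_trans ?_ (conj_pow_count hinj hs hoy hsp)
      rw [Nat.card_eq_fintype_card, Fintype.card_subtype]
      refine Finset.card_le_card_of_injOn (fun a => ⟨(c * (a : ℕ)) % s, Nat.mod_lt _ hs.pos⟩) ?_ ?_
      · intro a ha
        simp only [Finset.coe_filter, Set.mem_setOf_eq, Finset.mem_univ, true_and] at ha ⊢
        show IsConj y (y ^ ((c * (a : ℕ)) % s))
        rw [hys, pow_mul, hc]
        exact (ConjClasses.mk_eq_mk_iff_isConj.1 ha).symm
      · intro a _ b _ h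
        have h' : (c * (a : ℕ)) % s = (c * (b : ℕ)) % s := congrArg Fin.val h
        have h'' : y ^ (c * (a : ℕ)) = y ^ (c * (b : ℕ)) := by
          rw [← hys, h', hys]
        rw [pow_mul, pow_mul, hc] at h''
        exact Fin.ext (pow_injOn_Iio_orderOf (by simp [hx]) (by simp [hx]) h'')
    · rw [Finset.card_eq_zero.2 (Finset.filter_eq_empty_iff.2 fun a _ h => hne ⟨a, h⟩)]
      exact Nat.zero_le _
  have := Finset.card_le_mul_card_image_of_maps_to (s := (Finset.univ : Finset (Fin s)))
    (t := (Finset.univ : Finset (ConjClasses H))) (f := fun j : Fin s => ConjClasses.mk (x ^ (j : ℕ)))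
    (fun a _ => Finset.mem_univ _) (finrank (ZMod p) V) (fun C hC => by convert hfib C hC)
  rwa [Finset.card_univ, Finset.card_univ, Fintype.card_fin, ← Nat.card_eq_fintype_card] at this

section field

variable {F : Type*} [Field F] {W : Type*} [AddCommGroup W] [Module F W] [FiniteDimensional F W]

/-- A nonscalar endomorphism of a plane has a cyclic vector. -/
theorem exists_basis_two (h2 : finrank F W = 2) (T : Module.End F W)
    (hT : ¬ ∃ c : F, T = c • 1) :
    ∃ v : W, (∀ a b : F, a • v + b • T v = 0 → a = 0 ∧ b = 0) ∧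
      ∀ w : W, ∃ a b : F, a • v + b • T v = w := by
  have hex : ∃ v, LinearIndependent F ![v, T v] := by
    by_contra hno
    push Not at hno
    have hev : ∀ v, v ≠ 0 → ∃ c : F, T v = c • v := fun v hv => by
      by_contra h
      push Not at h
      exact hno v ((LinearIndependent.pair_iff' hv).2 fun a ha => h a ha.symm)
    set b := Module.finBasisOfFinrankEq F W h2
    obtain ⟨c0, h0⟩ := hev (b 0) (b.ne_zero 0)
    obtain ⟨c1, h1⟩ := hev (b 1) (b.ne_zero 1)
    have hind : ∀ a a' : F, a • b 0 + a' • b 1 = 0 → a = 0 ∧ a' = 0 := by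
      refine fun a a' h => LinearIndependent.pair_iff.1 ?_ a a' h
      have : (![b 0, b 1] : Fin 2 → W) = b := by ext i; fin_cases i <;> rfl
      rw [this]; exact b.linearIndependent
    obtain ⟨c, hc⟩ := hev (b 0 + b 1) fun h => one_ne_zero (hind 1 1 (by rw [one_smul, one_smul, h])).1
    rw [map_add, h0, h1, smul_add] at hc
    obtain ⟨e0, e1⟩ := hind (c0 - c) (c1 - c) (by
      rw [sub_smul, sub_smul, sub_add_sub_comm, hc, sub_self])
    refine hT ⟨c, b.ext fun i => ?_⟩
    rw [sub_eq_zero] at e0 e1
    fin_cases i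
    · simpa [e0] using h0
    · simpa [e1] using h1
  obtain ⟨v, hv⟩ := hex
  refine ⟨v, fun a b h => LinearIndependent.pair_iff.1 hv a b h, fun w => ?_⟩
  have hspan := hv.span_eq_top_of_card_eq_finrank (by rw [Fintype.card_fin, h2])
  have hw : w ∈ Submodule.span F (Set.range ![v, T v]) := hspan ▸ Submodule.mem_top
  rw [Matrix.range_cons_cons_empty] at hw
  exact Submodule.mem_span_pair.1 hw

/-- In a plane the hypothesis of `classes_two_dim` holds. -/
theorem abelianCentralisers_field {ρ : H →* Module.End F W} (hinj : Function.Injective ρ)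
    (hH : (Nat.card H : F) ≠ 0) (h2 : finrank F W = 2) : AbelianCentralisers H := by
  classical
  have hns : ∀ x : H, x ∉ Subgroup.center H → ¬ ∃ c : F, ρ x = c • 1 := by
    rintro x hx ⟨c, hc⟩
    refine hx (Subgroup.mem_center_iff.2 fun g => hinj ?_)
    rw [map_mul, map_mul, hc, mul_smul_comm, smul_mul_assoc, mul_one, one_mul]
  have hlin : ∀ x : H, x ∉ Subgroup.center H → ∀ S : Module.End F W, S * ρ x = ρ x * S →
      ∃ a b : F, S = a • 1 + b • ρ x := by
    intro x hx S hS
    obtain ⟨v, -, hspan⟩ := exists_basis_two h2 (ρ x) (hns x hx)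
    obtain ⟨a, b, hab⟩ := hspan (S v)
    refine ⟨a, b, LinearMap.ext fun w => ?_⟩
    obtain ⟨c, d, rfl⟩ := hspan w
    have hS' : S (ρ x v) = ρ x (S v) := LinearMap.congr_fun hS v
    simp only [map_add, map_smul, LinearMap.add_apply, LinearMap.smul_apply, Module.End.one_apply, hS', ← hab]
  have hcom : ∀ x : H, ∀ y ∈ Subgroup.centralizer ({x} : Set H), ρ y * ρ x = ρ x * ρ y := fun x y hy => by
    rw [← map_mul, ← map_mul, Subgroup.mem_centralizer_singleton_iff.1 hy]
  refine ⟨fun x hx a ha b hb => ?_, fun x hx => ?_⟩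
  · obtain ⟨a1, a2, hA⟩ := hlin x hx _ (hcom x a ha)
    obtain ⟨b1, b2, hB⟩ := hlin x hx _ (hcom x b hb)
    refine hinj ?_
    rw [map_mul, map_mul, hA, hB]
    simp only [mul_add, add_mul, smul_mul_assoc, mul_smul_comm, one_mul, mul_one, smul_smul, smul_add]
    rw [mul_comm a1 b1, mul_comm a2 b1, mul_comm a1 b2, mul_comm a2 b2]
    abel
  set T := ρ x with hT
  obtain ⟨v, hind, hspan⟩ := exists_basis_two h2 T (hns x hx)
  obtain ⟨c0, c1, hquad0⟩ := hspan (T (T v))
  have hquad : T * T = c0 • 1 + c1 • T := by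
    refine LinearMap.ext fun w => ?_
    obtain ⟨a, b, rfl⟩ := hspan w
    simp only [Module.End.mul_apply, map_add, map_smul, LinearMap.add_apply, LinearMap.smul_apply,
      Module.End.one_apply, ← hquad0]
  have hcoef : ∀ a b : F, a • (1 : Module.End F W) + b • T = 0 → a = 0 ∧ b = 0 := fun a b h =>
    hind a b (by simpa using LinearMap.congr_fun h v)
  -- the discriminant
  have hdisc : c1 * c1 + 4 * c0 ≠ 0 := by
    intro h
    have hordF : ((orderOf x : ℕ) : F) ≠ 0 := fun h0 => by
      obtain ⟨e', he'⟩ := orderOf_dvd_natCard x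
      exact hH (by rw [he', Nat.cast_mul, h0, zero_mul])
    by_cases h2' : (2 : F) = 0
    · -- characteristic two: the square is scalar and the order is odd
      have hc1 : c1 = 0 := by
        have h' : c1 * c1 = 0 := by
          have : (4 : F) * c0 = 2 * (2 * c0) := by ring
          rw [this, h2', zero_mul, add_zero] at h
          exact h
        exact mul_self_eq_zero.1 h'
      have hodd : orderOf x % 2 = 1 := by
        by_contra hh
        obtain ⟨e, he⟩ : 2 ∣ orderOf x := Nat.dvd_of_mod_eq_zero (by omega)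
        exact hordF (by rw [he, Nat.cast_mul, Nat.cast_two, h2', zero_mul])
      have hT2 : T * T = c0 • 1 := by rw [hquad, hc1, zero_smul, add_zero]
      obtain ⟨e, he⟩ : ∃ e, orderOf x + 1 = 2 * e := ⟨(orderOf x + 1) / 2, by omega⟩
      refine hns x hx ⟨c0 ^ e, ?_⟩
      have hN : T ^ (orderOf x + 1) = T := by
        rw [pow_succ, hT, ← map_pow, pow_orderOf_eq_one, map_one, one_mul]
      rw [← hT, ← hN, he, pow_mul, pow_two, hT2, _root_.smul_pow, one_pow]
    set c : F := c1 / 2 with hc
    have hc1 : c1 = 2 * c := by rw [hc]; field_simp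
    have h0 : c0 = -(c * c) := by
      rw [hc1] at h
      have : (4 : F) * (c * c + c0) = 0 := by rw [← h]; ring
      rcases mul_eq_zero.1 this with h4 | h4
      · rw [show (4 : F) = 2 * 2 by norm_num] at h4
        exact absurd h4 (mul_ne_zero h2' h2')
      · exact eq_neg_of_add_eq_zero_right h4
    have hpow : ∀ k : ℕ, T ^ (k + 1) = (-(k : F) * c ^ (k + 1)) • 1 + ((k + 1 : ℕ) * c ^ k : F) • T := by
      intro k
      induction k with
      | zero => simp
      | succ k ih =>
        rw [pow_succ, ih, add_mul, smul_mul_assoc, smul_mul_assoc, one_mul, hquad, h0, hc1]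
        push_cast
        module
    obtain ⟨k, hk⟩ : ∃ k, orderOf x = k + 1 := Nat.exists_eq_succ_of_ne_zero (orderOf_pos x).ne'
    have hTk : T ^ (k + 1) = 1 := by rw [hT, ← map_pow, ← hk, pow_orderOf_eq_one, map_one]
    obtain ⟨e1, e2⟩ := hcoef (-(k : F) * c ^ (k + 1) - 1) ((k + 1 : ℕ) * c ^ k) (by
      rw [sub_smul, one_smul, sub_add_eq_add_sub, ← hpow, hTk, sub_self])
    have hk0 : ((k + 1 : ℕ) : F) ≠ 0 := hk ▸ hordF
    have hck : c ^ k = 0 := (mul_eq_zero.1 e2).resolve_left hk0
    rw [pow_succ, hck] at e1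
    simp at e1
  -- the conjugates
  have hconj : ∀ y ∈ Subgroup.centralizer ({x} : Set H), IsConj x y → ρ y = T ∨ ρ y = c1 • 1 - T := by
    intro y hy hxy
    obtain ⟨e, he⟩ := isConj_iff.1 hxy
    have hcon : ρ y = ρ e * T * ρ e⁻¹ := by rw [← he, map_mul, map_mul]
    have hq' : ρ y * ρ y = c0 • 1 + c1 • ρ y := by
      have hu : ρ e⁻¹ * ρ e = 1 := by rw [← map_mul, inv_mul_cancel, map_one]
      have hu' : ρ e * ρ e⁻¹ = 1 := by rw [← map_mul, mul_inv_cancel, map_one]
      rw [hcon, show ρ e * T * ρ e⁻¹ * (ρ e * T * ρ e⁻¹) = ρ e * T * (ρ e⁻¹ * ρ e) * T * ρ e⁻¹ by simp only [mul_assoc],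
        hu, mul_one, mul_assoc (ρ e), hquad, mul_add, add_mul, mul_smul_comm,
        mul_smul_comm, smul_mul_assoc, smul_mul_assoc, mul_one, hu']
    have hyc : y ∉ Subgroup.center H := fun h => hx (by
      have h' : x = e⁻¹ * y * e := by rw [← he]; group
      rw [h', mul_assoc, ← Subgroup.mem_center_iff.1 h e, inv_mul_cancel_left]
      exact h)
    obtain ⟨a, b, hab⟩ := hlin x hx _ (hcom x y hy)
    have hb : b ≠ 0 := fun h => hns y hyc ⟨a, by rw [hab, h, zero_smul, add_zero]⟩
    rw [hab] at hq'
    obtain ⟨e1, e2⟩ := hcoef (a * a + b * b * c0 - c0 - c1 * a) (2 * a * b + b * b * c1 - c1 * b) (by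
      have h' : (a • (1 : Module.End F W) + b • T) * (a • 1 + b • T) =
          (a * a) • 1 + (2 * a * b) • T + (b * b) • (c0 • 1 + c1 • T) := by
        rw [← hquad]
        simp only [mul_add, add_mul, smul_mul_assoc, mul_smul_comm, one_mul, mul_one, smul_smul, smul_add]
        module
      rw [h', ← sub_eq_zero] at hq'
      rw [← hq']
      module)
    have ha : 2 * a = c1 * (1 - b) := by
      have : b * (2 * a - c1 * (1 - b)) = 0 := by rw [← e2]; ring
      exact sub_eq_zero.1 ((mul_eq_zero.1 this).resolve_left hb)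
    have hbb : (b - 1) * (b + 1) * (c1 * c1 + 4 * c0) = 0 := by
      linear_combination 4 * e1 - (2 * a + c1 * (1 - b) - 2 * c1) * ha
    rcases mul_eq_zero.1 ((mul_eq_zero.1 hbb).resolve_right hdisc) with h | h
    · rw [sub_eq_zero] at h
      subst h
      rw [sub_self, mul_zero] at ha
      have haa : a * (a - c1) = 0 := by linear_combination e1
      rcases mul_eq_zero.1 haa with h | h
      · left; rw [hab, h, zero_smul, zero_add, one_smul]
      · rw [sub_eq_zero] at h
        subst h
        rcases mul_eq_zero.1 ha with h2' | h0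
        · right
          rw [hab, one_smul, sub_eq_add_neg]
          congr 1
          refine eq_neg_of_add_eq_zero_left ?_
          rw [← two_smul F T, h2', zero_smul]
        · left; rw [hab, h0, zero_smul, zero_add, one_smul]
    · obtain rfl : b = -1 := eq_neg_of_add_eq_zero_left h
      by_cases h2' : (2 : F) = 0
      · have hneg : (-1 : F) = 1 := by linear_combination (-1 : F) * h2'
        rw [hneg] at hab
        have haa : a * (a - c1) = 0 := by linear_combination e1
        rcases mul_eq_zero.1 haa with h' | h'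
        · left; rw [hab, h', zero_smul, zero_add, one_smul]
        · right
          rw [hab, sub_eq_zero.1 h', one_smul, sub_eq_add_neg]
          congr 1
          refine eq_neg_of_add_eq_zero_left ?_
          rw [← two_smul F T, h2', zero_smul]
      · right
        have : a = c1 := mul_left_cancel₀ h2' (by rw [ha]; ring)
        rw [hab, this, neg_smul, one_smul, sub_eq_add_neg]
  haveI := Fintype.ofFinite H
  have hle := Nat.card_le_card_of_injective
    (fun y : {y : H // y ∈ Subgroup.centralizer ({x} : Set H) ∧ IsConj x y} => decide (ρ y.1 = T))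
    (by
      rintro ⟨y, hy⟩ ⟨y', hy'⟩ h
      simp only [decide_eq_decide] at h
      refine Subtype.ext (hinj ?_)
      rcases hconj y hy.1 hy.2 with e | e
      · exact e.trans (h.1 e).symm
      · rcases hconj y' hy'.1 hy'.2 with e' | e'
        · exact (h.2 e').trans e'.symm
        · exact e.trans e'.symm)
  simpa using hle


end field

/-- In a plane over the prime field the hypothesis of `classes_two_dim` holds. -/
theorem abelianCentralisers_of_two (hinj : Function.Injective ρ) (hcop : ¬ p ∣ Nat.card H) (_hp2 : p ≠ 2)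
    (h2 : finrank (ZMod p) V = 2) : AbelianCentralisers H :=
  abelianCentralisers_field hinj (fun h => hcop ((ZMod.natCast_eq_zero_iff _ _).1 h)) h2

end Cfsg.Lib.Blocks.CoprimeTransitive
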