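import Cfsg.Agent.Blocks.CoprimeTransitive.Arith
import Cfsg.Agent.Blocks.CoprimeTransitive.Lift
import Cfsg.Agent.Blocks.CoprimeTransitive.Linear
import Cfsg.Agent.Blocks.ThreeChars.Irred
import Cfsg.Agent.Blocks.SmallDegMain
import Cfsg.Agent.Blocks.Feit3
import Cfsg.Agent.OddChar.Blichfeldt
import Cfsg.Agent.SolvStruct.CyclicProduct

/-!
# Coprime linear groups of dimension at least three and order divisible by `p ^ n - 1`
-/

set_option autoImplicit false
set_option linter.unusedSectionVars false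
set_option linter.style.haveILetI false

namespace Cfsg.Lib.Blocks.CoprimeTransitive

open Module Subgroup Polynomial
open Cfsg Cfsg.Lib.Blocks Cfsg.Lib.Chars

universe u v

/-- `p n² ≤ p ^ n - 1`. -/
theorem mul_sq_lt_pow {p : ℕ} (hp : 7 ≤ p) : ∀ n : ℕ, 3 ≤ n → p * n ^ 2 < p ^ n := by
  intro n hn
  induction n, hn using Nat.le_induction with
  | base =>
    rw [show p ^ 3 = p * (p * p) by ring]
    exact Nat.mul_lt_mul_of_pos_left (by nlinarith) (by omega)
  | succ n hn ih =>
    rw [pow_succ p n]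
    have h1 : (n + 1) ^ 2 ≤ 2 * n ^ 2 := by nlinarith
    have h2 : p * (n + 1) ^ 2 ≤ p * (2 * n ^ 2) := Nat.mul_le_mul_left p h1
    have h3 : p ^ n * 2 ≤ p ^ n * p := Nat.mul_le_mul_left _ (by omega)
    nlinarith

/-- A group of endomorphisms whose Sylow subgroup is cyclic of small degree in the same characteristic. -/
theorem pow_prime_eq_one {k : Type*} [Field k] {s : ℕ} [Fact s.Prime] [CharP k s] {U : Type*} [AddCommGroup U]
    [Module k U] [FiniteDimensional k U] (hU : finrank k U ≤ s) (T : Module.End k U) {j : ℕ} (hT : T ^ s ^ j = 1) :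
    T ^ s = 1 := by
  rcases subsingleton_or_nontrivial U with hU' | hU'
  · exact LinearMap.ext fun u => Subsingleton.elim _ _
  haveI : CharP (Module.End k U) s := charP_of_injective_algebraMap (RingHom.injective (algebraMap k _)) s
  have hnil : IsNilpotent (T - 1) := ⟨s ^ j, by
    rw [sub_pow_char_pow_of_commute s j (Commute.one_right T), one_pow, hT, sub_self]⟩
  have hzero : (T - 1) ^ finrank k U = 0 := by
    have h := LinearMap.aeval_self_charpoly (T - 1)
    rwa [hnil.charpoly_eq_X_pow_finrank, map_pow, aeval_X] at h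
  have h := sub_pow_char_of_commute s (Commute.one_right T)
  rw [one_pow, pow_eq_zero_of_le hU hzero] at h
  exact sub_eq_zero.1 h.symm

variable {p : ℕ} [hp : Fact p.Prime] {V : Type v} [AddCommGroup V] [Module (ZMod p) V] [Finite V]
  {H : Type u} [Group H] [Finite H] {ρ : H →* Module.End (ZMod p) V}

/-- At least `p` classes. -/
theorem classes_big (hinj : Function.Injective ρ) (hcop : ¬ p ∣ Nat.card H) (hp7 : 7 ≤ p)
    (hn : 3 ≤ finrank (ZMod p) V) (hdiv : p ^ finrank (ZMod p) V - 1 ∣ Nat.card H) :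
    p ≤ Nat.card (ConjClasses H) := by
  classical
  haveI := Fintype.ofFinite H
  set n := finrank (ZMod p) V with hnd
  rcases ppd_large_or_sq hp.out hp7 hn with ⟨s, hs, hsd, hmin, hor⟩ | ⟨h17, h6⟩
  swap
  · -- the exceptional pair
    haveI : Fact (Nat.Prime 307) := ⟨by norm_num⟩
    have h307 : 307 ∣ p ^ n - 1 := by rw [h17, h6]; norm_num
    obtain ⟨x, hx⟩ := exists_prime_orderOf_dvd_card' 307 (h307.trans hdiv)
    have := prime_order_classes hinj (by norm_num) hx (by omega)
    rw [← hnd, h6] at this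
    omega
  haveI := Fact.mk hs
  have hord : orderOf (p : ZMod s) = n := orderOf_eq_of_ppd hp.out.pos (by omega) hsd hmin
  have hsp : s ≠ p := by
    rintro rfl
    have h1 : s ∣ s ^ n := dvd_pow_self s (by omega)
    have := Nat.le_of_dvd one_pos ((Nat.dvd_add_right hsd).1 (by
      rw [Nat.sub_add_cancel (Nat.one_le_pow _ _ hs.pos)]; exact h1))
    have := hs.two_le
    omega
  have hsH : s ∣ Nat.card H := hsd.trans hdiv
  have hpn : p ^ n - 1 ≤ Nat.card H := Nat.le_of_dvd Nat.card_pos hdiv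
  have hcyc : ∀ x : H, orderOf x = s → IsCyclic (centralizer ({x} : Set H)) := fun x hx =>
    ThreeChars.centralizer_cyclic ρ hinj hx (hord.trans hnd) hsp
  by_cases hnorm : ∃ X : Subgroup H, X.Normal ∧ Nat.card X = s
  · -- a normal subgroup of order `s`
    obtain ⟨X, hXn, hXc⟩ := hnorm
    haveI := hXn
    obtain ⟨⟨x, hxX⟩, hx⟩ := exists_prime_orderOf_dvd_card' s hXc.symm.dvd
    rw [Subgroup.orderOf_mk] at hx
    have hzx : zpowers x = X := eq_of_le_of_card_ge (zpowers_le.2 hxX) (by rw [Nat.card_zpowers, hx, hXc])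
    set C := centralizer ({x} : Set H)
    have hidx : C.index ≤ n := by
      have h1 : Nat.card (ConjClasses.mk x).carrier = C.index := by
        refine Nat.eq_of_mul_eq_mul_right (Nat.card_pos : 0 < Nat.card C) ?_
        rw [card_carrier_mul, C.index_mul_card]
      rw [← h1, hnd]
      refine le_trans ?_ (conj_pow_count hinj hs hx hsp)
      have hex : ∀ y : (ConjClasses.mk x).carrier, ∃ i : Fin s, IsConj x (x ^ (i : ℕ)) ∧ x ^ (i : ℕ) = y.1 := by
        rintro ⟨y, hy⟩
        have hc : IsConj x y := (ConjClasses.mk_eq_mk_iff_isConj.1 (ConjClasses.mem_carrier_iff_mk_eq.1 hy)).symm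
        obtain ⟨e, he⟩ := isConj_iff.1 hc
        have hyX : y ∈ zpowers x := by rw [hzx, ← he]; exact hXn.conj_mem x hxX e
        rw [← mem_powers_iff_mem_zpowers, Submonoid.mem_powers_iff] at hyX
        obtain ⟨i, rfl⟩ := hyX
        refine ⟨⟨i % s, Nat.mod_lt _ hs.pos⟩, ?_, ?_⟩
        · show IsConj x (x ^ (i % s))
          rw [show x ^ (i % s) = x ^ i by conv_rhs => rw [← pow_mod_orderOf, hx]]
          exact hc
        · show x ^ (i % s) = x ^ i
          conv_rhs => rw [← pow_mod_orderOf, hx]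
      choose f hf1 hf2 using hex
      refine Nat.card_le_card_of_injective (fun y => ⟨f y, hf1 y⟩) fun y y' h => ?_
      have : f y = f y' := congrArg Subtype.val h
      exact Subtype.ext (by rw [← hf2, ← hf2, this])
    have hcomm : ∀ a ∈ C, ∀ b ∈ C, a * b = b * a := by
      intro a ha b hb
      haveI := hcyc x hx
      obtain ⟨g, hg⟩ := IsCyclic.exists_generator (α := C)
      obtain ⟨i, hi⟩ := mem_zpowers_iff.1 (hg ⟨a, ha⟩)
      obtain ⟨j, hj⟩ := mem_zpowers_iff.1 (hg ⟨b, hb⟩)
      have : (⟨a, ha⟩ : C) * ⟨b, hb⟩ = ⟨b, hb⟩ * ⟨a, ha⟩ := by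
        rw [← hi, ← hj, ← zpow_add, ← zpow_add, add_comm]
      exact congrArg Subtype.val this
    have hk := card_le_index_mul_classes C hcomm
    have h2 : p * n ^ 2 ≤ n ^ 2 * Nat.card (ConjClasses H) := by
      have h3 := mul_sq_lt_pow hp7 n hn
      calc p * n ^ 2 ≤ Nat.card H := by omega
        _ = C.index * Nat.card C := C.index_mul_card.symm
        _ ≤ n * (n * Nat.card (ConjClasses H)) :=
          Nat.mul_le_mul hidx (hk.trans (Nat.mul_le_mul_right _ hidx))
        _ = _ := by ring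
    exact Nat.le_of_mul_le_mul_right (by rwa [mul_comm (n ^ 2)] at h2) (by positivity)
  -- no normal subgroup of order `s`
  push Not at hnorm
  exfalso
  obtain ⟨P⟩ : Nonempty (Sylow s H) := inferInstance
  have hPne : Nontrivial (P : Subgroup H) := by
    have := P.pow_dvd_card_of_pow_dvd_card (n := 1) (by simpa using hsH)
    rw [pow_one] at this
    exact Finite.one_lt_card_iff_nontrivial.1 (lt_of_lt_of_le hs.one_lt (Nat.le_of_dvd Nat.card_pos this))
  haveI := P.2.center_nontrivial
  have hPcyc : IsCyclic (P : Subgroup H) := by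
    haveI : Fact s.Prime := ⟨hs⟩
    obtain ⟨z, hz⟩ := exists_prime_orderOf_dvd_card' (G := center (P : Subgroup H)) s (by
      obtain ⟨m, hm0, hm⟩ := (P.2.to_subgroup (center (P : Subgroup H))).nontrivial_iff_card.1 inferInstance
      exact hm ▸ dvd_pow_self s hm0.ne')
    have hzo : orderOf ((z : (P : Subgroup H)) : H) = s := by rw [Subgroup.orderOf_coe, Subgroup.orderOf_coe, hz]
    have hle : (P : Subgroup H) ≤ centralizer ({((z : (P : Subgroup H)) : H)} : Set H) := fun y hy =>
      mem_centralizer_singleton_iff.2 (congrArg Subtype.val (mem_center_iff.1 z.2 ⟨y, hy⟩))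
    haveI := hcyc _ hzo
    exact isCyclic_of_injective (Subgroup.inclusion hle) (Subgroup.inclusion_injective hle)
  have hnop : ∀ Q : Subgroup H, Q.Normal → IsPGroup s Q → Q = ⊥ := by
    intro Q hQn hQ
    by_contra hne
    haveI : Nontrivial Q := (nontrivial_iff_ne_bot Q).2 hne
    obtain ⟨m, hm0, hm⟩ := hQ.nontrivial_iff_card.1 inferInstance
    obtain ⟨⟨y, hyQ⟩, hy⟩ := exists_prime_orderOf_dvd_card' (G := Q) s (hm ▸ dvd_pow_self s hm0.ne')
    rw [Subgroup.orderOf_mk] at hy
    obtain ⟨S, hS⟩ := hQ.exists_le_sylow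
    haveI : IsCyclic (S : Subgroup H) := by
      obtain ⟨e⟩ : Nonempty ((P : Subgroup H) ≃* (S : Subgroup H)) := ⟨P.equiv S⟩
      exact isCyclic_of_surjective e e.surjective
    refine hnorm (zpowers y) ⟨fun w hw g => ?_⟩ (by rw [Nat.card_zpowers, hy])
    have hgy : zpowers (g * y * g⁻¹) = zpowers y :=
      Cfsg.Lib.SolvStruct.CyclicProduct.eq_of_card_eq_of_isCyclic (A := (S : Subgroup H))
        (zpowers_le.2 (hS (hQn.conj_mem y hyQ g))) (zpowers_le.2 (hS hyQ)) (by
          rw [Nat.card_zpowers, Nat.card_zpowers]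
          exact (MulAut.conj g).orderOf_eq y)
    obtain ⟨i, rfl⟩ := mem_zpowers_iff.1 hw
    rw [show g * y ^ i * g⁻¹ = (g * y * g⁻¹) ^ i from conj_zpow.symm]
    exact zpow_mem (hgy ▸ mem_zpowers _) i
  -- the complex and the reduced representation
  obtain ⟨M, hM⟩ := exists_isPModular hp.out
  set b := Module.finBasis (ZMod p) V
  obtain ⟨m, hmn, π, hπ⟩ := exists_lift (M := M) ((LinearMap.toMatrixAlgEquiv b).toMonoidHom.comp ρ) hM
    (by rwa [← Nat.card_eq_fintype_card]) ((LinearMap.toMatrixAlgEquiv b).injective.comp hinj)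
  obtain ⟨M', hM'⟩ := exists_isPModular hs
  haveI := charP_res hM'
  obtain ⟨U, σ, hU, hσ⟩ := exists_faithful_reduction hM' π hπ hnop
  have hns : n ∣ s - 1 := by
    rw [← hord]
    refine orderOf_dvd_of_pow_eq_one (ZMod.pow_card_sub_one_eq_one fun h => hsp ?_)
    exact ((Nat.prime_dvd_prime_iff_eq hs hp.out).1 ((ZMod.natCast_eq_zero_iff _ _).1 h))
  have hns' : n ≤ s - 1 := Nat.le_of_dvd (by have := hs.two_le; omega) hns
  have hsq : ¬ s ^ 2 ∣ Nat.card H := by
    intro h2
    have hP2 := P.pow_dvd_card_of_pow_dvd_card h2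
    obtain ⟨g, hg⟩ := IsCyclic.exists_generator (α := (P : Subgroup H))
    have hgP : Nat.card (P : Subgroup H) = orderOf g := (orderOf_eq_card_of_forall_mem_zpowers hg).symm
    obtain ⟨j, hj⟩ := IsPGroup.iff_card.1 P.2
    have hpow : σ (g : H) ^ s ^ j = 1 := by
      rw [← map_pow, ← SubmonoidClass.coe_pow, ← hj, hgP, pow_orderOf_eq_one, OneMemClass.coe_one, map_one]
    have h1 := pow_prime_eq_one (s := s) (hU.le.trans (by omega)) _ hpow
    rw [← map_pow, ← map_one σ] at h1
    have h3 : g ^ s = 1 := Subtype.ext (hσ h1)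
    have h4 := Nat.le_of_dvd hs.pos (orderOf_dvd_of_pow_eq_one h3)
    have h5 := Nat.le_of_dvd (orderOf_pos g) (hgP ▸ hP2)
    have : s * 2 ≤ s ^ 2 := by rw [pow_two]; exact Nat.mul_le_mul_left s hs.two_le
    have := hs.two_le
    omega
  have hs2 : 2 * n + 1 < s := hor.resolve_right fun h => hsq (h.trans hdiv)
  have hbound := deg_bound_faithful (p := s) (G := H) hsH hsq (fun X hX hc => hnorm X hX hc)
    (χ := π.character) ⟨m, π, rfl⟩ (fun g hg => Cfsg.Lib.OddChar.Blichfeldt.faithful_of_character hπ hg)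
  rw [deg_character, finrank_fintype_fun_eq_card, Fintype.card_fin] at hbound
  omega

end Cfsg.Lib.Blocks.CoprimeTransitive
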