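import Mathlib
import Cfsg.Agent.Counting.ClassNumberIndex

/-!
# Lower bounds for class numbers
-/

set_option autoImplicit false
set_option linter.unusedSectionVars false
set_option linter.style.haveILetI false

namespace Cfsg.Lib.Blocks.CoprimeTransitive

open Subgroup

variable {H : Type*} [Group H] [Finite H]

theorem card_classes_of_comm (hc : ∀ a b : H, a * b = b * a) :
    Nat.card (ConjClasses H) = Nat.card H :=
  (Nat.card_congr (Equiv.ofBijective ConjClasses.mk ⟨fun a b h => by
    obtain ⟨c, hc'⟩ := isConj_iff.1 (ConjClasses.mk_eq_mk_iff_isConj.1 h)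
    rw [← hc', hc c a, mul_assoc, mul_inv_cancel, mul_one], Quotient.mk_surjective⟩)).symm

/-- An abelian subgroup of index `j` gives `|A| / j` classes. -/
theorem card_le_index_mul_classes (A : Subgroup H) (hA : ∀ a ∈ A, ∀ b ∈ A, a * b = b * a) :
    Nat.card A ≤ A.index * Nat.card (ConjClasses H) := by
  rw [← card_classes_of_comm (fun a b : A => Subtype.ext (hA a a.2 b b.2))]
  exact (Cfsg.Lib.Counting.classNumber_bounds A).1

theorem card_carrier_mul (g : H) :
    Nat.card (ConjClasses.mk g).carrier * Nat.card ↥(centralizer ({g} : Set H)) = Nat.card H := by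
  haveI := Fintype.ofFinite H
  classical
  rw [nat_card_centralizer_nat_card_stabilizer, ← ConjAct.orbit_eq_carrier_conjClasses,
    Nat.card_eq_fintype_card, Nat.card_eq_fintype_card, Nat.card_eq_fintype_card,
    MulAction.card_orbit_mul_card_stabilizer_eq_card_group (ConjAct H) g, ConjAct.card]

theorem sum_carrier [Fintype (ConjClasses H)] :
    ∑ C : ConjClasses H, Nat.card C.carrier = Nat.card H := by
  haveI := Fintype.ofFinite H
  classical
  rw [← Nat.card_sigma]
  refine Nat.card_congr (Equiv.ofBijective (fun s => s.2.1) ⟨?_, fun g => ⟨⟨ConjClasses.mk g, g,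
    ConjClasses.mem_carrier_mk⟩, rfl⟩⟩)
  rintro ⟨C, x, hx⟩ ⟨D, y, hy⟩ (h : x = y)
  subst h
  obtain rfl : C = D := (ConjClasses.mem_carrier_iff_mk_eq.1 hx).symm.trans (ConjClasses.mem_carrier_iff_mk_eq.1 hy)
  rfl

/-- A centraliser of order two forces `4 ∤ |H|`. -/
theorem not_four_dvd_of_centralizer_two {x : H} (h2 : Nat.card ↥(centralizer ({x} : Set H)) = 2) :
    ¬ 4 ∣ Nat.card H := by
  intro h4
  haveI : Fact (Nat.Prime 2) := ⟨Nat.prime_two⟩
  have hxC : x ∈ centralizer ({x} : Set H) := mem_centralizer_singleton_iff.2 rfl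
  have hx1 : x ≠ 1 := by
    rintro rfl
    rw [show centralizer ({(1 : H)} : Set H) = ⊤ from top_unique fun y _ =>
      mem_centralizer_singleton_iff.2 (by rw [mul_one, one_mul]), Subgroup.card_top] at h2
    rw [h2] at h4; omega
  have hox : orderOf x = 2 := by
    refine ((Nat.dvd_prime Nat.prime_two).1 ?_).resolve_left fun h => hx1 (orderOf_eq_one_iff.1 h)
    rw [← h2, ← Subgroup.orderOf_mk (a := x) (ha := hxC)]
    exact orderOf_dvd_natCard _
  obtain ⟨S, hS⟩ := IsPGroup.exists_le_sylow (p := 2) (P := zpowers x)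
    (IsPGroup.of_card (n := 1) (by rw [Nat.card_zpowers, hox, pow_one]))
  have hxS : x ∈ (S : Subgroup H) := hS (mem_zpowers x)
  have h4S : 4 ∣ Nat.card (S : Subgroup H) := by
    have := S.pow_dvd_card_of_pow_dvd_card (n := 2) (by simpa using h4)
    simpa using this
  haveI : Nontrivial (S : Subgroup H) := ⟨⟨⟨x, hxS⟩, 1, fun h => hx1 (congrArg Subtype.val h)⟩⟩
  haveI := S.2.center_nontrivial
  obtain ⟨⟨⟨z, hzS⟩, hz⟩, hz1⟩ := exists_ne (1 : Subgroup.center (S : Subgroup H))
  have hzx : z * x = x * z := congrArg Subtype.val (Subgroup.mem_center_iff.1 hz ⟨x, hxS⟩).symm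
  have hC : centralizer ({x} : Set H) = zpowers x := by
    refine (eq_of_le_of_card_ge (zpowers_le.2 hxC) ?_).symm
    rw [h2, Nat.card_zpowers, hox]
  have hzeq : z = x := by
    have hzm : z ∈ zpowers x := hC ▸ mem_centralizer_singleton_iff.2 hzx
    obtain ⟨k, rfl⟩ := mem_zpowers_iff.1 hzm
    have hk : x ^ k = x ^ (k % 2) := by
      rw [← zpow_mod_orderOf, hox]; rfl
    rcases Int.emod_two_eq_zero_or_one k with h | h
    · exfalso
      refine hz1 (Subtype.ext (Subtype.ext ?_))
      show x ^ k = 1
      rw [hk, h, zpow_zero]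
    · rw [hk, h, zpow_one]
  subst hzeq
  have hle : (S : Subgroup H) ≤ centralizer ({z} : Set H) := fun y hy =>
    mem_centralizer_singleton_iff.2 (congrArg Subtype.val (Subgroup.mem_center_iff.1 hz ⟨y, hy⟩))
  have := Nat.le_of_dvd (by norm_num) (h4S.trans ((Subgroup.card_dvd_of_le hle).trans h2.dvd))
  omega

/-- At least five classes when `4 ∣ |H|` and `|H| ≥ 24`. -/
theorem five_le_classes (h4 : 4 ∣ Nat.card H) (h24 : 24 ≤ Nat.card H) :
    5 ≤ Nat.card (ConjClasses H) := by
  classical
  haveI := Fintype.ofFinite (ConjClasses H)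
  by_contra hlt
  set N := Nat.card H
  set one := ConjClasses.mk (1 : H)
  have hsum := sum_carrier (H := H)
  have hone : Nat.card one.carrier = 1 := by
    have := card_carrier_mul (1 : H)
    rw [show centralizer ({(1 : H)} : Set H) = ⊤ from top_unique fun y _ =>
      mem_centralizer_singleton_iff.2 (by rw [mul_one, one_mul]), Subgroup.card_top] at this
    exact Nat.eq_of_mul_eq_mul_right (by omega : 0 < N) (by rw [this, one_mul])
  rw [← Finset.add_sum_erase _ _ (Finset.mem_univ one), hone] at hsum
  -- each further class is a third of the group or at most a quarter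
  have hthird : ∀ C ∈ Finset.univ.erase one, 3 * Nat.card C.carrier = N ∨ 4 * Nat.card C.carrier ≤ N := by
    intro C hC
    obtain ⟨y, rfl⟩ := ConjClasses.exists_rep C
    have hy1 : y ≠ 1 := fun h => (Finset.mem_erase.1 hC).1 (by rw [h])
    have hy := card_carrier_mul y
    have hy2 : Nat.card ↥(centralizer ({y} : Set H)) ≠ 2 := fun h => not_four_dvd_of_centralizer_two h h4
    have : 2 ≤ Nat.card ↥(centralizer ({y} : Set H)) := by
      haveI : Nontrivial ↥(centralizer ({y} : Set H)) :=
        ⟨⟨⟨y, mem_centralizer_singleton_iff.2 rfl⟩, 1, fun h => hy1 (congrArg Subtype.val h)⟩⟩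
      exact Finite.one_lt_card
    rcases (by omega : Nat.card ↥(centralizer ({y} : Set H)) = 3 ∨
        4 ≤ Nat.card ↥(centralizer ({y} : Set H))) with h | h
    · left; rw [h] at hy; rw [mul_comm]; exact hy
    · right
      calc 4 * _ = Nat.card (ConjClasses.mk y).carrier * 4 := Nat.mul_comm _ _
        _ ≤ _ := Nat.mul_le_mul_left _ h
        _ = N := hy
  have hc3 : (Finset.univ.erase one).card ≤ 3 := by
    rw [Finset.card_erase_of_mem (Finset.mem_univ _), Finset.card_univ, ← Nat.card_eq_fintype_card]
    omega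
  by_cases hall : ∀ C ∈ Finset.univ.erase one, 3 * Nat.card C.carrier = N
  · have h3 : 3 * ∑ C ∈ Finset.univ.erase one, Nat.card C.carrier = (Finset.univ.erase one).card * N := by
      rw [Finset.mul_sum, Finset.sum_congr rfl hall, Finset.sum_const, smul_eq_mul]
    interval_cases (Finset.univ.erase one).card <;> omega
  · push Not at hall
    obtain ⟨D, hD, hD3⟩ := hall
    have hD4 := (hthird D hD).resolve_left hD3
    rw [← Finset.add_sum_erase _ _ hD] at hsum
    have h3 : 3 * ∑ C ∈ (Finset.univ.erase one).erase D, Nat.card C.carrier ≤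
        ((Finset.univ.erase one).erase D).card * N := by
      rw [Finset.mul_sum, ← smul_eq_mul]
      refine Finset.sum_le_card_nsmul _ _ _ fun C hC => ?_
      rcases hthird C (Finset.mem_of_mem_erase hC) with h | h <;> omega
    have h2 : ((Finset.univ.erase one).erase D).card ≤ 2 := by
      rw [Finset.card_erase_of_mem hD]; omega
    have := h3.trans (Nat.mul_le_mul_right N h2)
    omega

end Cfsg.Lib.Blocks.CoprimeTransitive
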