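import Mathlib

/-!
# Centralisers and orders in `SL(2, 5)`
-/

set_option autoImplicit false

namespace Cfsg.Lib.Blocks.CoprimeTransitive

/-- The group `SL(2,5)`. -/
abbrev SLFive := Matrix.SpecialLinearGroup (Fin 2) (ZMod 5)

theorem slfive_check : ∀ x : SLFive, x ≠ 1 → x ≠ -1 → ∃ d ∈ ({3, 4, 5, 6, 10} : Finset ℕ),
    x ^ d = 1 ∧ (∀ m ∈ Finset.range d, 0 < m → x ^ m ≠ 1) ∧
      (Finset.univ.filter fun y : SLFive => y * x = x * y).card ∣ 2 * d := by
  decide +kernel

/-- An element of order four. -/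
def slfiveA : SLFive := ⟨!![0, 1; 4, 0], by decide +kernel⟩

/-- Another element of order four. -/
def slfiveB : SLFive := ⟨!![2, 0; 1, 3], by decide +kernel⟩

theorem slfive_pair : slfiveA ^ 2 = -1 ∧ slfiveB ^ 2 = -1 ∧ (slfiveA * slfiveB) ^ 3 = -1 ∧
    slfiveA * slfiveB ≠ -1 ∧ (-1 : SLFive) ≠ 1 ∧ (-1 : SLFive) ^ 2 = 1 ∧
      (Finset.univ.filter fun y : SLFive => y * slfiveA = slfiveA * y).card = 4 ∧
      (Finset.univ.filter fun y : SLFive => y * slfiveB = slfiveB * y).card = 4 ∧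
      (Finset.univ.filter fun y : SLFive => y * (slfiveA * slfiveB) = slfiveA * slfiveB * y).card = 6 := by
  decide +kernel

theorem slfive_neg_central : ∀ y : SLFive, y * -1 = -1 * y := by
  decide +kernel

end Cfsg.Lib.Blocks.CoprimeTransitive
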