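import Cfsg.Agent.Blocks.CoprimeTransitive.Reduction
import Cfsg.Agent.Blocks.CoprimeTransitive.SLFive
import Cfsg.Agent.Chars.NDAD.Reduce

/-!
# No further classes over `11² : SL(2,5)` is impossible
-/

set_option autoImplicit false
set_option linter.unusedSectionVars false
set_option linter.style.haveILetI false

namespace Cfsg.Lib.Blocks.CoprimeTransitive

open Subgroup
open Cfsg

universe u

/-- The fixed points of an automorphism. -/
def fixSub {A : Type*} [Group A] (f : MulAut A) : Subgroup A where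
  carrier := {a | f a = a}
  one_mem' := map_one f
  mul_mem' {a b} (ha : f a = a) (hb : f b = b) := by show f (a * b) = a * b; rw [map_mul, ha, hb]
  inv_mem' {a} (ha : f a = a) := by show f a⁻¹ = a⁻¹; rw [map_inv, ha]

/-- A transitive action of a group with normal abelian noncyclic subgroup of exponent `p`, order `p²`. -/
theorem kernel_meets {p : ℕ} [hp : Fact p.Prime] {X : Type u} [Group X] [Finite X] {N : Type u} [CommGroup N]
    [Finite N] [Nontrivial N] (act : X →* MulAut N) (htr : ∀ a b : N, a ≠ 1 → b ≠ 1 → ∃ x, act x a = b)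
    (hpN : ∀ a : N, a ^ p = 1 → a = 1) (Q : Subgroup X) [Q.Normal] (hcomm : ∀ a ∈ Q, ∀ b ∈ Q, a * b = b * a)
    (hexp : ∀ a ∈ Q, a ^ p = 1) (hcard : Nat.card Q = p ^ 2) : ∃ x ∈ Q, x ≠ 1 ∧ act x = 1 := by
  classical
  by_contra hno
  push Not at hno
  let St : N → Subgroup X := fun v => Q ⊓
    { carrier := {x | act x v = v}
      one_mem' := by simp
      mul_mem' := fun {a b} (ha : act a v = v) (hb : act b v = v) => by
        show act (a * b) v = v
        rw [map_mul, MulAut.mul_apply, hb, ha]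
      inv_mem' := fun {a} (ha : act a v = v) => by
        show act a⁻¹ v = v
        conv_lhs => rw [← ha]
        rw [map_inv, MulAut.inv_apply_self] }
  have hmem : ∀ v x, x ∈ St v ↔ x ∈ Q ∧ act x v = v := fun v x => Iff.rfl
  have hconst : ∀ a b : N, a ≠ 1 → b ≠ 1 → Nat.card (St a) ≤ Nat.card (St b) := by
    intro a b ha hb
    obtain ⟨g, rfl⟩ := htr a b ha hb
    refine Nat.card_le_card_of_injective (fun x : St a => (⟨g * (x : X) * g⁻¹, (hmem _ _).2
      ⟨(inferInstance : Q.Normal).conj_mem _ ((hmem _ _).1 x.2).1 g, ?_⟩⟩ : St (act g a))) fun x y h => ?_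
    · rw [map_mul, map_mul, MulAut.mul_apply, MulAut.mul_apply, map_inv, MulAut.inv_apply_self,
        ((hmem _ _).1 x.2).2]
    · exact Subtype.ext (mul_left_cancel (mul_right_cancel (congrArg Subtype.val h : g * (x : X) * g⁻¹ = g * y * g⁻¹)))
  have hdvd : ∀ v, Nat.card (St v) ∣ p ^ 2 := fun v => hcard ▸ Subgroup.card_dvd_of_le inf_le_left
  obtain ⟨v₀, hv₀⟩ := exists_ne (1 : N)
  -- every stabiliser has order `p`
  have hp1 : ∀ v : N, v ≠ 1 → Nat.card (St v) = p := by
    obtain ⟨i, hi, hc⟩ := (Nat.dvd_prime_pow hp.out).1 (hdvd v₀)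
    have hall : ∀ v : N, v ≠ 1 → Nat.card (St v) = p ^ i := fun v hv =>
      hc ▸ le_antisymm (hconst v v₀ hv hv₀) (hconst v₀ v hv₀ hv)
    interval_cases i
    · -- fixed point free
      exfalso
      letI : CommGroup Q := { mul_comm := fun a b => Subtype.ext (hcomm a a.2 b b.2) }
      have hcyc := Cfsg.Lib.NDAD.isCyclic_of_fpf (A := Q) (V := N) (act.comp Q.subtype) (fun a ha v hv => by
        by_contra hv1
        have h1 : St v = ⊥ := Subgroup.eq_bot_of_card_eq _ (by rw [hall v hv1, pow_zero])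
        exact ha (Subtype.ext (Subgroup.mem_bot.1 (h1 ▸ (hmem v a).2 ⟨a.2, hv⟩)))) ⟨v₀, fun r hr hrd h => by
          rw [hcard] at hrd
          obtain rfl : r = p := (Nat.prime_dvd_prime_iff_eq hr hp.out).1 (hr.dvd_of_dvd_pow hrd)
          exact hv₀ (hpN _ h)⟩
      obtain ⟨g, hg⟩ := IsCyclic.exists_generator (α := Q)
      have := orderOf_eq_card_of_forall_mem_zpowers hg
      have hle : orderOf g ≤ p := Nat.le_of_dvd hp.out.pos (orderOf_dvd_of_pow_eq_one (Subtype.ext (by
        rw [SubmonoidClass.coe_pow, OneMemClass.coe_one]; exact hexp g g.2)))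
      rw [this, hcard, pow_two] at hle
      have := Nat.mul_le_mul_left p hp.out.two_le
      have := hp.out.two_le
      omega
    · exact fun v hv => by rw [hall v hv, pow_one]
    · exfalso
      obtain ⟨x, hx, hx1⟩ := Q.bot_or_exists_ne_one.resolve_left fun h => by
        rw [h, Subgroup.card_bot] at hcard
        exact (one_lt_pow₀ hp.out.one_lt two_ne_zero).ne hcard
      refine hno x hx hx1 (MulEquiv.ext fun v => ?_)
      by_cases hv : v = 1
      · rw [hv, map_one]; rfl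
      · have h1 : St v = Q := eq_of_le_of_card_ge inf_le_left (by rw [hall v hv, hcard])
        exact ((hmem v x).1 (h1.symm ▸ hx)).2
  -- two stabilisers with a common nontrivial element agree
  have hsame : ∀ v w : N, v ≠ 1 → w ≠ 1 → ∀ x, x ≠ 1 → x ∈ St v → x ∈ St w → St v = St w := by
    have : ∀ v : N, v ≠ 1 → ∀ x, x ≠ 1 → x ∈ St v → zpowers x = St v := fun v hv x hx1 hx =>
      eq_of_le_of_card_ge (zpowers_le.2 hx) (by
        rw [Nat.card_zpowers, hp1 v hv, orderOf_eq_prime (hexp x ((hmem v x).1 hx).1) hx1])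
    intro v w hv hw x hx1 hx hx'
    rw [← this v hv x hx1 hx, ← this w hw x hx1 hx']
  have hex : ∀ v : N, v ≠ 1 → ∃ x, x ∈ St v ∧ x ≠ 1 := fun v hv => by
    obtain ⟨x, hx, hx1⟩ := (St v).bot_or_exists_ne_one.resolve_left fun h => by
      have := hp1 v hv
      rw [h, Subgroup.card_bot] at this
      exact hp.out.one_lt.ne this
    exact ⟨x, hx, hx1⟩
  have hall : ∀ a b : N, a ≠ 1 → b ≠ 1 → St a = St b := by
    intro a b ha hb
    by_contra hne
    have hab : a * b ≠ 1 := fun h => hne (by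
      have hba : b = a⁻¹ := eq_inv_of_mul_eq_one_right h
      obtain ⟨x, hx, hx1⟩ := hex a ha
      exact hsame a b ha hb x hx1 hx ((hmem b x).2 ⟨((hmem a x).1 hx).1, by rw [hba, map_inv, ((hmem a x).1 hx).2]⟩))
    obtain ⟨x, hx, hx1⟩ := hex _ hab
    obtain ⟨t, ht, ht1⟩ := hex a ha
    obtain ⟨y, hy, hy1⟩ := hex b hb
    obtain ⟨hxQ, hxu⟩ := (hmem _ x).1 hx
    obtain ⟨htQ, hta⟩ := (hmem _ t).1 ht
    obtain ⟨hyQ, hyb⟩ := (hmem _ y).1 hy
    set c := b⁻¹ * act t b with hc
    have hc1 : c ≠ 1 := fun h => hne (by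
      have : act t b = b := (inv_mul_eq_one.1 h).symm
      exact hsame a b ha hb t ht1 ht ((hmem b t).2 ⟨htQ, this⟩))
    have hcu : c = (a * b)⁻¹ * act t (a * b) := by
      rw [map_mul, hta, hc, mul_inv_rev, mul_assoc, inv_mul_cancel_left]
    have hswap : ∀ w ∈ Q, ∀ v, act w (act t v) = act t (act w v) := fun w hw v => by
      rw [← MulAut.mul_apply, ← map_mul, hcomm w hw t htQ, map_mul, MulAut.mul_apply]
    have hxc : act x c = c := by rw [hcu, map_mul, map_inv, hxu, hswap x hxQ, hxu]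
    have hyc : act y c = c := by rw [hc, map_mul, map_inv, hyb, hswap y hyQ, hyb]
    have h1 := hsame (a * b) c hab hc1 x hx1 hx ((hmem c x).2 ⟨hxQ, hxc⟩)
    have h2 := hsame b c hb hc1 y hy1 hy ((hmem c y).2 ⟨hyQ, hyc⟩)
    have hxb : act x b = b := ((hmem b x).1 (by rw [h2, ← h1]; exact hx)).2
    have hxa : act x a = a := by
      rw [map_mul, hxb] at hxu
      exact mul_right_cancel hxu
    exact hne (hsame a b ha hb x hx1 ((hmem a x).2 ⟨hxQ, hxa⟩) ((hmem b x).2 ⟨hxQ, hxb⟩))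
  obtain ⟨t, ht, ht1⟩ := hex v₀ hv₀
  refine hno t ((hmem _ _).1 ht).1 ht1 (MulEquiv.ext fun v => ?_)
  by_cases hv : v = 1
  · rw [hv, map_one]; rfl
  · exact ((hmem v t).1 (hall v₀ v hv₀ hv ▸ ht)).2

variable {G : Type u} [Group G] [Finite G] {N : Subgroup G} [N.Normal]

/-- The centraliser orders over a regular element. -/
theorem card_centralizer_lift {p : ℕ} [Fact p.Prime] (hN : ¬ p ∣ Nat.card N) {y : G} (hy : ¬ p ∣ orderOf y)
    (hy1 : QuotientGroup.mk' N y ≠ 1)
    (hfib : ∀ a b : G, ¬ p ∣ orderOf a → ¬ p ∣ orderOf b → QuotientGroup.mk' N a ≠ 1 →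
      IsConj (QuotientGroup.mk' N a) (QuotientGroup.mk' N b) → IsConj a b) :
    Nat.card ↥(centralizer ({y} : Set G)) = Nat.card ↥(centralizer ({QuotientGroup.mk' N y} : Set (G ⧸ N))) := by
  set π := QuotientGroup.mk' N
  have hset : (ConjClasses.mk y).carrier = QuotientGroup.mk ⁻¹' (ConjClasses.mk (π y)).carrier := by
    ext z
    rw [Set.mem_preimage, ConjClasses.mem_carrier_iff_mk_eq, ConjClasses.mem_carrier_iff_mk_eq,
      ConjClasses.mk_eq_mk_iff_isConj, ConjClasses.mk_eq_mk_iff_isConj]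
    refine ⟨fun h => MonoidHom.map_isConj π h, fun h => (hfib y z hy ?_ hy1 h.symm).symm⟩
    refine regular_of_map N hN ?_
    obtain ⟨c, hc⟩ := isConj_iff.1 h.symm
    have hc' : π z = MulAut.conj c (π y) := hc.symm
    show ¬ p ∣ orderOf (π z)
    rw [hc', (MulAut.conj c).orderOf_eq]
    exact regular_map N hy
  have h1 := card_carrier_mul y
  have h2 := card_carrier_mul (π y)
  rw [hset, Nat.card_congr (QuotientGroup.preimageMkEquivSubgroupProdSet N _), Nat.card_prod,
    Subgroup.card_eq_card_quotient_mul_card_subgroup N, ← h2] at h1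
  refine Nat.eq_of_mul_eq_mul_left (Nat.mul_pos (Nat.card_pos (α := N)) ?_ :
    0 < Nat.card N * Nat.card (ConjClasses.mk (π y)).carrier) (h1.trans (by ring))
  haveI : Nonempty (ConjClasses.mk (π y)).carrier := ⟨⟨π y, ConjClasses.mem_carrier_mk⟩⟩
  exact Nat.card_pos

theorem card_centralizer_slfive {K : Type u} [Group K] [Finite K] (e : K ≃* SLFive) (k : K) :
    Nat.card ↥(centralizer ({k} : Set K)) = (Finset.univ.filter fun y : SLFive => y * e k = e k * y).card := by
  rw [← Fintype.card_subtype, ← Nat.card_eq_fintype_card]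
  refine Nat.card_congr (e.toEquiv.subtypeEquiv fun y => ?_)
  simp only [mem_centralizer_singleton_iff]
  constructor
  · intro h
    show e y * e k = e k * e y
    rw [← map_mul, h, map_mul]
  · intro h
    apply e.injective
    rw [map_mul, map_mul]
    exact h

/-- Two further classes appear. -/
theorem exceptional_false (hN : ¬ 11 ∣ Nat.card N) (hNne : N ≠ ⊥) {Q K : Subgroup (G ⧸ N)}
    (S : TransSetting 11 Q K) (hQ : Nat.card Q = 121) (hK : Nat.card K = 120) (e : K ≃* SLFive)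
    (hfib : ∀ a b : G, ¬ 11 ∣ orderOf a → ¬ 11 ∣ orderOf b → QuotientGroup.mk' N a ≠ 1 →
      IsConj (QuotientGroup.mk' N a) (QuotientGroup.mk' N b) → IsConj a b)
    (hN1 : ∀ a b : G, a ∈ N → b ∈ N → a ≠ 1 → b ≠ 1 → IsConj a b) : False := by
  classical
  haveI : Fact (Nat.Prime 11) := ⟨by norm_num⟩
  haveI := S.normal
  haveI : Nontrivial N := (nontrivial_iff_ne_bot N).2 hNne
  -- `N` has prime exponent and is abelian
  obtain ⟨⟨a₀, ha₀⟩, ha₀1⟩ := exists_ne (1 : N)
  have ha₀' : a₀ ≠ 1 := fun e => ha₀1 (Subtype.ext e)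
  have hord : ∀ a ∈ N, a ≠ 1 → orderOf a = orderOf a₀ := fun a ha ha1 => by
    obtain ⟨c, hc⟩ := isConj_iff.1 (hN1 a₀ a ha₀ ha ha₀' ha1)
    rw [← hc]
    exact (MulAut.conj c).orderOf_eq a₀
  set q := orderOf a₀
  have hq : q.Prime := by
    have hq1 : q ≠ 1 := fun h => ha₀' (orderOf_eq_one_iff.1 h)
    obtain ⟨r, hr, hrq⟩ := Nat.exists_prime_and_dvd hq1
    have ho : orderOf (a₀ ^ (q / r)) = r := orderOf_pow_orderOf_div (orderOf_pos a₀).ne' hrq
    have hne : a₀ ^ (q / r) ≠ 1 := fun h => by rw [h, orderOf_one] at ho; exact hr.one_lt.ne ho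
    have := hord _ (pow_mem ha₀ _) hne
    rw [ho] at this
    exact this ▸ hr
  haveI := Fact.mk hq
  have hqN : q ∣ Nat.card N := by
    rw [show q = orderOf (⟨a₀, ha₀⟩ : N) from (Subgroup.orderOf_mk _ _).symm]
    exact orderOf_dvd_natCard _
  have hq11 : q ≠ 11 := fun h => hN (h ▸ hqN)
  have hNp : IsPGroup q N := IsPGroup.iff_orderOf.2 fun a => by
    by_cases ha : (a : G) = 1
    · exact ⟨0, by rw [pow_zero, orderOf_eq_one_iff]; exact Subtype.ext ha⟩
    · exact ⟨1, by rw [pow_one, ← Subgroup.orderOf_coe, hord _ a.2 ha]⟩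
  haveI := hNp.center_nontrivial
  obtain ⟨⟨⟨z₀, hz₀⟩, hz₀c⟩, hz₀1⟩ := exists_ne (1 : Subgroup.center N)
  have hNcomm : ∀ a ∈ N, ∀ b ∈ N, a * b = b * a := by
    intro a ha b hb
    by_cases ha1 : a = 1
    · rw [ha1, one_mul, mul_one]
    obtain ⟨c, rfl⟩ := isConj_iff.1 (hN1 z₀ a hz₀ ha (fun e => hz₀1 (Subtype.ext (Subtype.ext e))) ha1)
    have hb' : c⁻¹ * b * c ∈ N := by simpa using (inferInstance : N.Normal).conj_mem b hb c⁻¹
    have h := congrArg Subtype.val (Subgroup.mem_center_iff.1 hz₀c ⟨c⁻¹ * b * c, hb'⟩)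
    simp only [Subgroup.coe_mul] at h
    calc c * z₀ * c⁻¹ * b = c * (z₀ * (c⁻¹ * b * c)) * c⁻¹ := by group
      _ = c * ((c⁻¹ * b * c) * z₀) * c⁻¹ := by rw [h]
      _ = b * (c * z₀ * c⁻¹) := by group
  letI : CommGroup N := { mul_comm := fun a b => Subtype.ext (hNcomm a a.2 b b.2) }
  let act : G ⧸ N →* MulAut N := QuotientGroup.lift N (MulAut.conjNormal (H := N)) fun n hn => by
    refine MulEquiv.ext fun a => Subtype.ext ?_
    rw [MulAut.conjNormal_apply, hNcomm n hn a a.2, mul_inv_cancel_right]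
    rfl
  have hval : ∀ (g : G) (a : N), ((act (QuotientGroup.mk' N g) a : N) : G) = g * a * g⁻¹ :=
    fun g a => MulAut.conjNormal_apply g a
  have htr : ∀ a b : N, a ≠ 1 → b ≠ 1 → ∃ x, act x a = b := by
    intro a b ha hb
    obtain ⟨c, hc⟩ := isConj_iff.1 (hN1 a b a.2 b.2 (fun e => ha (Subtype.ext e)) fun e => hb (Subtype.ext e))
    exact ⟨QuotientGroup.mk' N c, Subtype.ext (by rw [hval, hc])⟩
  -- `Q` acts trivially
  have hQker : ∀ x ∈ Q, act x = 1 := by
    obtain ⟨x, hx, hx1, hx'⟩ := kernel_meets (p := 11) act htr (fun a ha => by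
      by_contra ha1
      have h1 : (a : G) ^ 11 = 1 := by rw [← SubmonoidClass.coe_pow, ha]; rfl
      have h2 := orderOf_dvd_of_pow_eq_one h1
      rw [hord _ a.2 (fun e => ha1 (Subtype.ext e))] at h2
      exact hq11 ((Nat.prime_dvd_prime_iff_eq hq (by norm_num)).1 h2)) Q S.comm S.exp (by rw [hQ]; norm_num)
    intro w hw
    by_cases hw1 : w = 1
    · rw [hw1, map_one]
    obtain ⟨k, -, hk⟩ := S.trans x hx w hw hx1 hw1
    rw [← hk, map_mul, map_mul, hx', mul_one, ← map_mul, mul_inv_cancel, map_one]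
  let θ : K →* MulAut N := act.comp K.subtype
  have htrK : ∀ a b : N, a ≠ 1 → b ≠ 1 → ∃ k, θ k a = b := by
    intro a b ha hb
    obtain ⟨x, hx⟩ := htr a b ha hb
    obtain ⟨w, hw, k, hk, rfl⟩ := S.decomp x
    refine ⟨⟨k, hk⟩, ?_⟩
    rw [← hx, map_mul, hQker w hw, one_mul]
    rfl
  have hKfree := fun {v k : G ⧸ N} => S.free (v := v) (k := k) (by rw [hK, hQ])
  -- fixed points are small
  have hA : ∀ k : K, k ≠ 1 → Nat.card (fixSub (θ k)) * orderOf k ∣ Nat.card ↥(centralizer ({k} : Set K)) := by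
    intro k hk
    have hk' : (k : G ⧸ N) ≠ 1 := fun e => hk (Subtype.ext e)
    have hkreg : ¬ 11 ∣ orderOf (k : G ⧸ N) := by
      rw [Subgroup.orderOf_coe]
      exact fun h => S.cop (h.trans (orderOf_dvd_natCard k))
    obtain ⟨y, hy, hyreg⟩ := exists_regular_lift N hkreg
    have hc := card_centralizer_lift hN hyreg (by rw [hy]; exact hk') hfib
    rw [hy] at hc
    have hCK : Nat.card ↥(centralizer ({(k : G ⧸ N)} : Set (G ⧸ N))) = Nat.card ↥(centralizer ({k} : Set K)) := by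
      refine (Nat.card_congr (Equiv.ofBijective (fun c : centralizer ({k} : Set K) =>
        (⟨((c : K) : G ⧸ N), mem_centralizer_singleton_iff.2 (congrArg Subtype.val (mem_centralizer_singleton_iff.1 c.2))⟩ :
          centralizer ({(k : G ⧸ N)} : Set (G ⧸ N)))) ⟨fun a b h => ?_, ?_⟩)).symm
      · exact Subtype.ext (Subtype.ext (congrArg (fun z : centralizer ({(k : G ⧸ N)} : Set (G ⧸ N)) => (z : G ⧸ N)) h))
      · rintro ⟨x, hx⟩
        rw [mem_centralizer_singleton_iff] at hx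
        obtain ⟨w, hw, c, hc', rfl⟩ := S.decomp x
        have h1 : c * k * c⁻¹ ∈ K := mul_mem (mul_mem hc' k.2) (inv_mem hc')
        have h2 : w * (c * k * c⁻¹) * w⁻¹ = (k : G ⧸ N) := by
          rw [show w * (c * k * c⁻¹) * w⁻¹ = (w * c) * k * (w * c)⁻¹ by group, hx, mul_inv_cancel_right]
        have h3 : c * k * c⁻¹ = (k : G ⧸ N) := S.eq_of_mk h1 k.2 (by
          rw [show (c * (k : G ⧸ N) * c⁻¹)⁻¹ * k = (c * k * c⁻¹)⁻¹ * (w * (c * k * c⁻¹) * w⁻¹) by rw [h2],
            show (c * (k : G ⧸ N) * c⁻¹)⁻¹ * (w * (c * k * c⁻¹) * w⁻¹) =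
              ((c * k * c⁻¹)⁻¹ * w * ((c * k * c⁻¹)⁻¹)⁻¹) * w⁻¹ by group]
          exact mul_mem (S.normal.conj_mem w hw _) (inv_mem hw))
        rw [h3] at h2
        have hw1 : w = 1 := by
          by_contra hw1
          refine hk' (hKfree hw hw1 k.2 ?_)
          have : w * k = k * w := mul_inv_eq_iff_eq_mul.1 h2
          rw [← this, mul_inv_cancel_right]
        subst hw1
        exact ⟨⟨⟨c, hc'⟩, mem_centralizer_singleton_iff.2 (Subtype.ext (mul_inv_eq_iff_eq_mul.1 h3))⟩,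
          Subtype.ext (one_mul c).symm⟩
    rw [← hCK, ← hc]
    set C := centralizer ({y} : Set G)
    let f : C →* G ⧸ N := (QuotientGroup.mk' N).comp C.subtype
    have hfy : ∀ a : N, θ k a = a ↔ (a : G) ∈ C := fun a => by
      rw [mem_centralizer_singleton_iff]
      have e1 : ((θ k a : N) : G) = y * a * y⁻¹ := by
        show ((act (k : G ⧸ N) a : N) : G) = _
        rw [← hy, hval]
      constructor
      · intro h
        rw [h] at e1
        exact (mul_inv_eq_iff_eq_mul.1 e1.symm).symm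
      · intro h
        exact Subtype.ext (e1.trans (by rw [← h, mul_inv_cancel_right]))
    have hkerc : Nat.card f.ker = Nat.card (fixSub (θ k)) := by
      refine Nat.card_congr
        { toFun := fun c => ⟨⟨(c.1 : G), (QuotientGroup.eq_one_iff _).1 c.2⟩,
            (hfy ⟨_, (QuotientGroup.eq_one_iff _).1 c.2⟩).2 c.1.2⟩
          invFun := fun a => ⟨⟨(a.1 : G), (hfy a.1).1 a.2⟩, (QuotientGroup.eq_one_iff _).2 a.1.2⟩
          left_inv := fun c => rfl
          right_inv := fun a => rfl }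
    rw [← f.ker.card_mul_index, Subgroup.index_ker, hkerc]
    refine Nat.mul_dvd_mul_left _ ?_
    have hkr : (k : G ⧸ N) ∈ f.range := ⟨⟨y, mem_centralizer_singleton_iff.2 rfl⟩, hy⟩
    rw [← Subgroup.orderOf_coe, ← Subgroup.orderOf_mk (a := (k : G ⧸ N)) (ha := hkr)]
    exact orderOf_dvd_natCard _
  have hfixq : ∀ k : K, k ≠ 1 → ∀ a : N, θ k a = a → a ≠ 1 →
      q * orderOf k ∣ Nat.card ↥(centralizer ({k} : Set K)) := by
    intro k hk a ha ha1
    refine (Nat.mul_dvd_mul_right ?_ _).trans (hA k hk)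
    rw [show q = orderOf (⟨a, ha⟩ : fixSub (θ k)) from
      ((Subgroup.orderOf_mk a ha).trans ((Subgroup.orderOf_coe a).symm.trans
        (hord _ a.2 fun e => ha1 (Subtype.ext e)))).symm]
    exact orderOf_dvd_natCard _
  obtain ⟨hA2, hB2, hAB3, hABne, hne1, hsq, hcA, hcB, hcAB⟩ := slfive_pair
  set z := e.symm (-1) with hz
  set x₁ := e.symm slfiveA
  set x₂ := e.symm slfiveB
  have hz2 : z ^ 2 = 1 := by rw [hz, ← map_pow, hsq, map_one]
  have hzc : ∀ k : K, k * z = z * k := fun k => e.injective (by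
    rw [map_mul, map_mul, hz, e.apply_symm_apply]; exact slfive_neg_central _)
  have hz1 : z ≠ 1 := fun h => hne1 (e.symm.injective (by rw [map_one]; exact h))
  -- elements generating their centraliser are fixed point free
  have hfpf : ∀ k : K, k ≠ 1 → Nat.card ↥(centralizer ({k} : Set K)) = orderOf k → ∀ a, θ k a = a → a = 1 := by
    intro k hk hcard a ha
    by_contra ha1
    have h := hfixq k hk a ha ha1
    rw [hcard] at h
    have h2 := Nat.le_of_dvd (orderOf_pos k) h
    have h3 := hq.two_le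
    have h4 := orderOf_pos k
    nlinarith
  have hordz : ∀ (x : SLFive) (n : ℕ), x ^ n = -1 → orderOf (e.symm x) ∣ 2 * n := by
    intro x n h
    refine orderOf_dvd_of_pow_eq_one ?_
    rw [← map_pow, mul_comm, pow_mul, h, hsq, map_one]
  have hcardx : ∀ x : SLFive, ∀ n, (Finset.univ.filter fun y : SLFive => y * x = x * y).card = n →
      Nat.card ↥(centralizer ({e.symm x} : Set K)) = n := fun x n h => by
    rw [card_centralizer_slfive e, e.apply_symm_apply, h]
  have hord4 : ∀ x : SLFive, x ^ 2 = -1 → orderOf (e.symm x) = 4 := by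
    intro x h
    refine orderOf_eq_prime_pow (p := 2) (n := 1) ?_ ?_
    · rw [pow_one, ← map_pow, h]; exact hz1
    · rw [← map_pow, show (2 : ℕ) ^ (1 + 1) = 2 * 2 by norm_num, pow_mul, h, hsq, map_one]
  have ho6 : orderOf (x₁ * x₂) = 6 := by
    have hd : orderOf (x₁ * x₂) ∣ 6 := by rw [← map_mul]; exact hordz _ 3 hAB3
    have h3 : ¬ orderOf (x₁ * x₂) ∣ 3 := fun h => hz1 (by
      rw [orderOf_dvd_iff_pow_eq_one, ← map_mul, ← map_pow, hAB3] at h; exact h)
    have h2 : ¬ orderOf (x₁ * x₂) ∣ 2 := fun h => hABne (by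
      rw [orderOf_dvd_iff_pow_eq_one, ← map_mul, ← map_pow] at h
      have h' : (slfiveA * slfiveB) ^ 2 = 1 := e.symm.injective (by rw [h, map_one])
      rw [← hAB3, pow_succ, h', one_mul])
    have := Nat.le_of_dvd (by norm_num) hd
    interval_cases (orderOf (x₁ * x₂)) <;> norm_num at *
  have hne' : ∀ x : K, ∀ n, 1 < n → orderOf x = n → x ≠ 1 := fun x n hn h e => by
    rw [e, orderOf_one] at h; omega
  have hx1f := hfpf x₁ (hne' _ 4 (by norm_num) (hord4 _ hA2)) (by rw [hcardx _ 4 hcA, hord4 _ hA2])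
  have hx2f := hfpf x₂ (hne' _ 4 (by norm_num) (hord4 _ hB2)) (by rw [hcardx _ 4 hcB, hord4 _ hB2])
  have hx12f := hfpf (x₁ * x₂) (hne' _ 6 (by norm_num) ho6) (by rw [← map_mul, hcardx _ 6 hcAB, map_mul, ho6])
  -- an involution without fixed points inverts
  have hinv : ∀ f : MulAut N, f * f = 1 → (∀ a, f a = a → a = 1) → ∀ a, f a = a⁻¹ := by
    intro f hf hfp a
    refine eq_inv_of_mul_eq_one_right (hfp (a * f a) ?_)
    rw [map_mul, ← MulAut.mul_apply, hf, MulAut.one_apply, mul_comm]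
  have hzfp : ∀ a, θ z a = a → a = 1 := by
    intro a ha
    by_contra ha1
    have hztriv : θ z = 1 := MulEquiv.ext fun b => by
      by_cases hb : b = 1
      · rw [hb, map_one]; rfl
      obtain ⟨k, hk⟩ := htrK a b ha1 hb
      rw [← hk, ← MulAut.mul_apply, ← map_mul, ← hzc, map_mul, MulAut.mul_apply, ha]
      rfl
    have hsq' : ∀ x : SLFive, x ^ 2 = -1 → θ (e.symm x) * θ (e.symm x) = 1 := fun x h => by
      rw [← map_mul, ← pow_two, ← map_pow, h]; exact hztriv
    have i1 := hinv _ (hsq' _ hA2) hx1f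
    have i2 := hinv _ (hsq' _ hB2) hx2f
    refine ha₀1 (hx12f ⟨a₀, ha₀⟩ ?_)
    rw [map_mul, MulAut.mul_apply, i2, map_inv, i1, inv_inv]
  have hzinv := hinv (θ z) (by rw [← map_mul, ← pow_two, hz2, map_one]) hzfp
  have hq2 : q ≠ 2 := by
    intro h
    refine ha₀1 (hzfp ⟨a₀, ha₀⟩ ?_)
    rw [hzinv]
    refine Subtype.ext (inv_eq_of_mul_eq_one_right ?_)
    show a₀ * a₀ = 1
    rw [← pow_two, ← h]
    exact pow_orderOf_eq_one a₀
  -- so `K` is free and transitive
  have hfree : ∀ k : K, k ≠ 1 → ∀ a, θ k a = a → a = 1 := by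
    intro k hk a ha
    by_cases hkz : k = z
    · exact hzfp a (hkz ▸ ha)
    by_contra ha1
    have hx1 : e k ≠ 1 := fun h => hk (e.injective (by rw [h, map_one]))
    have hxm : e k ≠ -1 := fun h => hkz (e.injective (by rw [h, hz, e.apply_symm_apply]))
    obtain ⟨d, hd, hpow, hmin, hdvd⟩ := slfive_check _ hx1 hxm
    have hd0 : 0 < d := by
      simp only [Finset.mem_insert, Finset.mem_singleton] at hd
      omega
    have ho : orderOf k = d := by
      rw [← e.orderOf_eq]
      exact (orderOf_eq_iff hd0).2 ⟨hpow, fun m hm hm0 => hmin m (Finset.mem_range.2 hm) hm0⟩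
    have h := (hfixq k hk a ha ha1).trans (card_centralizer_slfive e k ▸ hdvd)
    rw [ho] at h
    exact hq2 ((Nat.prime_dvd_prime_iff_eq hq Nat.prime_two).1 (Nat.dvd_of_mul_dvd_mul_right hd0 h))
  have hbij : Function.Bijective (fun k : K => (⟨θ k ⟨a₀, ha₀⟩, fun h => ha₀1 ((θ k).injective (by rw [h, map_one]))⟩ :
      {a : N // a ≠ 1})) := by
    constructor
    · intro k k' h
      have h' : θ k ⟨a₀, ha₀⟩ = θ k' ⟨a₀, ha₀⟩ := congrArg Subtype.val h
      by_contra hne
      refine ha₀1 (hfree (k'⁻¹ * k) (fun h'' => hne (inv_mul_eq_one.1 h'').symm) _ ?_)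
      rw [map_mul, MulAut.mul_apply, h', map_inv, MulAut.inv_apply_self]
    · rintro ⟨b, hb⟩
      obtain ⟨k, hk⟩ := htrK ⟨a₀, ha₀⟩ b ha₀1 hb
      exact ⟨k, Subtype.ext hk⟩
  have hcard := Nat.card_congr (Equiv.ofBijective _ hbij)
  rw [hK] at hcard
  have h2 : Nat.card N = 121 := by
    rw [← Nat.card_congr (Equiv.optionSubtypeNe (1 : N)), Finite.card_option, ← hcard]
  exact hN (h2 ▸ by norm_num)

end Cfsg.Lib.Blocks.CoprimeTransitive
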