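import Cfsg.Agent.Blocks.CoprimeTransitive.Linear

/-!
# The vector space over the field generated by an operator
-/

set_option autoImplicit false
set_option linter.unusedSectionVars false
set_option linter.style.haveILetI false

namespace Cfsg.Lib.Blocks.CoprimeTransitive

open Module Subgroup Polynomial

universe u v

variable {p : ℕ} [hp : Fact p.Prime] {V : Type v} [AddCommGroup V] [Module (ZMod p) V] [Finite V]
  {H : Type u} [Group H] [Finite H] {ρ : H →* Module.End (ZMod p) V}

/-- A commuting group acts linearly over the field generated by `T`. -/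
theorem exists_field_rep (hinj : Function.Injective ρ) (hcop : ¬ p ∣ Nat.card H) {m : (ZMod p)[X]}
    (hirr : Irreducible m) {T : Module.End (ZMod p) V} (hT : aeval T m = 0) (C : Subgroup H)
    (hC : ∀ c ∈ C, ρ c * T = T * ρ c) :
    ∃ (K : Type) (_ : Field K) (_ : Module K V) (ρ' : C →* Module.End K V),
      Function.Injective ρ' ∧ (Nat.card C : K) ≠ 0 ∧ finrank K V * m.natDegree = finrank (ZMod p) V := by
  haveI := Fact.mk hirr
  have hker : ∀ a ∈ Ideal.span ({m} : Set (ZMod p)[X]), (aeval T) a = 0 := by
    intro a ha
    obtain ⟨c, rfl⟩ := Ideal.mem_span_singleton'.1 ha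
    rw [map_mul, hT, mul_zero]
  let φ : AdjoinRoot m →ₐ[ZMod p] Module.End (ZMod p) V := Ideal.Quotient.liftₐ _ (aeval T) hker
  have hφ : ∀ a, φ (AdjoinRoot.mk m a) = aeval T a := fun a => rfl
  letI : Module (AdjoinRoot m) V := Module.compHom V φ.toRingHom
  haveI : IsScalarTower (ZMod p) (AdjoinRoot m) V := ⟨fun c x v => by
    show φ (c • x) v = c • φ x v
    rw [map_smul, LinearMap.smul_apply]⟩
  let ρ' : C →* Module.End (AdjoinRoot m) V :=
    { toFun := fun c =>
        { toFun := ρ c
          map_add' := map_add _
          map_smul' := fun x v => by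
            induction x using AdjoinRoot.induction_on with
            | ih a =>
              show ρ (c : H) (φ (AdjoinRoot.mk m a) v) = φ (AdjoinRoot.mk m a) (ρ (c : H) v)
              rw [hφ, ← Module.End.mul_apply, ← Module.End.mul_apply]
              refine LinearMap.congr_fun ?_ v
              induction a using Polynomial.induction_on' with
              | add a b ha hb => rw [map_add, mul_add, add_mul, ha, hb]
              | monomial k r =>
                rw [aeval_monomial, mul_assoc, ← mul_assoc (ρ (c : H)), ← Algebra.commutes r (ρ (c : H)),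
                  mul_assoc, (Commute.pow_right (hC c c.2 : Commute (ρ (c : H)) T) k).eq] }
      map_one' := LinearMap.ext fun v => by
        show ρ ((1 : C) : H) v = v
        rw [OneMemClass.coe_one, map_one, Module.End.one_apply]
      map_mul' := fun a b => LinearMap.ext fun v => by
        show ρ ((a * b : C) : H) v = ρ (a : H) (ρ (b : H) v)
        rw [Subgroup.coe_mul, map_mul, Module.End.mul_apply] }
  refine ⟨AdjoinRoot m, inferInstance, inferInstance, ρ', fun a b h => Subtype.ext (hinj ?_), ?_, ?_⟩
  · exact LinearMap.ext fun v => LinearMap.congr_fun h v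
  · rw [← map_natCast (algebraMap (ZMod p) (AdjoinRoot m)), _root_.map_ne_zero, Ne, ZMod.natCast_eq_zero_iff]
    exact fun h => hcop (h.trans (Subgroup.card_subgroup_dvd_card C))
  · rw [← Module.finrank_mul_finrank (ZMod p) (AdjoinRoot m) V, mul_comm,
      (AdjoinRoot.powerBasis hirr.ne_zero).finrank, AdjoinRoot.powerBasis_dim]

/-- The degree of an irreducible minimal polynomial divides the dimension. -/
theorem natDegree_dvd (hinj : Function.Injective ρ) (hcop : ¬ p ∣ Nat.card H) {m : (ZMod p)[X]}
    (hirr : Irreducible m) {T : Module.End (ZMod p) V} (hT : aeval T m = 0) :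
    m.natDegree ∣ finrank (ZMod p) V := by
  obtain ⟨K, _, _, -, -, -, h⟩ := exists_field_rep hinj hcop hirr hT ⊥
    (fun c hc => by rw [Subgroup.mem_bot.1 hc, map_one, one_mul, mul_one])
  exact Dvd.intro_left _ h

/-- A subgroup commuting with such an operator of half degree has abelian centralisers. -/
theorem abelianCentralisers_half (hinj : Function.Injective ρ) (hcop : ¬ p ∣ Nat.card H) {m : (ZMod p)[X]}
    (hirr : Irreducible m) {T : Module.End (ZMod p) V} (hT : aeval T m = 0) (C : Subgroup H)
    (hC : ∀ c ∈ C, ρ c * T = T * ρ c) (hdeg : finrank (ZMod p) V = 2 * m.natDegree) : AbelianCentralisers C := by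
  obtain ⟨K, _, _, ρ', hinj', hne, h⟩ := exists_field_rep hinj hcop hirr hT C hC
  have h2 : finrank K V = 2 := Nat.eq_of_mul_eq_mul_right hirr.natDegree_pos (h.trans hdeg)
  haveI : FiniteDimensional K V := Module.Finite.of_finite
  exact abelianCentralisers_field hinj' hne h2

end Cfsg.Lib.Blocks.CoprimeTransitive
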