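import Cfsg.Agent.Blocks.CoprimeTransitive.Six
import Cfsg.Agent.Coprime.Fitting
import Cfsg.Agent.Counting.ClassNumberIndex
import Cfsg.Agent.Small.Toolkit
import Cfsg.Agent.S0144

/-!
# The pair `(3, 4)`
-/

set_option autoImplicit false
set_option linter.unusedSectionVars false
set_option linter.style.haveILetI false

namespace Cfsg.Lib.Blocks.CoprimeTransitive

open Module Subgroup Polynomial
open Cfsg Cfsg.Lib.Blocks Cfsg.Lib.Chars

universe u v

variable [h3 : Fact (Nat.Prime 3)] {V : Type v} [AddCommGroup V] [Module (ZMod 3) V] [Finite V]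
  {H : Type u} [Group H] [Finite H] {ρ : H →* Module.End (ZMod 3) V}

/-- The elements acting as scalars. -/
def scal (ρ : H →* Module.End (ZMod 3) V) : Subgroup H where
  carrier := {h | ∃ c : ZMod 3, ρ h = c • 1}
  one_mem' := ⟨1, by rw [map_one, one_smul]⟩
  mul_mem' := by
    rintro a b ⟨c, hc⟩ ⟨d, hd⟩
    exact ⟨c * d, by rw [map_mul, hc, hd, smul_mul_assoc, one_mul, smul_smul]⟩
  inv_mem' := by
    rintro a ⟨c, hc⟩
    refine ⟨c ^ (orderOf a - 1), ?_⟩
    have h : a⁻¹ = a ^ (orderOf a - 1) := inv_eq_of_mul_eq_one_right (by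
      rw [← pow_succ', Nat.sub_add_cancel (orderOf_pos a), pow_orderOf_eq_one])
    rw [h, map_pow, hc, _root_.smul_pow, one_pow]

theorem mem_scal {h : H} : h ∈ scal ρ ↔ ∃ c : ZMod 3, ρ h = c • 1 := Iff.rfl

theorem scal_central (hinj : Function.Injective ρ) {h : H} (hh : h ∈ scal ρ) (g : H) : g * h = h * g := by
  obtain ⟨c, hc⟩ := hh
  exact hinj (by rw [map_mul, map_mul, hc, mul_smul_comm, smul_mul_assoc, mul_one, one_mul])

theorem card_scal_le [Nontrivial V] (hinj : Function.Injective ρ) : Nat.card (scal ρ) ≤ 2 := by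
  obtain ⟨u, hu⟩ := exists_ne (0 : V)
  have hex : ∀ h : scal ρ, ∃ c : {c : ZMod 3 // c ≠ 0}, ρ h = c.1 • 1 := fun h => by
    obtain ⟨c, hc⟩ := h.2
    exact ⟨⟨c, fun hc0 => rho_ne_zero (ρ := ρ) (h : H) hu
      (by rw [hc, hc0, zero_smul, LinearMap.zero_apply])⟩, hc⟩
  choose f hf using hex
  refine (Nat.card_le_card_of_injective f fun a b e => Subtype.ext (hinj (by rw [hf, hf, e]))).trans ?_
  have h1 : Nat.card {c : ZMod 3 // c ≠ 0} + 1 = 3 := by
    rw [← Finite.card_option, Nat.card_congr (Equiv.optionSubtypeNe (0 : ZMod 3)), Nat.card_zmod]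
  omega

/-- The matrices of the group. -/
theorem exists_gl (hinj : Function.Injective ρ) (h4 : finrank (ZMod 3) V = 4) :
    ∃ f : H →* GL (Fin 4) (ZMod 3), Function.Injective f := by
  let b := Module.finBasisOfFinrankEq (ZMod 3) V h4
  refine ⟨((LinearMap.toMatrixAlgEquiv b).toMonoidHom.comp ρ).toHomUnits, fun x y e => hinj ?_⟩
  exact (LinearMap.toMatrixAlgEquiv b).injective (congrArg Units.val e)

theorem card_gl_four : Nat.card (GL (Fin 4) (ZMod 3)) = 2 ^ 9 * 5 * 13 * 729 := by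
  rw [Matrix.card_GL_field, Fin.prod_univ_four, ZMod.card]
  norm_num

/-- The order is `2 ^ a * 5`. -/
theorem four_order [Nontrivial V] (hinj : Function.Injective ρ) (hcop : ¬ 3 ∣ Nat.card H)
    (htrans : ∀ v w : V, v ≠ 0 → w ≠ 0 → ∃ h, ρ h v = w) (h4 : finrank (ZMod 3) V = 4) :
    ∃ a ≤ 9, Nat.card H = 2 ^ a * 5 := by
  classical
  haveI := Fintype.ofFinite H
  obtain ⟨f, hf⟩ := exists_gl hinj h4
  have hdv : Nat.card H ∣ 2 ^ 9 * 5 * 13 := by
    refine Nat.Coprime.dvd_of_dvd_mul_right ?_ (card_gl_four ▸ Subgroup.card_dvd_of_injective f hf)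
    rw [show (729 : ℕ) = 3 ^ 6 by norm_num]
    exact Nat.Coprime.pow_right 6 ((Nat.prime_three.coprime_iff_not_dvd.2 hcop).symm)
  have h80 : 80 ∣ Nat.card H := by
    have := (vectors_dvd htrans).1
    rwa [h4] at this
  have h13 : ¬ 13 ∣ Nat.card H := by
    intro h
    haveI : Fact (Nat.Prime 13) := ⟨by norm_num⟩
    have hsq : ¬ 13 ^ 2 ∣ Nat.card H := fun h' => absurd (h'.trans hdv) (by norm_num)
    obtain ⟨P⟩ : Nonempty (Sylow 13 H) := inferInstance
    by_cases hP : (P : Subgroup H).Normal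
    · obtain ⟨a, ha, han⟩ := exists_normal_prime hinj htrans P hP h
      obtain ⟨hirr, hdeg⟩ := normal_prime_minpoly hinj htrans (by norm_num : Nat.Prime 13) ha (by norm_num) han
      have hord : orderOf ((3 : ℕ) : ZMod 13) = 3 :=
        orderOf_eq_of_ppd (by norm_num) (by norm_num) (by norm_num) (fun i hi hin => by revert hi; revert i; decide +kernel)
      have := natDegree_dvd hinj hcop hirr (minpoly.aeval _ (ρ a))
      rw [hdeg, hord, h4] at this
      norm_num at this
    · obtain ⟨M, hM⟩ := exists_isPModular Nat.prime_three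
      set b := Module.finBasis (ZMod 3) V
      obtain ⟨m, hmn, π, hπ⟩ := exists_lift (M := M) ((LinearMap.toMatrixAlgEquiv b).toMonoidHom.comp ρ) hM
        (by rwa [← Nat.card_eq_fintype_card]) ((LinearMap.toMatrixAlgEquiv b).injective.comp hinj)
      rw [h4] at hmn
      have hno : ∀ X : Subgroup H, X.Normal → Nat.card X ≠ 13 := fun X hX hc => by
        haveI := hX
        have hXp : IsPGroup 13 X := IsPGroup.iff_card.2 ⟨1, by rw [hc, pow_one]⟩
        exact hP (eq_of_le_of_card_ge (hXp.le_sylow_of_normal P) (by rw [hc, sylow_card_prime h hsq P]) ▸ hX)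
      have hb := deg_bound_faithful (p := 13) (G := H) h hsq hno (χ := π.character) ⟨m, π, rfl⟩
        (fun g hg => Cfsg.Lib.OddChar.Blichfeldt.faithful_of_character hπ hg)
      rw [deg_character, finrank_fintype_fun_eq_card, Fintype.card_fin] at hb
      omega
  have hdv' : Nat.card H ∣ 2 ^ 9 * 5 :=
    Nat.Coprime.dvd_of_dvd_mul_right (((by norm_num : Nat.Prime 13).coprime_iff_not_dvd.2 h13).symm) hdv
  obtain ⟨m, hm⟩ := (show 5 ∣ 80 by norm_num).trans h80
  have hm2 : m ∣ 2 ^ 9 := by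
    refine Nat.dvd_of_mul_dvd_mul_left (show 0 < 5 by norm_num) ?_
    rwa [← hm, mul_comm 5]
  obtain ⟨a, ha, rfl⟩ := (Nat.dvd_prime_pow Nat.prime_two).1 hm2
  exact ⟨a, ha, by rw [hm, mul_comm]⟩

/-- An abelian normal two-subgroup consists of scalars. -/
theorem abelian_le_scal [Nontrivial V] (hinj : Function.Injective ρ) (hcop : ¬ 3 ∣ Nat.card H)
    (htrans : ∀ v w : V, v ≠ 0 → w ≠ 0 → ∃ h, ρ h v = w) (h4 : finrank (ZMod 3) V = 4)
    (hno : ∀ X : Subgroup H, X.Normal → Nat.card X ≠ 5) {x : H} (hx : orderOf x = 5) (A : Subgroup H) [A.Normal]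
    (hA : IsPGroup 2 A) (hc : ∀ a ∈ A, ∀ b ∈ A, a * b = b * a) : A ≤ scal ρ := by
  classical
  haveI : Fact (Nat.Prime 5) := ⟨by norm_num⟩
  haveI := normal_abelian_cyclic hinj htrans A hc
  obtain ⟨g, hg⟩ := IsCyclic.exists_ofOrder_eq_natCard (α := A)
  have hgz : zpowers (g : H) = A :=
    eq_of_le_of_card_ge (zpowers_le.2 g.2) (by rw [Nat.card_zpowers, Subgroup.orderOf_coe, hg])
  have hgn : (zpowers (g : H)).Normal := by rw [hgz]; infer_instance
  have hirr := normal_abelian_minpoly htrans A hc g.2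
  set T := ρ (g : H) with hT
  set m := minpoly (ZMod 3) T with hm
  -- `x` commutes with `g`
  have hxg : (g : H) * x = x * g := by
    set φ := MulAut.conjNormal (H := A) x with hφ
    have h5 : φ ^ 5 = 1 := by rw [hφ, ← map_pow, ← hx, pow_orderOf_eq_one, map_one]
    have h2 : ∃ j, Nat.card (MulAut A) = 2 ^ j := by
      obtain ⟨j, hj⟩ := IsPGroup.iff_card.1 hA
      rw [IsCyclic.card_mulAut, hj]
      rcases j with _ | j
      · exact ⟨0, by simp⟩
      · exact ⟨j, by rw [Nat.totient_prime_pow Nat.prime_two j.succ_pos]; simp⟩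
    obtain ⟨j, hj⟩ := h2
    have h1 : φ = 1 := by
      rw [← orderOf_eq_one_iff]
      refine Nat.dvd_one.1 ?_
      rw [← (Nat.Coprime.pow_left j (by norm_num : Nat.Coprime 2 5) : (2 ^ j).gcd 5 = 1)]
      exact Nat.dvd_gcd (hj ▸ orderOf_dvd_natCard φ) (orderOf_dvd_of_pow_eq_one h5)
    have h' : ((φ g : A) : H) = g := by rw [h1]; rfl
    rw [hφ, MulAut.conjNormal_apply, mul_inv_eq_iff_eq_mul] at h'
    exact h'.symm
  set C := centralizer ({(g : H)} : Set H) with hC
  haveI hCn : C.Normal := centralizer_normal hgn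
  have hxC : x ∈ C := mem_centralizer_singleton_iff.2 hxg.symm
  have hord : orderOf ((3 : ℕ) : ZMod 5) = finrank (ZMod 3) V := by
    rw [h4]
    exact orderOf_eq_of_ppd (by norm_num) (by norm_num) (by norm_num) (fun i hi hin => by revert hi; revert i; decide +kernel)
  have hCT : ∀ c ∈ C, ρ c * T = T * ρ c := fun c hc' => by
    rw [hT, ← map_mul, ← map_mul, mem_centralizer_singleton_iff.1 hc']
  have hbad : (∀ u ∈ C, orderOf u = 5 → u ∈ zpowers x) → False := fun hu => by
    refine hno (zpowers x) ⟨fun z hz k => ?_⟩ (by rw [Nat.card_zpowers, hx])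
    obtain ⟨i, rfl⟩ := mem_zpowers_iff.1 hz
    rw [← conj_zpow]
    exact zpow_mem (hu _ (hCn.conj_mem x hxC k) (((MulAut.conj k).orderOf_eq x).trans hx)) i
  have hd := natDegree_dvd hinj hcop hirr (minpoly.aeval _ T)
  rw [h4] at hd
  rcases (by
    have := Nat.le_of_dvd (by norm_num) hd
    have := hirr.natDegree_pos
    generalize m.natDegree = d at *
    interval_cases d <;> omega : m.natDegree = 1 ∨ m.natDegree = 2 ∨ m.natDegree = 4) with h | h | h
  · intro a ha
    have hgs : (g : H) ∈ scal ρ := by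
      refine mem_scal.2 ⟨-m.coeff 0, ?_⟩
      have h0 : aeval T m = 0 := minpoly.aeval _ _
      have hm1 : m = X + Polynomial.C (m.coeff 0) := (minpoly.monic (Algebra.IsIntegral.isIntegral T)).eq_X_add_C h
      rw [hm1, map_add, aeval_X, aeval_C,
        add_eq_zero_iff_eq_neg, Algebra.algebraMap_eq_smul_one] at h0
      rw [← hT, h0, neg_smul]
    exact (zpowers_le.2 hgs) (hgz.symm ▸ ha)
  · exfalso
    have hAC := abelianCentralisers_half hinj hcop hirr (minpoly.aeval _ T) C hCT (by rw [h4, h])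
    haveI := ThreeChars.centralizer_cyclic ρ hinj hx hord (by norm_num)
    have hcyc : IsCyclic (centralizer ({(⟨x, hxC⟩ : C)} : Set C)) := by
      let f : centralizer ({(⟨x, hxC⟩ : C)} : Set C) →* centralizer ({x} : Set H) :=
        { toFun := fun c => ⟨((c : C) : H), mem_centralizer_singleton_iff.2
            (congrArg Subtype.val (mem_centralizer_singleton_iff.1 c.2))⟩
          map_one' := rfl
          map_mul' := fun _ _ => rfl }
      exact isCyclic_of_injective f fun c c' h => Subtype.ext (Subtype.ext (congrArg Subtype.val h :))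
    have huniq := plane_unique hAC (s := 5) (by norm_num) (by norm_num) (y := (⟨x, hxC⟩ : C))
      (by rw [Subgroup.orderOf_mk, hx]) hcyc (Or.inl fun h => hcop (h.trans (Subgroup.card_subgroup_dvd_card C)))
    refine hbad fun u hu huo => ?_
    obtain ⟨j, hj⟩ := mem_zpowers_iff.1 (huniq ⟨u, hu⟩ (by rw [Subgroup.orderOf_mk, huo]))
    exact mem_zpowers_iff.2 ⟨j, congrArg Subtype.val hj⟩
  · exfalso
    have hpoly : ∀ c ∈ C, ∃ q : (ZMod 3)[X], ρ c = aeval T q := fun c hc' =>
      Cfsg.Lib.Classical.SUThree.commute_eq_aeval T hirr.squarefree (by rw [← hm, h, h4]) (hCT c hc')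
    have hCc : ∀ a ∈ C, ∀ b ∈ C, a * b = b * a := by
      intro a ha b hb
      obtain ⟨q, hq⟩ := hpoly a ha
      obtain ⟨r, hr⟩ := hpoly b hb
      exact hinj (by rw [map_mul, map_mul, hq, hr, ← map_mul, ← map_mul, mul_comm])
    haveI := normal_abelian_cyclic hinj htrans C hCc
    exact hbad fun u hu huo => cyclic_prime_unique hxC hu hx huo

/-- An element of a normal two-subgroup with pairwise commuting conjugates is a scalar. -/
theorem conjugates_scal [Nontrivial V] (hinj : Function.Injective ρ) (hcop : ¬ 3 ∣ Nat.card H)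
    (htrans : ∀ v w : V, v ≠ 0 → w ≠ 0 → ∃ h, ρ h v = w) (h4 : finrank (ZMod 3) V = 4)
    (hno : ∀ X : Subgroup H, X.Normal → Nat.card X ≠ 5) {x : H} (hx : orderOf x = 5) {O : Subgroup H} [hOn : O.Normal]
    (hO : IsPGroup 2 O) {u : H} (hu : u ∈ O)
    (hcomm : ∀ g k : H, (g * u * g⁻¹) * (k * u * k⁻¹) = (k * u * k⁻¹) * (g * u * g⁻¹)) : u ∈ scal ρ := by
  set A := Subgroup.normalClosure ({u} : Set H)
  have hAO : A ≤ O := Subgroup.normalClosure_le_normal (Set.singleton_subset_iff.2 hu)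
  have hA : ∀ a ∈ A, ∀ b ∈ A, a * b = b * a := by
    have hmem : ∀ a ∈ Group.conjugatesOfSet ({u} : Set H), ∃ g, g * u * g⁻¹ = a := by
      intro a ha
      obtain ⟨b, rfl, hb⟩ := Group.mem_conjugatesOfSet_iff.1 ha
      exact isConj_iff.1 hb
    haveI := Subgroup.isMulCommutative_closure (k := Group.conjugatesOfSet ({u} : Set H)) fun a ha b hb => by
      obtain ⟨g, rfl⟩ := hmem a ha
      obtain ⟨k, rfl⟩ := hmem b hb
      exact hcomm g k
    intro a ha b hb
    exact congrArg Subtype.val (mul_comm' (⟨a, ha⟩ : Subgroup.closure (Group.conjugatesOfSet ({u} : Set H))) ⟨b, hb⟩)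
  exact abelian_le_scal hinj hcop htrans h4 hno hx A (hO.to_le hAO) hA
    (Subgroup.subset_normalClosure rfl)

/-- The facts about the largest normal two-subgroup. -/
structure CoreFacts (ρ : H →* Module.End (ZMod 3) V) (O : Subgroup H) : Prop where
  normal : O.Normal
  pgroup : IsPGroup 2 O
  scal_le : scal ρ ≤ O
  card_scal : Nat.card (scal ρ) = 2
  comm : ∀ a ∈ O, ∀ b ∈ O, a * b * a⁻¹ * b⁻¹ ∈ scal ρ
  cent : ∀ c ∈ O, (∀ o ∈ O, c * o = o * c) → c ∈ scal ρ

theorem coreFacts [Nontrivial V] (hinj : Function.Injective ρ) (hcop : ¬ 3 ∣ Nat.card H)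
    (htrans : ∀ v w : V, v ≠ 0 → w ≠ 0 → ∃ h, ρ h v = w) (h4 : finrank (ZMod 3) V = 4)
    (hno : ∀ X : Subgroup H, X.Normal → Nat.card X ≠ 5) {x : H} (hx : orderOf x = 5) {O : Subgroup H} [hOn : O.Normal]
    (hO : IsPGroup 2 O) (hne : O ≠ ⊥) : CoreFacts ρ O := by
  classical
  have hconjO : ∀ g : H, ∀ o ∈ O, g * o * g⁻¹ ∈ O := fun g o ho => hOn.conj_mem o ho g
  have hcent : ∀ c ∈ O, (∀ o ∈ O, c * o = o * c) → c ∈ scal ρ := by
    intro c hc hco
    refine conjugates_scal hinj hcop htrans h4 hno hx hO hc fun g k => ?_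
    have h1 := hco _ (hconjO (g⁻¹ * k) c hc)
    calc (g * c * g⁻¹) * (k * c * k⁻¹) = g * (c * (g⁻¹ * k * c * (g⁻¹ * k)⁻¹)) * g⁻¹ := by group
      _ = g * ((g⁻¹ * k * c * (g⁻¹ * k)⁻¹) * c) * g⁻¹ := by rw [h1]
      _ = (k * c * k⁻¹) * (g * c * g⁻¹) := by group
  haveI : Nontrivial O := (Subgroup.nontrivial_iff_ne_bot O).2 hne
  obtain ⟨⟨c, hc⟩, hc1⟩ := @exists_ne _ hO.center_nontrivial 1
  have hcs : (c : H) ∈ scal ρ := hcent c c.2 fun o ho =>
    (congrArg Subtype.val (mem_center_iff.1 hc ⟨o, ho⟩)).symm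
  have hcne : (c : H) ≠ 1 := fun e => hc1 (Subtype.ext (Subtype.ext e))
  have hcard : Nat.card (scal ρ) = 2 := by
    refine le_antisymm (card_scal_le hinj) (Finite.one_lt_card_iff_nontrivial.2 ⟨⟨(c : H), hcs⟩, 1, fun e => hcne ?_⟩)
    exact congrArg Subtype.val e
  have hle : scal ρ ≤ O := by
    have h2 : zpowers (c : H) = scal ρ := by
      refine eq_of_le_of_card_ge (zpowers_le.2 hcs) ?_
      rw [hcard]
      exact Finite.one_lt_card_iff_nontrivial.2 ⟨⟨(c : H), mem_zpowers _⟩, 1, fun e => hcne (congrArg Subtype.val e)⟩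
    exact h2 ▸ zpowers_le.2 c.2
  refine ⟨hOn, hO, hle, hcard, ?_, hcent⟩
  -- the derived subgroup
  set D := ⁅O, O⁆ with hD
  haveI hDn : D.Normal := Subgroup.commutator_normal O O
  have hDO : D ≤ O := Subgroup.commutator_le.2 fun a ha b hb => by
    rw [commutatorElement_def]
    exact mul_mem (mul_mem (mul_mem ha hb) (inv_mem ha)) (inv_mem hb)
  suffices hDZ : D ≤ scal ρ by
    intro a ha b hb
    have := hDZ (Subgroup.commutator_mem_commutator ha hb)
    rwa [commutatorElement_def] at this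
  by_contra hDZ
  haveI hZn : ((scal ρ).subgroupOf O).Normal := ⟨fun z hz o => by
    rw [mem_subgroupOf] at hz ⊢
    rw [Subgroup.coe_mul, Subgroup.coe_mul, Subgroup.coe_inv, scal_central hinj hz, mul_inv_cancel_right]
    exact hz⟩
  set X := (D.subgroupOf O).map (QuotientGroup.mk' ((scal ρ).subgroupOf O))
  haveI : X.Normal := (hDn.subgroupOf O).map _ (QuotientGroup.mk'_surjective _)
  have hX : X ≠ ⊥ := by
    intro h
    refine hDZ fun d hd => ?_
    have : QuotientGroup.mk' ((scal ρ).subgroupOf O) ⟨d, hDO hd⟩ ∈ X := ⟨_, hd, rfl⟩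
    rw [h, Subgroup.mem_bot, QuotientGroup.mk'_apply, QuotientGroup.eq_one_iff] at this
    exact this
  obtain ⟨y, hyX, hyc, hy1⟩ := Cfsg.Lib.Small.exists_central_of_normal
    (hO.to_quotient ((scal ρ).subgroupOf O)) X hX
  obtain ⟨u, huD, rfl⟩ := hyX
  have huZ : (u : H) ∉ scal ρ := fun h => hy1 ((QuotientGroup.eq_one_iff _).2 h)
  have hu2 : ∀ o ∈ O, (u : H) * o * (u : H)⁻¹ * o⁻¹ ∈ scal ρ := by
    intro o ho
    have h := mem_center_iff.1 hyc (QuotientGroup.mk' ((scal ρ).subgroupOf O) ⟨o, ho⟩)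
    rw [← map_mul, ← map_mul, QuotientGroup.mk'_apply, QuotientGroup.mk'_apply, QuotientGroup.eq, mem_subgroupOf] at h
    simp only [Subgroup.coe_mul, Subgroup.coe_inv] at h
    have e : (u : H) * o * (u : H)⁻¹ * o⁻¹ = (o * u) * ((o * u)⁻¹ * (u * o)) * (o * u)⁻¹ := by group
    rw [e, scal_central hinj h, mul_inv_cancel_right]
    exact h
  refine huZ (conjugates_scal hinj hcop htrans h4 hno hx hO u.2 fun g k => ?_)
  -- `u` centralises the derived subgroup
  have hu2' : D ≤ centralizer ({g * (u : H) * g⁻¹} : Set H) := by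
    refine Subgroup.commutator_le.2 fun a ha b hb => mem_centralizer_singleton_iff.2 ?_
    set v := g * (u : H) * g⁻¹ with hv
    have hz : ∀ o ∈ O, ∃ z, (∀ q : H, q * z = z * q) ∧ v * o * v⁻¹ = z * o := by
      intro o ho
      have h' : g⁻¹ * o * g ∈ O := by simpa using hconjO g⁻¹ o ho
      refine ⟨_, fun q => scal_central hinj (hu2 _ h') q, ?_⟩
      set z := (u : H) * (g⁻¹ * o * g) * (u : H)⁻¹ * (g⁻¹ * o * g)⁻¹ with hz
      have e : v * o * v⁻¹ = g * z * g⁻¹ * o := by rw [hv, hz]; group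
      rw [e, scal_central hinj (hu2 _ h') g, mul_inv_cancel_right]
    obtain ⟨z, hzc, hza⟩ := hz a ha
    obtain ⟨z', hzc', hzb⟩ := hz b hb
    rw [commutatorElement_def]
    refine (mul_inv_eq_iff_eq_mul.1 ?_).symm
    calc v * (a * b * a⁻¹ * b⁻¹) * v⁻¹
        = (v * a * v⁻¹) * (v * b * v⁻¹) * (v * a * v⁻¹)⁻¹ * (v * b * v⁻¹)⁻¹ := by group
      _ = (z * a) * (z' * b) * (a⁻¹ * z⁻¹) * (b⁻¹ * z'⁻¹) := by rw [hza, hzb, mul_inv_rev, mul_inv_rev]
      _ = z * (a * z') * b * a⁻¹ * (z⁻¹ * b⁻¹) * z'⁻¹ := by group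
      _ = z * (z' * a) * b * a⁻¹ * (b⁻¹ * z⁻¹) * z'⁻¹ := by
          rw [hzc' a, (Commute.inv_inv (hzc b : Commute b z)).eq]
      _ = z * z' * (a * b * a⁻¹ * b⁻¹) * (z' * z)⁻¹ := by group
      _ = a * b * a⁻¹ * b⁻¹ := by
          rw [hzc' z, mul_assoc z', ← hzc, ← mul_assoc z', ← hzc', mul_assoc _ z' z, mul_inv_cancel_right]
  exact (mem_centralizer_singleton_iff.1 (hu2' (hDn.conj_mem _ huD k))).symm

/-- Elements of order five act without fixed points on the core modulo scalars. -/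
theorem centralizer_five [Nontrivial V] (hinj : Function.Injective ρ) (h4 : finrank (ZMod 3) V = 4) {O : Subgroup H}
    (F : CoreFacts ρ O) {y c : H} (hy : orderOf y = 5) (hc : c ∈ O) (hcy : c * y = y * c) : c ∈ scal ρ := by
  classical
  haveI : Fact (Nat.Prime 5) := ⟨by norm_num⟩
  refine F.cent c hc fun o ho => ?_
  by_contra hne
  set z := c * o * c⁻¹ * o⁻¹ with hz
  have hz1 : z ≠ 1 := fun e => hne (mul_inv_eq_iff_eq_mul.1 (mul_inv_eq_one.1 e))
  have hzs : z ∈ scal ρ := F.comm c hc o ho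
  have hzeq : ∀ k : H, c * k * c⁻¹ * k⁻¹ = z ↔ c * k * c⁻¹ = z * k := fun k => mul_inv_eq_iff_eq_mul
  have hxz : c * o * c⁻¹ = z * o := (hzeq o).1 rfl
  -- the fibre is as large as the centraliser
  set Fib := {k : H // k ∈ O ∧ c * k * c⁻¹ = z * k}
  have hcard : Nat.card Fib = Nat.card ↥(O ⊓ centralizer ({c} : Set H)) := by
    refine Nat.card_congr
      { toFun := fun k => ⟨o⁻¹ * k.1, Subgroup.mem_inf.2 ⟨O.mul_mem (O.inv_mem ho) k.2.1, mem_centralizer_singleton_iff.2 ?_⟩⟩
        invFun := fun k => ⟨o * k.1, O.mul_mem ho k.2.1, ?_⟩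
        left_inv := fun k => Subtype.ext (mul_inv_cancel_left _ _)
        right_inv := fun k => Subtype.ext (inv_mul_cancel_left _ _) }
    · refine (mul_inv_eq_iff_eq_mul.1 ?_).symm
      calc c * (o⁻¹ * k.1) * c⁻¹ = (c * o * c⁻¹)⁻¹ * (c * k.1 * c⁻¹) := by group
        _ = o⁻¹ * k.1 := by rw [hxz, k.2.2, mul_inv_rev, mul_assoc, inv_mul_cancel_left]
    · have h1 : c * k.1 * c⁻¹ = k.1 := mul_inv_eq_iff_eq_mul.2 (mem_centralizer_singleton_iff.1 k.2.2).symm
      calc c * (o * k.1) * c⁻¹ = (c * o * c⁻¹) * (c * k.1 * c⁻¹) := by group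
        _ = z * (o * k.1) := by rw [hxz, h1, mul_assoc]
  have hyc : ∀ e ∈ zpowers y, e * c * e⁻¹ = c := fun e he => by
    obtain ⟨i, rfl⟩ := mem_zpowers_iff.1 he
    rw [(Commute.zpow_right (show Commute c y from hcy) i).symm.eq, mul_inv_cancel_right]
  have hconj : ∀ e ∈ zpowers y, ∀ k : H, k ∈ O ∧ c * k * c⁻¹ = z * k →
      e * k * e⁻¹ ∈ O ∧ c * (e * k * e⁻¹) * c⁻¹ = z * (e * k * e⁻¹) := by
    rintro e he k ⟨hk, hk'⟩
    refine ⟨F.normal.conj_mem k hk e, ?_⟩
    calc c * (e * k * e⁻¹) * c⁻¹ = (e * c * e⁻¹) * (e * k * e⁻¹) * (e * c * e⁻¹)⁻¹ := by rw [hyc e he]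
      _ = e * (c * k * c⁻¹) * e⁻¹ := by group
      _ = (e * z) * k * e⁻¹ := by rw [hk', ← mul_assoc]
      _ = z * (e * k * e⁻¹) := by rw [scal_central hinj hzs e]; group
  let _ : MulAction (zpowers y) Fib :=
    { smul := fun e k => ⟨(e : H) * k.1 * (e : H)⁻¹, hconj e e.2 k.1 k.2⟩
      one_smul := fun k => Subtype.ext (by show ((1 : zpowers y) : H) * k.1 * ((1 : zpowers y) : H)⁻¹ = k.1; simp)
      mul_smul := fun e f k => Subtype.ext (by
        show ((e * f : zpowers y) : H) * k.1 * ((e * f : zpowers y) : H)⁻¹ =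
          (e : H) * ((f : H) * k.1 * (f : H)⁻¹) * (e : H)⁻¹
        rw [Subgroup.coe_mul]; group) }
  have hP : IsPGroup 5 (zpowers y) := IsPGroup.iff_card.2 ⟨1, by rw [Nat.card_zpowers, hy, pow_one]⟩
  obtain ⟨k, hk⟩ := hP.nonempty_fixed_point_of_prime_not_dvd_card Fib (by
    rw [hcard]
    obtain ⟨j, hj⟩ := IsPGroup.iff_card.1 (F.pgroup.to_le (inf_le_left : O ⊓ centralizer ({c} : Set H) ≤ O))
    rw [hj]
    exact fun h => absurd ((Fact.out : Nat.Prime 5).dvd_of_dvd_pow h) (by norm_num))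
  have hky : y * k.1 * y⁻¹ = k.1 := congrArg Subtype.val (hk ⟨y, mem_zpowers y⟩)
  have hord : orderOf ((3 : ℕ) : ZMod 5) = finrank (ZMod 3) V := by
    rw [h4]
    exact orderOf_eq_of_ppd (by norm_num) (by norm_num) (by norm_num) (fun i hi hin => by revert hi; revert i; decide +kernel)
  haveI := ThreeChars.centralizer_cyclic ρ hinj hy hord (by norm_num)
  have hc' : c ∈ centralizer ({y} : Set H) := mem_centralizer_singleton_iff.2 hcy
  have hk' : k.1 ∈ centralizer ({y} : Set H) :=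
    mem_centralizer_singleton_iff.2 (mul_inv_eq_iff_eq_mul.1 hky).symm
  obtain ⟨g, hg⟩ := IsCyclic.exists_generator (α := centralizer ({y} : Set H))
  obtain ⟨i, hi⟩ := mem_zpowers_iff.1 (hg ⟨c, hc'⟩)
  obtain ⟨j, hj⟩ := mem_zpowers_iff.1 (hg ⟨k.1, hk'⟩)
  have hck : c * k.1 = k.1 * c := by
    have : (⟨c, hc'⟩ : centralizer ({y} : Set H)) * ⟨k.1, hk'⟩ = ⟨k.1, hk'⟩ * ⟨c, hc'⟩ := by
      rw [← hi, ← hj, ← zpow_add, ← zpow_add, add_comm]
    exact congrArg Subtype.val this
  have h1 := k.2.2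
  rw [hck, mul_inv_cancel_right, eq_comm, mul_eq_right] at h1
  exact hz1 h1

/-- A companion matrix of order sixteen. -/
theorem gl_order_sixteen : ∃ u : GL (Fin 4) (ZMod 3), u ^ 16 = 1 ∧ u ^ 4 ≠ 1 := by
  have h16 : (!![0, 0, 0, 1; 1, 0, 0, 0; 0, 1, 0, 2; 0, 0, 1, 0] : Matrix (Fin 4) (Fin 4) (ZMod 3)) ^ 16 = 1 := by
    decide +kernel +revert
  have h4 : (!![0, 0, 0, 1; 1, 0, 0, 0; 0, 1, 0, 2; 0, 0, 1, 0] : Matrix (Fin 4) (Fin 4) (ZMod 3)) ^ 4 ≠ 1 := by
    decide +kernel +revert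
  set M : Matrix (Fin 4) (Fin 4) (ZMod 3) := !![0, 0, 0, 1; 1, 0, 0, 0; 0, 1, 0, 2; 0, 0, 1, 0]
  let u : GL (Fin 4) (ZMod 3) := ⟨M, M ^ 15, by rw [← pow_succ', h16], by rw [← pow_succ, h16]⟩
  refine ⟨u, Units.ext ?_, fun e => h4 ?_⟩
  · rw [Units.val_pow_eq_pow_val, Units.val_one]; exact h16
  · have := congrArg Units.val e
    rwa [Units.val_pow_eq_pow_val, Units.val_one] at this

/-- The core has order thirty-two. -/
theorem card_core [Nontrivial V] (hinj : Function.Injective ρ) (h4 : finrank (ZMod 3) V = 4) {O : Subgroup H}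
    (F : CoreFacts ρ O) {x : H} (hx : orderOf x = 5) {a : ℕ} (ha : a ≤ 9) (hH : Nat.card H = 2 ^ a * 5)
    (hC : centralizer (O : Set H) ≤ O) : Nat.card O = 32 := by
  classical
  haveI : Fact (Nat.Prime 5) := ⟨by norm_num⟩
  haveI := F.normal
  obtain ⟨e, he⟩ := IsPGroup.iff_card.1 F.pgroup
  have he9 : e ≤ 9 := by
    have : 2 ^ e ∣ 2 ^ a := by
      refine Nat.Coprime.dvd_of_dvd_mul_right ?_ (hH ▸ he ▸ Subgroup.card_subgroup_dvd_card O)
      exact Nat.Coprime.pow_left e (by norm_num)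
    exact ((Nat.pow_dvd_pow_iff_le_right (by norm_num)).1 this).trans ha
  have hP : IsPGroup 5 (zpowers x) := IsPGroup.iff_card.2 ⟨1, by rw [Nat.card_zpowers, hx, pow_one]⟩
  let _ : MulAction (zpowers x) O := MulAction.compHom O ((MulAut.conjNormal : H →* MulAut O).comp (zpowers x).subtype)
  have hfix : Nat.card (MulAction.fixedPoints (zpowers x) O) = 2 := by
    rw [← F.card_scal]
    refine Nat.card_congr
      { toFun := fun o => ⟨((o : O) : H), centralizer_five hinj h4 F hx o.1.2 ?_⟩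
        invFun := fun z => ⟨⟨(z : H), F.scal_le z.2⟩, fun g => Subtype.ext ?_⟩
        left_inv := fun o => rfl
        right_inv := fun z => rfl }
    · have h' : ((MulAut.conjNormal x o.1 : O) : H) = ((o : O) : H) := congrArg Subtype.val (o.2 ⟨x, mem_zpowers x⟩)
      rw [MulAut.conjNormal_apply, mul_inv_eq_iff_eq_mul] at h'
      exact h'.symm
    · show ((MulAut.conjNormal (g : H) (⟨(z : H), F.scal_le z.2⟩ : O) : O) : H) = (z : H)
      rw [MulAut.conjNormal_apply, scal_central hinj z.2, mul_inv_cancel_right]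
  have hmod := hP.card_modEq_card_fixedPoints O
  rw [he, hfix] at hmod
  have he15 : e = 1 ∨ e = 5 ∨ e = 9 := by
    have h' : 2 ^ e % 5 = 2 := hmod
    interval_cases e <;> simp_all
  rcases he15 with rfl | rfl | rfl
  · exfalso
    have hOs : O = scal ρ := (eq_of_le_of_card_ge F.scal_le (by rw [he, F.card_scal]; norm_num)).symm
    have hxO : x ∈ O := hC (mem_centralizer_iff.2 fun o ho => (scal_central hinj (hOs ▸ ho) x).symm)
    have := Subgroup.orderOf_dvd_natCard O hxO
    rw [hx, he] at this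
    norm_num at this
  · rw [he]; norm_num
  · exfalso
    obtain ⟨f, hf⟩ := exists_gl hinj h4
    have hexp : ∀ o ∈ O, o ^ 4 = 1 := by
      intro o ho
      have hz2 : ∀ z ∈ scal ρ, z * z = 1 := fun z hz => by
        have h' : (⟨z, hz⟩ : scal ρ) ^ Nat.card (scal ρ) = 1 := pow_card_eq_one'
        rw [F.card_scal, pow_two] at h'
        exact congrArg Subtype.val h'
      have hs : o * o ∈ scal ρ := by
        refine F.cent _ (mul_mem ho ho) fun b hb => ?_
        have hzs := F.comm o ho b hb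
        set z := o * b * o⁻¹ * b⁻¹ with hz
        have e1 : o * b * o⁻¹ = z * b := by rw [hz]; group
        refine mul_inv_eq_iff_eq_mul.1 ?_
        calc o * o * b * (o * o)⁻¹ = o * (o * b * o⁻¹) * o⁻¹ := by group
          _ = (o * z) * b * o⁻¹ := by rw [e1, ← mul_assoc]
          _ = z * (o * b * o⁻¹) := by rw [scal_central hinj hzs o]; group
          _ = b := by rw [e1, ← mul_assoc, hz2 z hzs, one_mul]
      rw [show o ^ 4 = (o * o) * (o * o) by rw [pow_succ, pow_succ, pow_succ, pow_one, mul_assoc]]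
      exact hz2 _ hs
    obtain ⟨P, hP'⟩ := (F.pgroup.map f).exists_le_sylow
    have hPe : O.map f = (P : Subgroup (GL (Fin 4) (ZMod 3))) := by
      refine eq_of_le_of_card_ge hP' ?_
      rw [Nat.card_congr (O.equivMapOfInjective f hf).symm.toEquiv, he]
      obtain ⟨j, hj⟩ := IsPGroup.iff_card.1 P.2
      rw [hj]
      refine Nat.pow_le_pow_right (by norm_num) ?_
      by_contra h'
      have h10 : 2 ^ 10 ∣ 2 ^ 9 * 5 * 13 * 729 :=
        card_gl_four ▸ ((pow_dvd_pow 2 (by omega : 10 ≤ j)).trans (hj ▸ Subgroup.card_subgroup_dvd_card _))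
      norm_num at h10
    obtain ⟨u, hu16, hu4⟩ := gl_order_sixteen
    have hup : IsPGroup 2 (zpowers u) := by
      obtain ⟨j, -, hj⟩ := (Nat.dvd_prime_pow Nat.prime_two).1
        (show orderOf u ∣ 2 ^ 4 from orderOf_dvd_of_pow_eq_one (by norm_num; exact hu16))
      exact IsPGroup.iff_card.2 ⟨j, by rw [Nat.card_zpowers, hj]⟩
    obtain ⟨Q, hQ⟩ := hup.exists_le_sylow
    have hP4 : ∀ q : (P : Subgroup (GL (Fin 4) (ZMod 3))), q ^ 4 = 1 := by
      rintro ⟨q, hq⟩
      rw [← hPe] at hq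
      obtain ⟨o, ho, rfl⟩ := hq
      exact Subtype.ext (by
        rw [SubmonoidClass.coe_pow, OneMemClass.coe_one]
        show f o ^ 4 = 1
        rw [← map_pow, hexp o ho, map_one])
    have hQ4 : (⟨u, hQ (mem_zpowers u)⟩ : (Q : Subgroup (GL (Fin 4) (ZMod 3)))) ^ 4 = 1 :=
      (Q.equiv P).injective (by rw [map_pow, hP4, map_one])
    exact hu4 (congrArg Subtype.val hQ4)

theorem sum_centralizer {G : Type*} [Group G] [Fintype G] :
    ∑ g : G, Nat.card (centralizer ({g} : Set G)) = Nat.card (ConjClasses G) * Nat.card G := by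
  classical
  haveI := Fintype.ofFinite (ConjClasses G)
  rw [← card_comm_eq_card_conjClasses_mul_card, ← Nat.card_sigma]
  exact Nat.card_congr
    { toFun := fun s => ⟨(s.1, s.2.1), (mem_centralizer_singleton_iff.1 s.2.2).symm⟩
      invFun := fun q => ⟨q.1.1, q.1.2, mem_centralizer_singleton_iff.2 q.2.symm⟩
      left_inv := fun s => rfl
      right_inv := fun q => rfl }

/-- The normal subgroup of order `160` has at most sixteen classes. -/
theorem classes_sixteen [Nontrivial V] (hinj : Function.Injective ρ) (h4 : finrank (ZMod 3) V = 4) {O Y : Subgroup H}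
    (F : CoreFacts ρ O) (hO : Nat.card O = 32) (hOY : O ≤ Y) (hY : Nat.card Y = 160) :
    Nat.card (ConjClasses Y) ≤ 16 := by
  classical
  haveI := Fintype.ofFinite Y
  haveI := F.normal
  set O' := O.subgroupOf Y
  set Z' := (scal ρ).subgroupOf Y
  have hO' : Nat.card O' = 32 := (Nat.card_congr (Subgroup.subgroupOfEquivOfLe hOY).toEquiv).trans hO
  have hZ' : Nat.card Z' = 2 :=
    (Nat.card_congr (Subgroup.subgroupOfEquivOfLe (F.scal_le.trans hOY)).toEquiv).trans F.card_scal
  have hidx : O'.index = 5 := by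
    have := O'.index_mul_card
    rw [hO', hY] at this
    omega
  have hfive : ∀ g : Y, g ∉ O' → orderOf (((g ^ 32 : Y)) : H) = 5 := by
    intro g hg
    haveI : Fact (Nat.Prime 5) := ⟨by norm_num⟩
    rw [Subgroup.orderOf_coe]
    refine orderOf_eq_prime ?_ fun h => hg ?_
    · rw [← pow_mul, show 32 * 5 = Nat.card Y by rw [hY], pow_card_eq_one']
    · rw [← QuotientGroup.eq_one_iff (N := O'), ← orderOf_eq_one_iff]
      refine Nat.dvd_one.1 ?_
      rw [show 1 = Nat.gcd 32 5 by norm_num]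
      refine Nat.dvd_gcd (orderOf_dvd_of_pow_eq_one ?_) ?_
      · rw [← QuotientGroup.mk_pow, h, QuotientGroup.mk_one]
      · rw [← hidx, Subgroup.index_eq_card]
        exact _root_.orderOf_dvd_natCard _
  have hbound : ∀ g : Y, Nat.card (centralizer ({g} : Set Y)) ≤
      (if g ∈ Z' then 150 else 0) + (if g ∈ O' then 22 else 0) + 10 := by
    intro g
    by_cases hgZ : g ∈ Z'
    · have hgO : g ∈ O' := F.scal_le hgZ
      rw [if_pos hgZ, if_pos hgO]
      have := Nat.le_of_dvd Nat.card_pos (Subgroup.card_subgroup_dvd_card (centralizer ({g} : Set Y)))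
      omega
    by_cases hgO : g ∈ O'
    · rw [if_neg hgZ, if_pos hgO]
      refine (Subgroup.card_le_of_le (K := O') fun c hc => ?_).trans (by rw [hO'])
      by_contra hcO
      have hgc : Commute (g : H) ((c : Y) : H) :=
        (congrArg Subtype.val (mem_centralizer_singleton_iff.1 hc) :).symm
      exact hgZ (centralizer_five hinj h4 F (hfive c hcO) hgO (by
        rw [SubmonoidClass.coe_pow]
        exact hgc.pow_right 32))
    · rw [if_neg hgZ, if_neg hgO]
      have hle : O' ⊓ centralizer ({g} : Set Y) ≤ Z' := by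
        rintro c ⟨hcO, hcg⟩
        have hcg' : Commute (c : H) (g : H) := (congrArg Subtype.val (mem_centralizer_singleton_iff.1 hcg) :)
        exact centralizer_five hinj h4 F (hfive g hgO) hcO (by
          rw [SubmonoidClass.coe_pow]
          exact hcg'.pow_right 32)
      have h1 := Subgroup.relIndex_mul_relIndex ⊥ (O' ⊓ centralizer ({g} : Set Y)) (centralizer ({g} : Set Y))
        bot_le inf_le_right
      rw [Subgroup.relIndex_bot_left, Subgroup.relIndex_bot_left, Subgroup.inf_relIndex_right] at h1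
      rw [← h1]
      have h5 : O'.relIndex (centralizer ({g} : Set Y)) ≤ 5 := by
        rw [← hidx, ← Subgroup.relIndex_top_right O']
        exact Subgroup.relIndex_le_of_le_right le_top
          (by rw [Subgroup.relIndex_top_right]; exact Subgroup.index_ne_zero_of_finite)
      exact (Nat.mul_le_mul ((Subgroup.card_le_of_le hle).trans hZ'.le) h5).trans (by norm_num)
  have hsum := Finset.sum_le_sum (s := (Finset.univ : Finset Y)) fun g _ => hbound g
  rw [sum_centralizer, Finset.sum_add_distrib, Finset.sum_add_distrib, ← Finset.sum_filter, ← Finset.sum_filter,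
    Finset.sum_const, Finset.sum_const, Finset.sum_const, Finset.card_univ, ← Nat.card_eq_fintype_card, hY,
    ← Fintype.card_subtype, ← Fintype.card_subtype, ← Nat.card_eq_fintype_card, ← Nat.card_eq_fintype_card] at hsum
  simp only [smul_eq_mul] at hsum
  rw [show Nat.card {g : Y // g ∈ Z'} = 2 from hZ', show Nat.card {g : Y // g ∈ O'} = 32 from hO'] at hsum
  omega

/-- The quotient by the core. -/
theorem quotient_shape {Q : Type u} [Group Q] [Finite Q] [Group.IsSolvable Q] {b : ℕ} (hQ : Nat.card Q = 2 ^ b * 5)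
    (hcore : Cfsg.pCore 2 Q = ⊥) : b ≤ 2 ∧ ∃ N : Subgroup Q, N.Normal ∧ Nat.card N = 5 := by
  classical
  haveI : Fact (Nat.Prime 5) := ⟨by norm_num⟩
  set N := Cfsg.pPrimeCore 2 Q with hN
  haveI : Nontrivial Q := Finite.one_lt_card_iff_nontrivial.1 (by rw [hQ]; have := Nat.one_le_two_pow (n := b); omega)
  have hNne : N ≠ ⊥ := fun h => by
    have h' := Cfsg.Lib.Coprime.centralizer_pCore_le (G := Q) 2 h
    rw [hcore] at h'
    obtain ⟨q, hq⟩ := exists_ne (1 : Q)
    exact hq (Subgroup.mem_bot.1 (h' (mem_centralizer_iff.2 fun y hy => by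
      rw [SetLike.mem_coe, Subgroup.mem_bot] at hy; rw [hy, one_mul, mul_one])))
  have hN5 : Nat.card N = 5 := by
    have hd : Nat.card N ∣ 5 :=
      Nat.Coprime.dvd_of_dvd_mul_left (Nat.Coprime.pow_right b (Cfsg.Lib.Components.coprime_card_pPrimeCore 2))
        (hQ ▸ Subgroup.card_subgroup_dvd_card N)
    exact ((Nat.dvd_prime (Fact.out : Nat.Prime 5)).1 hd).resolve_left fun h => hNne (Subgroup.card_eq_one.1 h)
  refine ⟨?_, N, inferInstance, hN5⟩
  obtain ⟨⟨n, hnN⟩, hn⟩ := exists_prime_orderOf_dvd_card' (G := N) 5 hN5.symm.dvd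
  rw [Subgroup.orderOf_mk] at hn
  have hnz : zpowers n = N := eq_of_le_of_card_ge (zpowers_le.2 hnN) (by rw [Nat.card_zpowers, hn, hN5])
  set C := centralizer ({n} : Set Q) with hC
  haveI : C.Normal := centralizer_normal (hnz.symm ▸ inferInstance)
  have hidx : C.index ≤ 4 := by
    haveI := Fintype.ofFinite Q
    have h1 : Nat.card (ConjClasses.mk n).carrier = C.index := by
      refine Nat.eq_of_mul_eq_mul_right (Nat.card_pos : 0 < Nat.card C) ?_
      rw [card_carrier_mul, C.index_mul_card]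
    rw [← h1]
    have h4' : Nat.card {y : N // y ≠ 1} + 1 = 5 := by
      rw [← Finite.card_option, Nat.card_congr (Equiv.optionSubtypeNe (1 : N)), hN5]
    refine le_trans (Nat.card_le_card_of_injective (fun y => (⟨⟨y.1, ?_⟩, ?_⟩ : {y : N // y ≠ 1}))
      fun y y' h => Subtype.ext (congrArg (fun z : {y : N // y ≠ 1} => ((z : N) : Q)) h :)) (by omega)
    · obtain ⟨y, hy⟩ := y
      obtain ⟨e, he⟩ := isConj_iff.1
        ((ConjClasses.mk_eq_mk_iff_isConj.1 (ConjClasses.mem_carrier_iff_mk_eq.1 hy)).symm)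
      exact he ▸ (inferInstance : N.Normal).conj_mem n hnN e
    · obtain ⟨y, hy⟩ := y
      intro h
      have h1 : y = 1 := congrArg Subtype.val h
      have hc := (ConjClasses.mk_eq_mk_iff_isConj.1 (ConjClasses.mem_carrier_iff_mk_eq.1 hy)).symm
      rw [h1, isConj_one_left] at hc
      rw [hc, orderOf_one] at hn
      norm_num at hn
  have hNC : N ≤ C := hnz ▸ zpowers_le.2 (mem_centralizer_singleton_iff.2 rfl)
  haveI hnil : Group.IsNilpotent C := by
    have hker : (QuotientGroup.mk' (N.subgroupOf C)).ker ≤ center C := by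
      rw [QuotientGroup.ker_mk']
      intro c hc
      rw [mem_subgroupOf, ← hnz] at hc
      obtain ⟨i, hi⟩ := mem_zpowers_iff.1 hc
      refine mem_center_iff.2 fun d => Subtype.ext ?_
      rw [Subgroup.coe_mul, Subgroup.coe_mul, ← hi]
      exact (Commute.zpow_right (show Commute (d : Q) n from mem_centralizer_singleton_iff.1 d.2) i).eq
    refine @Subgroup.isNilpotent_of_ker_le_center _ _ _ _ _ hker ?_
    refine IsPGroup.isNilpotent (p := 2) (IsPGroup.iff_card.2 ?_)
    have h1 : Nat.card C = Nat.card (C ⧸ N.subgroupOf C) * 5 := by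
      rw [← hN5, ← Nat.card_congr (Subgroup.subgroupOfEquivOfLe hNC).toEquiv]
      exact Subgroup.card_eq_card_quotient_mul_card_subgroup _
    have h2 : Nat.card (C ⧸ N.subgroupOf C) ∣ 2 ^ b := by
      refine Nat.dvd_of_mul_dvd_mul_right (show 0 < 5 by norm_num) ?_
      rw [← h1, ← hQ]
      exact Subgroup.card_subgroup_dvd_card C
    obtain ⟨j, -, hj⟩ := (Nat.dvd_prime_pow Nat.prime_two).1 h2
    exact ⟨j, hj⟩
  obtain ⟨P⟩ : Nonempty (Sylow 2 C) := inferInstance
  haveI : (P : Subgroup C).Normal := inferInstance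
  haveI := Sylow.characteristic_of_normal P inferInstance
  have hPb : (P : Subgroup C).map C.subtype = ⊥ := by
    haveI : ((P : Subgroup C).map C.subtype).Normal := ConjAct.normal_of_characteristic_of_normal
    exact le_bot_iff.1 (hcore ▸ Cfsg.Lib.Components.le_pCore (P.2.map _))
  rw [Subgroup.map_eq_bot_iff_of_injective _ C.subtype_injective] at hPb
  have hC2 : ¬ 2 ∣ Nat.card C := fun h => by
    have := P.pow_dvd_card_of_pow_dvd_card (n := 1) (by simpa using h)
    rw [hPb, Subgroup.card_bot] at this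
    norm_num at this
  have hC5 : Nat.card C ∣ 5 := by
    refine Nat.Coprime.dvd_of_dvd_mul_left ?_ (hQ ▸ Subgroup.card_subgroup_dvd_card C)
    exact Nat.Coprime.pow_right b (Nat.prime_two.coprime_iff_not_dvd.2 hC2).symm
  have h20 : 2 ^ b * 5 ≤ 4 * 5 := by
    rw [← hQ, ← C.index_mul_card]
    exact Nat.mul_le_mul hidx (Nat.le_of_dvd (by norm_num) hC5)
  by_contra hb
  have : 2 ^ 3 ≤ 2 ^ b := Nat.pow_le_pow_right (by norm_num) (by omega)
  omega

/-- The bound for `(3, 4)`. -/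
theorem four_bound [Nontrivial V] (hinj : Function.Injective ρ) (hcop : ¬ 3 ∣ Nat.card H)
    (htrans : ∀ v w : V, v ≠ 0 → w ≠ 0 → ∃ h, ρ h v = w) (h4 : finrank (ZMod 3) V = 4) {w : V} (hw : w ≠ 0) :
    Bound ρ w := by
  classical
  haveI : Fact (Nat.Prime 5) := ⟨by norm_num⟩
  by_cases hn : ∃ X : Subgroup H, X.Normal ∧ Nat.card X = 5
  · refine bound_of_normal hinj hcop htrans hw ?_ hn
    rw [h4]
    exact orderOf_eq_of_ppd (by norm_num) (by norm_num) (by norm_num) (fun i hi hin => by revert hi; revert i; decide +kernel)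
  push Not at hn
  obtain ⟨a, ha, hH⟩ := four_order hinj hcop htrans h4
  haveI hsol : Group.IsSolvable H := Cfsg.Agent.S0144.result 2 5 a 1 Nat.prime_two (by norm_num) (by rw [hH, pow_one])
  obtain ⟨x, hx⟩ := exists_prime_orderOf_dvd_card' 5 (hH ▸ dvd_mul_left 5 _ : 5 ∣ Nat.card H)
  set O := Cfsg.pCore 2 H
  have hOp : IsPGroup 2 O := Cfsg.Lib.Components.isPGroup_pCore 2
  have hpp : Cfsg.pPrimeCore 2 H = ⊥ := by
    have hd : Nat.card (Cfsg.pPrimeCore 2 H) ∣ 5 :=
      Nat.Coprime.dvd_of_dvd_mul_left (Nat.Coprime.pow_right a (Cfsg.Lib.Components.coprime_card_pPrimeCore 2))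
        (hH ▸ Subgroup.card_subgroup_dvd_card _)
    rcases (Nat.dvd_prime (Fact.out : Nat.Prime 5)).1 hd with h | h
    · exact Subgroup.card_eq_one.1 h
    · exact absurd h (hn _ inferInstance)
  have hC : centralizer (O : Set H) ≤ O := Cfsg.Lib.Coprime.centralizer_pCore_le 2 hpp
  have hne : O ≠ ⊥ := fun h => by
    have hx1 : x ∈ O := hC (by
      rw [h, mem_centralizer_iff]
      intro y hy
      rw [SetLike.mem_coe, Subgroup.mem_bot] at hy
      rw [hy, one_mul, mul_one])
    rw [h, Subgroup.mem_bot] at hx1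
    rw [hx1, orderOf_one] at hx
    norm_num at hx
  have F := coreFacts hinj hcop htrans h4 hn hx hOp hne
  have hO := card_core hinj h4 F hx ha hH hC
  have hOd : 2 ^ 5 * Nat.card (H ⧸ O) = 2 ^ a * 5 := by
    rw [← hH, Subgroup.card_eq_card_quotient_mul_card_subgroup O, hO]; ring
  have ha5 : 5 ≤ a := by
    refine (Nat.pow_dvd_pow_iff_le_right (show 1 < 2 by norm_num)).1 ?_
    exact Nat.Coprime.dvd_of_dvd_mul_right (Nat.Coprime.pow_left 5 (by norm_num)) ⟨_, hOd.symm⟩
  obtain ⟨b, rfl⟩ := Nat.exists_eq_add_of_le ha5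
  have hQ : Nat.card (H ⧸ O) = 2 ^ b * 5 := by
    refine Nat.eq_of_mul_eq_mul_left (show 0 < 2 ^ 5 by norm_num) ?_
    rw [hOd, pow_add, mul_assoc]
  have hcore : Cfsg.pCore 2 (H ⧸ O) = ⊥ := by
    rw [eq_bot_iff]
    intro q hq
    obtain ⟨g, rfl⟩ := QuotientGroup.mk'_surjective O q
    have hP : IsPGroup 2 ((Cfsg.pCore 2 (H ⧸ O)).comap (QuotientGroup.mk' O)) :=
      (Cfsg.Lib.Components.isPGroup_pCore 2).comap_of_ker_isPGroup _ (by rw [QuotientGroup.ker_mk']; exact hOp)
    rw [Subgroup.mem_bot, QuotientGroup.mk'_apply, QuotientGroup.eq_one_iff]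
    exact Cfsg.Lib.Components.le_pCore hP (Subgroup.mem_comap.2 hq)
  haveI : Group.IsSolvable (H ⧸ O) := Group.isSolvable_of_surjective (QuotientGroup.mk'_surjective O)
  obtain ⟨hb2, N, hNn, hN5⟩ := quotient_shape hQ hcore
  set Y := N.comap (QuotientGroup.mk' O) with hY
  have hidx : Y.index = 2 ^ b := by
    rw [hY, Subgroup.index_comap_of_surjective _ (QuotientGroup.mk'_surjective O)]
    have := N.index_mul_card
    rw [hN5, hQ] at this
    exact Nat.eq_of_mul_eq_mul_right (by norm_num) this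
  have hY160 : Nat.card Y = 160 := by
    have := Y.index_mul_card
    rw [hidx, hH, pow_add] at this
    refine Nat.eq_of_mul_eq_mul_left (show 0 < 2 ^ b by positivity) ?_
    rw [this]; ring
  have hOY : O ≤ Y := fun g hg => by
    rw [hY, Subgroup.mem_comap, QuotientGroup.mk'_apply, (QuotientGroup.eq_one_iff g).2 hg]; exact one_mem N
  have hk := classes_sixteen hinj h4 F hO hOY hY160
  have hk' := (Cfsg.Lib.Counting.classNumber_bounds Y).2.1
  rw [hidx] at hk'
  have hh := card_eq_mul_stab (ρ := ρ) htrans hw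
  rw [hH, h4, pow_add] at hh
  have hb4 : 2 ^ b ≤ 4 := (Nat.pow_le_pow_right (by norm_num) hb2).trans (by norm_num)
  have hk4 : 2 ^ b * Nat.card (ConjClasses Y) ≤ 4 * 16 := Nat.mul_le_mul hb4 hk
  generalize 2 ^ b = B at *
  generalize B * Nat.card (ConjClasses Y) = C' at *
  norm_num at hh
  have hlt : Nat.card (ConjClasses H) + Nat.card (stab ρ w) < 3 ^ finrank (ZMod 3) V := by
    rw [h4]
    norm_num
    omega
  exact ⟨hlt.le, fun e => absurd e hlt.ne⟩

end Cfsg.Lib.Blocks.CoprimeTransitive
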