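import Cfsg.Agent.Blocks.CoprimeTransitive.Main

/-!
# Normal abelian subgroups of transitive linear groups

A normal abelian subgroup of a group transitive on the nonzero vectors generates an algebra whose nonzero
elements are injective, so it is cyclic and fixes no nonzero vector.
-/

set_option autoImplicit false
set_option linter.unusedSectionVars false
set_option linter.style.haveILetI false

namespace Cfsg.Lib.Blocks.CoprimeTransitive

open Polynomial Module

universe u v

variable {p : ℕ} [hp : Fact p.Prime] {V : Type v} [AddCommGroup V] [Module (ZMod p) V] [Finite V]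
  {H : Type u} [Group H] [Finite H] {ρ : H →* Module.End (ZMod p) V}

theorem conj_mul_apply (g : H) (v : V) : ρ g⁻¹ (ρ g v) = v := by
  rw [← Module.End.mul_apply, ← map_mul, inv_mul_cancel, map_one, Module.End.one_apply]

theorem conj_mul_apply' (g : H) (v : V) : ρ g (ρ g⁻¹ v) = v := by
  rw [← Module.End.mul_apply, ← map_mul, mul_inv_cancel, map_one, Module.End.one_apply]

/-- The nonzero elements of the algebra of a normal abelian subgroup are injective. -/
theorem adjoin_injective [Nontrivial V] (htrans : ∀ v w : V, v ≠ 0 → w ≠ 0 → ∃ h, ρ h v = w)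
    (A : Subgroup H) [hA : A.Normal] (hc : ∀ a ∈ A, ∀ b ∈ A, a * b = b * a)
    {r : Module.End (ZMod p) V} (hr : r ∈ Algebra.adjoin (ZMod p) (ρ '' (A : Set H))) (hr0 : r ≠ 0) :
    Function.Injective r := by
  classical
  set R := Algebra.adjoin (ZMod p) (ρ '' (A : Set H)) with hR
  haveI : IsMulCommutative R := Algebra.isMulCommutative_adjoin (ZMod p) (fun a ha b hb => by
    obtain ⟨x, hx, rfl⟩ := ha
    obtain ⟨y, hy, rfl⟩ := hb
    show ρ x * ρ y = ρ y * ρ x
    rw [← map_mul, ← map_mul, hc x hx y hy])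
  have hcomm : ∀ s ∈ R, ∀ t ∈ R, s * t = t * s := fun s hs t ht =>
    congrArg Subtype.val (IsMulCommutative.is_comm.comm (⟨s, hs⟩ : R) ⟨t, ht⟩)
  have hconj : ∀ g : H, ∀ s ∈ R, ρ g * s * ρ g⁻¹ ∈ R := by
    intro g s hs
    induction hs using Algebra.adjoin_induction with
    | mem x hx =>
      obtain ⟨a, ha, rfl⟩ := hx
      rw [← map_mul, ← map_mul]
      exact Algebra.subset_adjoin ⟨_, hA.conj_mem a ha g, rfl⟩
    | algebraMap c =>
      rw [← Algebra.commutes, mul_assoc, ← map_mul ρ, mul_inv_cancel, map_one, mul_one]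
      exact R.algebraMap_mem c
    | add a b _ _ iha ihb => rw [mul_add, add_mul]; exact add_mem iha ihb
    | mul a b _ _ iha ihb =>
      have : ρ g * (a * b) * ρ g⁻¹ = (ρ g * a * ρ g⁻¹) * (ρ g * b * ρ g⁻¹) := by
        simp only [mul_assoc]
        rw [← mul_assoc (ρ g⁻¹) (ρ g), ← map_mul, inv_mul_cancel, map_one, one_mul]
      rw [this]
      exact mul_mem iha ihb
  -- every vector generates a simple module
  have hsimple : ∀ v : V, v ≠ 0 → ∀ s ∈ R, s v ≠ 0 → ∃ t ∈ R, t (s v) = v := by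
    by_contra hno
    push Not at hno
    obtain ⟨v, hv, s, hs, hsv, hns⟩ := hno
    let span : V → Submodule (ZMod p) V := fun w => R.toSubmodule.map (LinearMap.applyₗ w)
    have hmem : ∀ w u, u ∈ span w ↔ ∃ t ∈ R, t w = u := fun w u => Submodule.mem_map
    have hbound : ∀ k : ℕ, ∀ w, w ≠ 0 → ∃ u, u ≠ 0 ∧ finrank (ZMod p) (span u) + k ≤ finrank (ZMod p) (span w) := by
      have hstep : ∀ w, w ≠ 0 → ∃ u, u ≠ 0 ∧ finrank (ZMod p) (span u) + 1 ≤ finrank (ZMod p) (span w) := by
        intro w hw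
        obtain ⟨g, hg⟩ := htrans v w hv hw
        refine ⟨ρ g (s v), rho_ne_zero g hsv, Submodule.finrank_lt_finrank_of_lt (lt_of_le_of_ne ?_ ?_)⟩
        · intro u hu
          obtain ⟨t, ht, rfl⟩ := (hmem _ _).1 hu
          refine (hmem _ _).2 ⟨t * (ρ g * s * ρ g⁻¹), mul_mem ht (hconj g s hs), ?_⟩
          rw [← hg]
          simp only [Module.End.mul_apply, conj_mul_apply]
        · intro he
          have hwmem : w ∈ span (ρ g (s v)) := he ▸ (hmem w w).2 ⟨1, one_mem R, rfl⟩
          obtain ⟨t, ht, htw⟩ := (hmem _ _).1 hwmem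
          refine hns _ (hconj g⁻¹ t ht) ?_
          rw [inv_inv, Module.End.mul_apply, Module.End.mul_apply, htw, ← hg, conj_mul_apply]
      intro k
      induction k with
      | zero => exact fun w hw => ⟨w, hw, le_rfl⟩
      | succ k ih =>
        intro w hw
        obtain ⟨u, hu, h1⟩ := ih w hw
        obtain ⟨u', hu', h2⟩ := hstep u hu
        exact ⟨u', hu', by omega⟩
    obtain ⟨u, -, hu⟩ := hbound (finrank (ZMod p) (span v) + 1) v hv
    omega
  refine (injective_iff_map_eq_zero r).2 fun v hv => ?_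
  by_contra hv0
  obtain ⟨u, hu⟩ : ∃ u, r u ≠ 0 := by
    by_contra h
    push Not at h
    exact hr0 (LinearMap.ext h)
  have hu0 : u ≠ 0 := fun e => hu (by rw [e, map_zero])
  have huv : r (u + v) = r u := by rw [map_add, hv, add_zero]
  have hne : u + v ≠ 0 := fun e => hu (by rw [← huv, e, map_zero])
  obtain ⟨t, ht, htu⟩ := hsimple (u + v) hne r hr (by rw [huv]; exact hu)
  rw [huv] at htu
  -- `v = (t * r - 1) u` lies in the simple module of `u` and `r` annihilates it
  have hv' : (t * r - 1) u = v := by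
    rw [LinearMap.sub_apply, Module.End.mul_apply, htu, Module.End.one_apply, add_sub_cancel_left]
  have hq : t * r - 1 ∈ R := sub_mem (mul_mem ht hr) (one_mem R)
  obtain ⟨w, hw, hwu⟩ := hsimple u hu0 _ hq (by rw [hv']; exact hv0)
  rw [hv'] at hwu
  refine hu ?_
  rw [← hwu, ← Module.End.mul_apply, hcomm r hr w hw, Module.End.mul_apply, hv, map_zero]

/-- A normal abelian subgroup fixes no nonzero vector. -/
theorem normal_abelian_free [Nontrivial V] (hinj : Function.Injective ρ)
    (htrans : ∀ v w : V, v ≠ 0 → w ≠ 0 → ∃ h, ρ h v = w) (A : Subgroup H) [A.Normal]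
    (hc : ∀ a ∈ A, ∀ b ∈ A, a * b = b * a) {a : H} (ha : a ∈ A) {v : V} (hv : v ≠ 0) (hfix : ρ a v = v) :
    a = 1 := by
  by_contra ha1
  set R := Algebra.adjoin (ZMod p) (ρ '' (A : Set H))
  have hmem : ρ a - 1 ∈ R := sub_mem (Algebra.subset_adjoin ⟨a, ha, rfl⟩) (one_mem R)
  have hne : ρ a - 1 ≠ 0 := fun e => ha1 (hinj (by rw [map_one]; exact sub_eq_zero.1 e))
  exact hv ((injective_iff_map_eq_zero _).1 (adjoin_injective htrans A hc hmem hne) v (by
    rw [LinearMap.sub_apply, Module.End.one_apply, hfix, sub_self]))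

/-- A normal abelian subgroup is cyclic. -/
theorem normal_abelian_cyclic [Nontrivial V] (hinj : Function.Injective ρ)
    (htrans : ∀ v w : V, v ≠ 0 → w ≠ 0 → ∃ h, ρ h v = w) (A : Subgroup H) [A.Normal]
    (hc : ∀ a ∈ A, ∀ b ∈ A, a * b = b * a) : IsCyclic A := by
  set R := Algebra.adjoin (ZMod p) (ρ '' (A : Set H))
  haveI : IsMulCommutative R := Algebra.isMulCommutative_adjoin (ZMod p) (fun a ha b hb => by
    obtain ⟨x, hx, rfl⟩ := ha
    obtain ⟨y, hy, rfl⟩ := hb
    show ρ x * ρ y = ρ y * ρ x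
    rw [← map_mul, ← map_mul, hc x hx y hy])
  letI : CommRing R := { (inferInstance : Ring R) with mul_comm := IsMulCommutative.is_comm.comm }
  haveI : NoZeroDivisors R := ⟨fun {a b} h => by
    refine or_iff_not_imp_left.2 fun ha => Subtype.ext (LinearMap.ext fun v => ?_)
    have ha' : (a : Module.End (ZMod p) V) ≠ 0 := fun e => ha (Subtype.ext e)
    exact adjoin_injective htrans A hc a.2 ha' (by
      rw [← Module.End.mul_apply, ← MulMemClass.coe_mul, h]
      simp)⟩
  haveI : Nontrivial R := ⟨⟨0, 1, fun e => zero_ne_one (congrArg Subtype.val e)⟩⟩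
  haveI : IsDomain R := NoZeroDivisors.to_isDomain R
  let ψ : A →* R :=
    { toFun := fun a => ⟨ρ a, Algebra.subset_adjoin ⟨a, a.2, rfl⟩⟩
      map_one' := Subtype.ext (map_one ρ)
      map_mul' := fun a b => Subtype.ext (map_mul ρ _ _) }
  exact isCyclic_of_injective_ringHom ψ fun a b e => Subtype.ext (hinj (congrArg Subtype.val e))

/-- The elements of a normal abelian subgroup have irreducible minimal polynomials. -/
theorem normal_abelian_minpoly [Nontrivial V]
    (htrans : ∀ v w : V, v ≠ 0 → w ≠ 0 → ∃ h, ρ h v = w) (A : Subgroup H) [A.Normal]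
    (hc : ∀ a ∈ A, ∀ b ∈ A, a * b = b * a) {a : H} (ha : a ∈ A) :
    Irreducible (minpoly (ZMod p) (ρ a)) := by
  set R := Algebra.adjoin (ZMod p) (ρ '' (A : Set H))
  have hint : IsIntegral (ZMod p) (ρ a) := Algebra.IsIntegral.isIntegral _
  have hmem : ∀ f : (ZMod p)[X], aeval (ρ a) f ∈ R := fun f => by
    have h1 : aeval (ρ a) f ∈ Algebra.adjoin (ZMod p) {ρ a} := aeval_mem_adjoin_singleton _ _
    exact Algebra.adjoin_mono (Set.singleton_subset_iff.2 (Set.mem_image_of_mem ρ ha)) h1
  refine ⟨minpoly.not_isUnit _ _, fun f g hfg => ?_⟩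
  have hm0 : minpoly (ZMod p) (ρ a) ≠ 0 := minpoly.ne_zero hint
  have h0 : aeval (ρ a) f * aeval (ρ a) g = 0 := by rw [← map_mul, ← hfg, minpoly.aeval]
  by_cases hf : aeval (ρ a) f = 0
  · right
    obtain ⟨e, he⟩ := minpoly.dvd _ _ hf
    rw [hfg] at hm0
    have hf0 : f ≠ 0 := left_ne_zero_of_mul hm0
    refine IsUnit.of_mul_eq_one e (mul_left_cancel₀ hf0 ?_)
    rw [mul_one]
    conv_rhs => rw [he, hfg]
    ring
  · left
    have hinjf := adjoin_injective htrans A hc (hmem f) hf
    have hg : aeval (ρ a) g = 0 := LinearMap.ext fun w => hinjf (by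
      rw [← Module.End.mul_apply, h0]; simp)
    obtain ⟨e, he⟩ := minpoly.dvd _ _ hg
    rw [hfg] at hm0
    have hg0 : g ≠ 0 := right_ne_zero_of_mul hm0
    refine IsUnit.of_mul_eq_one e (mul_left_cancel₀ hg0 ?_)
    rw [mul_one]
    conv_rhs => rw [he, hfg]
    ring

end Cfsg.Lib.Blocks.CoprimeTransitive
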