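import Cfsg.Agent.Blocks.CoprimeTransitive.Big
import Cfsg.Agent.S0689
import Cfsg.Agent.Coprime.Hall

/-!
# Class numbers of coprime groups transitive on the nonzero vectors
-/

set_option autoImplicit false
set_option linter.unusedSectionVars false
set_option linter.style.haveILetI false

namespace Cfsg.Lib.Blocks.CoprimeTransitive

open Module Subgroup
open Cfsg

universe u v

/-- A group of order fifteen is commutative. -/
theorem comm_fifteen {K : Type*} [Group K] [Finite K] (hK : Nat.card K = 15) :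
    ∃ x y : K, orderOf x = 5 ∧ orderOf y = 3 ∧ x * y = y * x := by
  haveI : Fact (Nat.Prime 5) := ⟨by norm_num⟩
  haveI : Fact (Nat.Prime 3) := ⟨by norm_num⟩
  obtain ⟨x, hx⟩ := exists_prime_orderOf_dvd_card' (G := K) 5 (by omega)
  obtain ⟨y, hy⟩ := exists_prime_orderOf_dvd_card' (G := K) 3 (by omega)
  have hidx : (zpowers x).index = 3 := by
    have := (zpowers x).card_mul_index
    rw [Nat.card_zpowers, hx, hK] at this
    omega
  have hn : (zpowers x).Normal := Subgroup.normal_of_index_eq_minFac_card (by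
    rw [hidx, hK]; norm_num)
  obtain ⟨i, hi⟩ := mem_zpowers_iff.1 (hn.conj_mem x (mem_zpowers x) y)
  refine ⟨x, y, hx, hy, ?_⟩
  have hi' : y * x * y⁻¹ = x ^ (i % 5) := by rw [← hi, ← zpow_mod_orderOf, hx]; rfl
  obtain ⟨j, hj⟩ := Int.eq_ofNat_of_zero_le (Int.emod_nonneg i (by norm_num : (5 : ℤ) ≠ 0))
  have hj5 : j < 5 := by have := Int.emod_lt_of_pos i (by norm_num : (0 : ℤ) < 5); omega
  rw [hj, zpow_natCast] at hi'
  have h3 : x = x ^ (j * j * j) := by
    have e1 : ∀ k : ℕ, y * x ^ k * y⁻¹ = x ^ (j * k) := fun k => by rw [← conj_pow, hi', ← pow_mul]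
    calc x = y ^ 3 * x * (y ^ 3)⁻¹ := by rw [← hy, pow_orderOf_eq_one]; group
      _ = y * (y * (y * x * y⁻¹) * y⁻¹) * y⁻¹ := by simp only [pow_succ, pow_zero, one_mul, mul_inv_rev, mul_assoc]
      _ = x ^ (j * (j * j)) := by rw [hi', e1, e1]
      _ = x ^ (j * j * j) := by rw [mul_assoc]
  have hj1 : j = 1 := by
    have h4 : x ^ 1 = x ^ (j * j * j) := by rw [pow_one]; exact h3
    rw [pow_eq_pow_iff_modEq, hx] at h4
    interval_cases j <;> simp [Nat.ModEq] at h4 ⊢
  rw [hj1, pow_one] at hi'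
  conv_lhs => rw [← hi']
  group

theorem exceptional_arith {p z : ℕ} (hp : p.Prime) (hp7 : 7 ≤ p) (hp13 : p ≤ 13) (hz : 0 < z) (hz2 : z ≤ 2)
    (hd : p ^ 2 - 1 ∣ 60 * z) (hk : 9 * z < 2 * p) : p = 11 ∧ z = 2 := by
  interval_cases p <;> interval_cases z <;> revert hp <;> norm_num at * <;> omega

variable {p : ℕ} [hp : Fact p.Prime] {V : Type v} [AddCommGroup V] [Module (ZMod p) V] [Finite V]
  {H : Type u} [Group H] [Finite H] {ρ : H →* Module.End (ZMod p) V}

theorem card_vectors : Nat.card V = p ^ finrank (ZMod p) V := by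
  rw [Module.natCard_eq_pow_finrank (K := ZMod p), Nat.card_zmod]

theorem card_nonzero : Nat.card {v : V // v ≠ 0} = p ^ finrank (ZMod p) V - 1 := by
  classical
  rw [← card_vectors, ← Nat.card_congr (Equiv.optionSubtypeNe (0 : V)), Finite.card_option,
    Nat.add_sub_cancel]

theorem rho_ne_zero (h : H) {v : V} (hv : v ≠ 0) : ρ h v ≠ 0 := fun e => hv (by
  have := congrArg (ρ h⁻¹) e
  rwa [map_zero, ← Module.End.mul_apply, ← map_mul, inv_mul_cancel, map_one, Module.End.one_apply] at this)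

/-- The orbit map is onto, and its fibres are the cosets of the stabiliser. -/
theorem vectors_dvd [Nontrivial V] (htrans : ∀ v w : V, v ≠ 0 → w ≠ 0 → ∃ h, ρ h v = w) :
    p ^ finrank (ZMod p) V - 1 ∣ Nat.card H ∧
      (Nat.card H = p ^ finrank (ZMod p) V - 1 → ∀ h : H, ∀ v : V, v ≠ 0 → ρ h v = v → h = 1) := by
  have key : ∀ v : V, v ≠ 0 → ∃ S : Subgroup H, (∀ h, h ∈ S ↔ ρ h v = v) ∧
      S.index = p ^ finrank (ZMod p) V - 1 := by
    intro v hv
    let S : Subgroup H :=
      { carrier := {h | ρ h v = v}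
        one_mem' := by simp
        mul_mem' := fun {a b} (ha : ρ a v = v) (hb : ρ b v = v) => by
          show ρ (a * b) v = v
          rw [map_mul, Module.End.mul_apply, hb, ha]
        inv_mem' := fun {a} (ha : ρ a v = v) => by
          show ρ a⁻¹ v = v
          conv_lhs => rw [← ha]
          rw [← Module.End.mul_apply, ← map_mul, inv_mul_cancel, map_one, Module.End.one_apply] }
    refine ⟨S, fun h => Iff.rfl, ?_⟩
    rw [← card_nonzero, Subgroup.index]
    refine Nat.card_congr (Equiv.ofBijective (Quotient.lift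
      (fun h : H => (⟨ρ h v, rho_ne_zero h hv⟩ : {w : V // w ≠ 0})) ?_) ⟨?_, ?_⟩)
    · intro a b h
      have h' : ρ (a⁻¹ * b) v = v := QuotientGroup.leftRel_apply.1 h
      refine Subtype.ext ?_
      show ρ a v = ρ b v
      conv_lhs => rw [← h']
      rw [← Module.End.mul_apply, ← map_mul, mul_inv_cancel_left]
    · rintro ⟨a⟩ ⟨b⟩ h
      have h' : ρ a v = ρ b v := congrArg Subtype.val h
      refine Quotient.sound (QuotientGroup.leftRel_apply.2 ?_)
      show ρ (a⁻¹ * b) v = v
      rw [map_mul, Module.End.mul_apply, ← h', ← Module.End.mul_apply, ← map_mul, inv_mul_cancel, map_one,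
        Module.End.one_apply]
    · rintro ⟨w, hw⟩
      obtain ⟨h, hh⟩ := htrans v w hv hw
      exact ⟨Quotient.mk'' h, Subtype.ext hh⟩
  refine ⟨?_, fun hcard h v hv hfix => ?_⟩
  · obtain ⟨v, hv⟩ := exists_ne (0 : V)
    obtain ⟨S, -, hS⟩ := key v hv
    exact hS ▸ S.index_dvd_card
  · obtain ⟨S, hmem, hS⟩ := key v hv
    have h1 := S.card_mul_index
    rw [hS, ← hcard] at h1
    have hb : S = ⊥ := Subgroup.eq_bot_of_card_eq S
      (Nat.eq_of_mul_eq_mul_right Nat.card_pos (by rw [h1, one_mul]))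
    exact Subgroup.mem_bot.1 (hb ▸ (hmem h).2 hfix)

/-- One dimension. -/
theorem one_dim [Nontrivial V] (hinj : Function.Injective ρ)
    (htrans : ∀ v w : V, v ≠ 0 → w ≠ 0 → ∃ h, ρ h v = w) (h1 : finrank (ZMod p) V = 1) :
    Nat.card H = p - 1 ∧ Nat.card (ConjClasses H) = p - 1 := by
  obtain ⟨v, hv, hspan⟩ := finrank_eq_one_iff'.1 h1
  have hdet : ∀ a b : H, ρ a v = ρ b v → a = b := fun a b h => hinj (LinearMap.ext fun w => by
    obtain ⟨c, rfl⟩ := hspan w
    rw [map_smul, map_smul, h])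
  have hle : Nat.card H ≤ p - 1 := by
    refine le_trans (Nat.card_le_card_of_injective (fun h : H => (⟨ρ h v, rho_ne_zero h hv⟩ : {w : V // w ≠ 0}))
      fun a b h => hdet a b (congrArg Subtype.val h)) ?_
    rw [card_nonzero (p := p), h1, pow_one]
  have hge := Nat.le_of_dvd Nat.card_pos (vectors_dvd htrans).1
  rw [h1, pow_one] at hge
  refine ⟨by omega, ?_⟩
  rw [card_classes_of_comm fun a b => hdet _ _ ?_]
  · omega
  obtain ⟨c, hc⟩ := hspan (ρ a v)
  obtain ⟨d, hd⟩ := hspan (ρ b v)
  rw [map_mul, map_mul, Module.End.mul_apply, Module.End.mul_apply, ← hd, ← hc, map_smul, map_smul, ← hd, ← hc,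
    smul_comm]

/-- The exceptional group is `SL(2,5)`. -/
theorem exceptional [Nontrivial V] (hinj : Function.Injective ρ)
    (htrans : ∀ v w : V, v ≠ 0 → w ≠ 0 → ∃ h, ρ h v = w) (hV : p ^ finrank (ZMod p) V = 121)
    (hH : Nat.card H = 120) (hz : Nat.card (center H) = 2)
    (hC : ∀ x : H, x ∉ center H → Nat.card ↥(centralizer ({x} : Set H)) ≤ 10) :
    Nonempty (H ≃* Matrix.SpecialLinearGroup (Fin 2) (ZMod 5)) := by
  let φ : H →* (V ≃ₗ[ZMod p] V) :=
    (LinearMap.GeneralLinearGroup.generalLinearEquiv (ZMod p) V).toMonoidHom.comp ρ.toHomUnits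
  have hφ : ∀ h v, φ h v = ρ h v := fun h v => rfl
  have hφinj : Function.Injective φ := fun a b h => hinj (LinearMap.ext fun v => by rw [← hφ, ← hφ, h])
  let e : H ≃* φ.range := MonoidHom.ofInjective hφinj
  have hfree := (vectors_dvd htrans).2 (by rw [hV, hH])
  have hreg : ∀ v w : V, v ≠ 0 → w ≠ 0 → ∃! h : φ.range, (h : V ≃ₗ[ZMod p] V) v = w := by
    intro v w hv hw
    obtain ⟨h, hh⟩ := htrans v w hv hw
    refine ⟨e h, hh, fun g hg => ?_⟩
    obtain ⟨k, rfl⟩ := e.surjective g
    have hk : ρ k v = w := hg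
    refine congrArg e ?_
    have := hfree (h⁻¹ * k) v hv (by
      rw [map_mul, Module.End.mul_apply, hk, ← hh, ← Module.End.mul_apply, ← map_mul, inv_mul_cancel, map_one,
        Module.End.one_apply])
    exact (inv_mul_eq_one.1 this).symm
  have hns : ¬ Group.IsSolvable φ.range := by
    intro hs
    haveI := hs
    haveI : Group.IsSolvable H := solvable_of_solvable_injective (f := e.toMonoidHom) e.injective
    obtain ⟨K, hK⟩ := Cfsg.Lib.Coprime.exists_piHall (G := H) {q | q ∣ 15}
    have hKc := Cfsg.Lib.Coprime.card_eq_of_isPiHall (G := H) (m := 15) (n := 8) (by rw [hH]) (by norm_num) hK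
    obtain ⟨x, y, hx, hy, hxy⟩ := comm_fifteen hKc
    have hx' : orderOf (x : H) = 5 := by rw [Subgroup.orderOf_coe, hx]
    have hxZ : (x : H) ∉ center H := fun h => by
      have := orderOf_dvd_natCard (⟨x, h⟩ : center H)
      rw [← Subgroup.orderOf_coe, hx', hz] at this
      norm_num at this
    have h5 : orderOf (x : H) ∣ Nat.card ↥(centralizer ({(x : H)} : Set H)) := by
      rw [← Subgroup.orderOf_mk (a := (x : H)) (ha := mem_centralizer_singleton_iff.2 rfl)]
      exact orderOf_dvd_natCard _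
    have h3 : orderOf (y : H) ∣ Nat.card ↥(centralizer ({(x : H)} : Set H)) := by
      rw [← Subgroup.orderOf_mk (a := (y : H))
        (ha := mem_centralizer_singleton_iff.2 (congrArg Subtype.val hxy).symm)]
      exact orderOf_dvd_natCard _
    rw [hx'] at h5
    rw [Subgroup.orderOf_coe, hy] at h3
    have h15 : 15 ∣ Nat.card ↥(centralizer ({(x : H)} : Set H)) := by omega
    have := Nat.le_of_dvd Nat.card_pos h15
    have := hC _ hxZ
    omega
  rcases Cfsg.Agent.S0689.result φ.range hreg hns with h | h | h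
  · exact ⟨e.trans h.2.some⟩
  · have := h.1; rw [card_vectors (p := p), hV] at this; omega
  · have := h.1; rw [card_vectors (p := p), hV] at this; omega

/-- The class number of a coprime group transitive on the nonzero vectors. -/
theorem coprime_transitive [Nontrivial V] (hinj : Function.Injective ρ) (hcop : ¬ p ∣ Nat.card H)
    (htrans : ∀ v w : V, v ≠ 0 → w ≠ 0 → ∃ h, ρ h v = w) :
    p ≤ Nat.card (ConjClasses H) ∨
      (finrank (ZMod p) V = 1 ∧ Nat.card H = p - 1 ∧ Nat.card (ConjClasses H) = p - 1) ∨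
      (p = 11 ∧ finrank (ZMod p) V = 2 ∧ Nat.card H = 120 ∧ Nat.card (ConjClasses H) = 9 ∧
        Nat.card (center H) = 2 ∧ (∀ x : H, x ∉ center H → Nat.card ↥(centralizer ({x} : Set H)) ≤ 10) ∧
        Nonempty (H ≃* Matrix.SpecialLinearGroup (Fin 2) (ZMod 5))) := by
  classical
  obtain ⟨hdvd, -⟩ := vectors_dvd htrans
  set n := finrank (ZMod p) V with hn
  have hn0 : 0 < n := Module.finrank_pos
  by_cases h1 : n = 1
  · exact Or.inr (Or.inl ⟨h1, one_dim hinj htrans h1⟩)
  have hN := Nat.le_of_dvd Nat.card_pos hdvd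
  have hp2 := hp.out.two_le
  have hsqle : p ^ 2 ≤ p ^ n := Nat.pow_le_pow_right (by omega) (by omega)
  rcases (by omega : p = 2 ∨ p = 3 ∨ p = 5 ∨ p = 4 ∨ p = 6 ∨ 7 ≤ p) with h | h | h | h | h | hp7
  · left
    subst h
    haveI : Nontrivial H := Finite.one_lt_card_iff_nontrivial.1 (by omega)
    haveI : Nontrivial (ConjClasses H) := by
      obtain ⟨x, hx⟩ := exists_ne (1 : H)
      exact ⟨⟨ConjClasses.mk x, ConjClasses.mk 1, fun h => hx (isConj_one_right.1
        (ConjClasses.mk_eq_mk_iff_isConj.1 h).symm)⟩⟩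
    exact Finite.one_lt_card
  · left
    subst h
    by_contra hlt
    have h8 : 8 ∣ Nat.card H ∨ n ≠ 2 := by
      by_cases hn2 : n = 2
      · exact Or.inl (by rw [hn2] at hdvd; exact hdvd)
      · exact Or.inr hn2
    haveI := Fintype.ofFinite (ConjClasses H)
    have hsum := sum_carrier (H := H)
    set one := ConjClasses.mk (1 : H)
    rw [← Finset.add_sum_erase _ _ (Finset.mem_univ one)] at hsum
    have hone : Nat.card one.carrier = 1 := by
      have := card_carrier_mul (1 : H)
      rw [show centralizer ({(1 : H)} : Set H) = ⊤ from top_unique fun y _ =>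
        mem_centralizer_singleton_iff.2 (by rw [mul_one, one_mul]), Subgroup.card_top] at this
      exact Nat.eq_of_mul_eq_mul_right (Nat.card_pos (α := H)) (by rw [this, one_mul])
    have hcard : (Finset.univ.erase one).card ≤ 1 := by
      rw [Finset.card_erase_of_mem (Finset.mem_univ _), Finset.card_univ, ← Nat.card_eq_fintype_card]
      omega
    rw [hone] at hsum
    rcases Finset.card_le_one_iff_subsingleton.1 hcard |>.eq_empty_or_singleton with he | ⟨C, he⟩
    · rw [Finset.coe_eq_empty] at he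
      rw [he, Finset.sum_empty] at hsum
      omega
    · rw [Finset.coe_eq_singleton] at he
      rw [he, Finset.sum_singleton] at hsum
      obtain ⟨y, rfl⟩ := ConjClasses.exists_rep C
      have hd : Nat.card (ConjClasses.mk y).carrier ∣ Nat.card H := ⟨_, (card_carrier_mul y).symm⟩
      rw [← hsum] at hd
      have := Nat.le_of_dvd one_pos ((Nat.dvd_add_left dvd_rfl).1 hd)
      omega
  · left
    subst h
    refine five_le_classes ((Dvd.dvd.trans ⟨1, rfl⟩ (Nat.dvd_trans ?_ hdvd))) (by omega)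
    have h4 : 1 ≡ 5 ^ n [MOD 4] := by
      simpa using ((show 5 ≡ 1 [MOD 4] by decide).pow n).symm
    exact (Nat.modEq_iff_dvd' (Nat.one_le_pow _ _ (by norm_num))).1 h4
  · rw [h] at hp; exact absurd hp.out (by norm_num)
  · rw [h] at hp; exact absurd hp.out (by norm_num)
  rcases (by omega : n = 2 ∨ 3 ≤ n) with h2 | h3
  swap
  · exact Or.inl (classes_big hinj hcop hp7 h3 hdvd)
  have hsq : 49 ≤ p ^ 2 := le_trans (by norm_num) (Nat.pow_le_pow_left hp7 2)
  rw [h2] at hdvd hN
  rcases classes_two_dim (abelianCentralisers_of_two hinj hcop (by omega) h2) with h | ⟨ha, hb⟩ | ⟨ha, hb, hc⟩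
  · left
    have : 7 * p ≤ p ^ 2 := by rw [pow_two]; exact Nat.mul_le_mul_right p hp7
    omega
  · left
    have : 7 * p ≤ p ^ 2 := by rw [pow_two]; exact Nat.mul_le_mul_right p hp7
    omega
  by_cases hlt : p ≤ Nat.card (ConjClasses H)
  · exact Or.inl hlt
  right; right
  set z := Nat.card (center H)
  have hz0 : 0 < z := Nat.card_pos
  have hp13 : p ≤ 13 := by
    by_contra hh
    have h14 : 14 * p ≤ p ^ 2 := by rw [pow_two]; exact Nat.mul_le_mul_right p (by omega)
    omega
  have hzp : z ≤ 2 := by omega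
  have hp11 : p = 11 ∧ z = 2 :=
    exceptional_arith hp.out hp7 hp13 hz0 hzp (ha ▸ hdvd) (by omega)
  obtain ⟨rfl, hz2⟩ := hp11
  rw [hz2] at ha hb
  have hk : Nat.card (ConjClasses H) = 9 := by omega
  have hC : ∀ x : H, x ∉ center H → Nat.card ↥(centralizer ({x} : Set H)) ≤ 10 := fun x hx => by
    have := hc x hx
    omega
  refine ⟨rfl, h2, ha, hk, hz2, hC, exceptional hinj htrans (by rw [← hn, h2]; norm_num) ha hz2 hC⟩

end Cfsg.Lib.Blocks.CoprimeTransitive
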