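import Cfsg.Agent.Blocks.CoprimeTransitive.Plane
import Cfsg.Agent.Blocks.CoprimeTransitive.Big
import Cfsg.Agent.Blocks.CoprimeTransitive.ArithSmall
import Cfsg.Agent.Blocks.ItoDegrees
import Cfsg.Agent.InvolutionCount.Basic
import Cfsg.Agent.S0205
import Cfsg.Agent.S0243
import Cfsg.Agent.S2904
import Cfsg.Agent.S4468
import Cfsg.Agent.S4504

/-!
# A normal subgroup of primitive prime order
-/

set_option autoImplicit false
set_option linter.unusedSectionVars false
set_option linter.style.haveILetI false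

namespace Cfsg.Lib.Blocks.CoprimeTransitive

open Module Subgroup Polynomial
open Cfsg Cfsg.Lib.Blocks Cfsg.Lib.Chars

universe u v

/-- A Sylow subgroup for a prime dividing the order exactly once. -/
theorem sylow_card_prime {G : Type*} [Group G] [Finite G] {s : ℕ} [Fact s.Prime] (hd : s ∣ Nat.card G)
    (hsq : ¬ s ^ 2 ∣ Nat.card G) (P : Sylow s G) : Nat.card (P : Subgroup G) = s := by
  obtain ⟨j, hj⟩ := IsPGroup.iff_card.1 P.2
  have h1 := P.pow_dvd_card_of_pow_dvd_card (n := 1) (by simpa using hd)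
  rw [pow_one] at h1
  rcases j with _ | _ | j
  · rw [hj, pow_zero, Nat.dvd_one] at h1
    exact absurd h1 (Fact.out : s.Prime).ne_one
  · rw [hj, pow_one]
  · exact absurd ((pow_dvd_pow s (by omega : 2 ≤ j + 1 + 1)).trans (hj ▸ Subgroup.card_subgroup_dvd_card _)) hsq

/-- A group whose central quotient is `PSL(2, s)` has order divisible by six. -/
theorem six_dvd_of_psl {G : Type*} [Group G] [Finite G] {s : ℕ} [Fact s.Prime] (hs : 5 ≤ s)
    (e : (G ⧸ Subgroup.center G) ≃* Matrix.ProjectiveSpecialLinearGroup (Fin 2) (ZMod s)) : 6 ∣ Nat.card G := by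
  have hsp : s.Prime := Fact.out
  have h := Cfsg.Agent.S0243.result (F := ZMod s) (ZMod.card s) 2 le_rfl
  set N := Nat.card (Matrix.ProjectiveSpecialLinearGroup (Fin 2) (ZMod s))
  obtain ⟨m, hm⟩ : ∃ m, s = 2 * m + 1 := hsp.odd_of_ne_two (by omega)
  rw [hm, Fin.prod_univ_two, show 2 * m + 1 - 1 = 2 * m by omega, Nat.gcd_mul_right_right] at h
  have e1 : (2 * m + 1) ^ 2 - (2 * m + 1) ^ ((0 : Fin 2) : ℕ) = 4 * (m * (m + 1)) := by
    rw [Fin.val_zero, pow_zero]
    exact Nat.sub_eq_of_eq_add (by ring)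
  have e2 : (2 * m + 1) ^ 2 - (2 * m + 1) ^ ((1 : Fin 2) : ℕ) = 2 * m * (2 * m + 1) := by
    rw [Fin.val_one, pow_one]
    exact Nat.sub_eq_of_eq_add (by ring)
  rw [e1, e2] at h
  have hN : N = 2 * (m * (m + 1) * (2 * m + 1)) := by
    refine Nat.eq_of_mul_eq_mul_left (show 0 < 4 * m by omega) ?_
    linarith [h]
  have h3 : 3 ∣ m * (m + 1) * (2 * m + 1) := by
    rcases (by omega : m % 3 = 0 ∨ m % 3 = 1 ∨ m % 3 = 2) with h' | h' | h'
    · exact ((Nat.dvd_of_mod_eq_zero h').mul_right _).mul_right _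
    · exact (Nat.dvd_of_mod_eq_zero (by omega)).mul_left _
    · exact ((Nat.dvd_of_mod_eq_zero (show (m + 1) % 3 = 0 by omega)).mul_left _).mul_right _
  have h6 : 6 ∣ N := hN ▸ Nat.mul_dvd_mul_left 2 h3
  have hq : Nat.card (G ⧸ Subgroup.center G) = N := Nat.card_congr e.toEquiv
  exact (hq ▸ h6).trans (Subgroup.card_quotient_dvd_card _)

variable {p : ℕ} [hp : Fact p.Prime] {V : Type v} [AddCommGroup V] [Module (ZMod p) V] [Finite V]
  {H : Type u} [Group H] [Finite H] {ρ : H →* Module.End (ZMod p) V}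

/-- The bound to prove. -/
def Bound (ρ : H →* Module.End (ZMod p) V) (w : V) : Prop :=
  Nat.card (ConjClasses H) + Nat.card (stab ρ w) ≤ p ^ finrank (ZMod p) V ∧
    (Nat.card (ConjClasses H) + Nat.card (stab ρ w) = p ^ finrank (ZMod p) V →
      IsCyclic H ∨ (p ^ finrank (ZMod p) V = 8 ∧ Nat.card H = 21) ∨
        (p ^ finrank (ZMod p) V = 9 ∧ Nat.card H = 16))

/-- Without a normal subgroup of order `s` the Sylow subgroup is small and there is a small faithful character. -/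
theorem nonnormal_bound (hinj : Function.Injective ρ) (hcop : ¬ p ∣ Nat.card H) {s : ℕ} [Fact s.Prime]
    (hord : orderOf (p : ZMod s) = finrank (ZMod p) V) (hsH : s ∣ Nat.card H)
    (hno : ∀ X : Subgroup H, X.Normal → Nat.card X ≠ s) :
    ¬ s ^ 2 ∣ Nat.card H ∧ finrank (ZMod p) V + 1 ≤ s ∧ ∃ m ≤ finrank (ZMod p) V,
      ∃ π : Representation ℂ H (Fin m → ℂ), Function.Injective π ∧ s ≤ 2 * m + 1 := by
  classical
  haveI := Fintype.ofFinite H
  have hs : s.Prime := Fact.out
  set n := finrank (ZMod p) V with hnd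
  have hsp : s ≠ p := fun e => hcop (e ▸ hsH)
  have hns : n + 1 ≤ s := by
    have h0 : n ∣ s - 1 := by
      rw [← hord]
      refine orderOf_dvd_of_pow_eq_one (ZMod.pow_card_sub_one_eq_one fun h => hsp ?_)
      exact (Nat.prime_dvd_prime_iff_eq hs hp.out).1 ((ZMod.natCast_eq_zero_iff _ _).1 h)
    have := hs.two_le
    have := Nat.le_of_dvd (by omega) h0
    omega
  have hcyc : ∀ x : H, orderOf x = s → IsCyclic (centralizer ({x} : Set H)) := fun x hx =>
    ThreeChars.centralizer_cyclic ρ hinj hx (hord.trans hnd) hsp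
  obtain ⟨P⟩ : Nonempty (Sylow s H) := inferInstance
  have hPne : Nontrivial (P : Subgroup H) := by
    have := P.pow_dvd_card_of_pow_dvd_card (n := 1) (by simpa using hsH)
    rw [pow_one] at this
    exact Finite.one_lt_card_iff_nontrivial.1 (lt_of_lt_of_le hs.one_lt (Nat.le_of_dvd Nat.card_pos this))
  haveI := P.2.center_nontrivial
  have hPcyc : IsCyclic (P : Subgroup H) := by
    obtain ⟨z, hz⟩ := exists_prime_orderOf_dvd_card' (G := center (P : Subgroup H)) s (by
      obtain ⟨m, hm0, hm⟩ := (P.2.to_subgroup (center (P : Subgroup H))).nontrivial_iff_card.1 inferInstance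
      exact hm ▸ dvd_pow_self s hm0.ne')
    have hzo : orderOf ((z : (P : Subgroup H)) : H) = s := by rw [Subgroup.orderOf_coe, Subgroup.orderOf_coe, hz]
    have hle : (P : Subgroup H) ≤ centralizer ({((z : (P : Subgroup H)) : H)} : Set H) := fun y hy =>
      mem_centralizer_singleton_iff.2 (congrArg Subtype.val (mem_center_iff.1 z.2 ⟨y, hy⟩))
    haveI := hcyc _ hzo
    exact isCyclic_of_injective (Subgroup.inclusion hle) (Subgroup.inclusion_injective hle)
  have hnop : ∀ Q : Subgroup H, Q.Normal → IsPGroup s Q → Q = ⊥ := by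
    intro Q hQn hQ
    by_contra hne
    haveI : Nontrivial Q := (nontrivial_iff_ne_bot Q).2 hne
    obtain ⟨m, hm0, hm⟩ := hQ.nontrivial_iff_card.1 inferInstance
    obtain ⟨⟨y, hyQ⟩, hy⟩ := exists_prime_orderOf_dvd_card' (G := Q) s (hm ▸ dvd_pow_self s hm0.ne')
    rw [Subgroup.orderOf_mk] at hy
    obtain ⟨S, hS⟩ := hQ.exists_le_sylow
    haveI : IsCyclic (S : Subgroup H) := by
      obtain ⟨e⟩ : Nonempty ((P : Subgroup H) ≃* (S : Subgroup H)) := ⟨P.equiv S⟩
      exact isCyclic_of_surjective e e.surjective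
    refine hno (zpowers y) ⟨fun w hw g => ?_⟩ (by rw [Nat.card_zpowers, hy])
    have hgy : zpowers (g * y * g⁻¹) = zpowers y :=
      Cfsg.Lib.SolvStruct.CyclicProduct.eq_of_card_eq_of_isCyclic (A := (S : Subgroup H))
        (zpowers_le.2 (hS (hQn.conj_mem y hyQ g))) (zpowers_le.2 (hS hyQ)) (by
          rw [Nat.card_zpowers, Nat.card_zpowers]
          exact (MulAut.conj g).orderOf_eq y)
    obtain ⟨i, rfl⟩ := mem_zpowers_iff.1 hw
    rw [show g * y ^ i * g⁻¹ = (g * y * g⁻¹) ^ i from conj_zpow.symm]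
    exact zpow_mem (hgy ▸ mem_zpowers _) i
  obtain ⟨M, hM⟩ := exists_isPModular hp.out
  set b := Module.finBasis (ZMod p) V
  obtain ⟨m, hmn, π, hπ⟩ := exists_lift (M := M) ((LinearMap.toMatrixAlgEquiv b).toMonoidHom.comp ρ) hM
    (by rwa [← Nat.card_eq_fintype_card]) ((LinearMap.toMatrixAlgEquiv b).injective.comp hinj)
  obtain ⟨M', hM'⟩ := exists_isPModular hs
  haveI := charP_res hM'
  obtain ⟨U, σ, hU, hσ⟩ := exists_faithful_reduction hM' π hπ hnop
  have hsq : ¬ s ^ 2 ∣ Nat.card H := by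
    intro h2
    have hP2 := P.pow_dvd_card_of_pow_dvd_card h2
    obtain ⟨g, hg⟩ := IsCyclic.exists_generator (α := (P : Subgroup H))
    have hgP : Nat.card (P : Subgroup H) = orderOf g := (orderOf_eq_card_of_forall_mem_zpowers hg).symm
    obtain ⟨j, hj⟩ := IsPGroup.iff_card.1 P.2
    have hpow : σ (g : H) ^ s ^ j = 1 := by
      rw [← map_pow, ← SubmonoidClass.coe_pow, ← hj, hgP, pow_orderOf_eq_one, OneMemClass.coe_one, map_one]
    have h1 := pow_prime_eq_one (s := s) (hU.le.trans (by omega)) _ hpow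
    rw [← map_pow, ← map_one σ] at h1
    have h3 : g ^ s = 1 := Subtype.ext (hσ h1)
    have h4 := Nat.le_of_dvd hs.pos (orderOf_dvd_of_pow_eq_one h3)
    have h5 := Nat.le_of_dvd (orderOf_pos g) (hgP ▸ hP2)
    have : s * 2 ≤ s ^ 2 := by rw [pow_two]; exact Nat.mul_le_mul_left s hs.two_le
    have := hs.two_le
    omega
  have hbound := deg_bound_faithful (p := s) (G := H) hsH hsq hno
    (χ := π.character) ⟨m, π, rfl⟩ (fun g hg => Cfsg.Lib.OddChar.Blichfeldt.faithful_of_character hπ hg)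
  rw [deg_character, finrank_fintype_fun_eq_card, Fintype.card_fin] at hbound
  exact ⟨hsq, hns, m, hmn, π, hπ, hbound⟩

/-- For `s = 2n + 1` and `p ≤ 3` the subgroup is normal. -/
theorem normal_of_double (hinj : Function.Injective ρ) (hcop : ¬ p ∣ Nat.card H) (hp3 : p ≤ 3) {s : ℕ}
    [Fact s.Prime] (hs5 : 5 ≤ s) (hs : s = 2 * finrank (ZMod p) V + 1)
    (hord : orderOf (p : ZMod s) = finrank (ZMod p) V) (hsH : s ∣ Nat.card H) :
    ∃ X : Subgroup H, X.Normal ∧ Nat.card X = s := by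
  by_contra hno
  push Not at hno
  obtain ⟨hsq, -, m, hm, π, hπ, hb⟩ := nonnormal_bound hinj hcop hord hsH hno
  have hdeg : Cfsg.charDegree π.character = m :=
    (deg_character π).trans (by rw [finrank_fintype_fun_eq_card, Fintype.card_fin])
  obtain ⟨e⟩ := Cfsg.Agent.S4504.result s Fact.out hsH hsq hno π.character ⟨m, π, rfl⟩
    (fun g hg => Cfsg.Lib.OddChar.Blichfeldt.faithful_of_character hπ hg) (by rw [hdeg]; omega)
  refine hcop (Dvd.dvd.trans ?_ (six_dvd_of_psl hs5 e))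
  rcases (by have := hp.out.two_le; omega : p = 2 ∨ p = 3) with rfl | rfl <;> norm_num

/-- In characteristic two the subgroup is normal. -/
theorem normal_of_two (hinj : Function.Injective ρ) (hcop : ¬ p ∣ Nat.card H) (hp2 : p = 2) {s : ℕ}
    [Fact s.Prime] (hord : orderOf (p : ZMod s) = finrank (ZMod p) V) (hsH : s ∣ Nat.card H) :
    ∃ X : Subgroup H, X.Normal ∧ Nat.card X = s := by
  classical
  by_contra hno
  push Not at hno
  obtain ⟨hsq, hns, m, hm, π, hπ, -⟩ := nonnormal_bound hinj hcop hord hsH hno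
  subst hp2
  have hodd : Odd (Nat.card H) := Nat.odd_iff.2 (by omega)
  obtain ⟨P⟩ : Nonempty (Sylow s H) := inferInstance
  have hdeg : Cfsg.charDegree π.character = m :=
    (deg_character π).trans (by rw [finrank_fintype_fun_eq_card, Fintype.card_fin])
  obtain ⟨hms, ⟨k, hk⟩, hirr⟩ := Cfsg.Agent.S4468.result π.character ⟨m, π, rfl⟩
    (fun g hg => Cfsg.Lib.OddChar.Blichfeldt.faithful_of_character hπ hg) m hdeg s Fact.out
    (Cfsg.Lib.Blocks.isPSolvable_of_solvable (Cfsg.Agent.S0205.result hodd)) (by omega) P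
    (fun hn => hno _ hn (sylow_card_prime hsH hsq P))
  have hmd : m ∣ Nat.card H := by
    have := Cfsg.Lib.InvolutionCount.deg_dvd_card (⟨π.character, hirr⟩ : Cfsg.IrrCharacter H)
    rwa [deg_character, finrank_fintype_fun_eq_card, Fintype.card_fin] at this
  rcases k with _ | k
  · rw [pow_zero] at hk
    exact hcop (show 2 ∣ Nat.card H from (show s = 2 by omega) ▸ hsH)
  · exact hcop (((dvd_pow_self 2 k.succ_ne_zero).trans hk.symm.dvd).trans hmd)

/-- A normal cyclic subgroup of primitive prime order gives the bound. -/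
theorem bound_of_normal [Nontrivial V] (hinj : Function.Injective ρ) (hcop : ¬ p ∣ Nat.card H)
    (htrans : ∀ v w : V, v ≠ 0 → w ≠ 0 → ∃ h, ρ h v = w) {w : V} (hw : w ≠ 0) {s : ℕ} [Fact s.Prime]
    (hord : orderOf (p : ZMod s) = finrank (ZMod p) V) (h : ∃ X : Subgroup H, X.Normal ∧ Nat.card X = s) :
    Bound ρ w := by
  obtain ⟨X, hXn, hXc⟩ := h
  obtain ⟨⟨x, hxX⟩, hx⟩ := exists_prime_orderOf_dvd_card' s hXc.symm.dvd
  rw [Subgroup.orderOf_mk] at hx
  have hzx : zpowers x = X := eq_of_le_of_card_ge (zpowers_le.2 hxX) (by rw [Nat.card_zpowers, hx, hXc])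
  have hsp : s ≠ p := fun e => hcop (e ▸ hx ▸ orderOf_dvd_natCard x)
  obtain ⟨hirr, hdeg⟩ := ThreeChars.minpoly_irr ρ hinj hx hord hsp
  exact semilinear_bound hinj hcop htrans x (hzx.symm ▸ hXn) hirr hdeg hw

/-- Outside five pairs there is a normal subgroup of primitive prime order. -/
theorem exists_normal_ppd (hinj : Function.Injective ρ) (hcop : ¬ p ∣ Nat.card H) (hn : 3 ≤ finrank (ZMod p) V)
    (hdiv : p ^ finrank (ZMod p) V - 1 ∣ Nat.card H)
    (hex : ¬ ((finrank (ZMod p) V = 6 ∧ (p = 2 ∨ p = 3 ∨ p = 5 ∨ p = 17)) ∨ (p = 3 ∧ finrank (ZMod p) V = 4))) :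
    ∃ s, s.Prime ∧ orderOf (p : ZMod s) = finrank (ZMod p) V ∧ ∃ X : Subgroup H, X.Normal ∧ Nat.card X = s := by
  classical
  set n := finrank (ZMod p) V with hnd
  have hgood : (∃ s, s.Prime ∧ s ∣ p ^ n - 1 ∧ (∀ i, 0 < i → i < n → ¬ s ∣ p ^ i - 1) ∧
      (2 * n + 1 < s ∨ s ^ 2 ∣ p ^ n - 1)) →
      ∃ s, s.Prime ∧ orderOf (p : ZMod s) = n ∧ ∃ X : Subgroup H, X.Normal ∧ Nat.card X = s := by
    rintro ⟨s, hs, hsd, hmin, hor⟩
    haveI := Fact.mk hs
    have hord : orderOf (p : ZMod s) = n := orderOf_eq_of_ppd hp.out.pos (by omega) hsd hmin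
    refine ⟨s, hs, hord, ?_⟩
    by_contra hno
    push Not at hno
    obtain ⟨hsq, -, m, hm, -, -, hb⟩ := nonnormal_bound hinj hcop hord (hsd.trans hdiv) hno
    rcases hor with h | h
    · omega
    · exact hsq (h.trans hdiv)
  rcases (by have := hp.out.two_le; omega : p = 2 ∨ p = 3 ∨ p = 5 ∨ p = 4 ∨ p = 6 ∨ 7 ≤ p) with
    h | h | h | h | h | hp7
  · obtain ⟨s, hs, hsd, hmin⟩ := Cfsg.Agent.S2904.result p n (by omega) (by omega)
      (fun e => hex (Or.inl ⟨e.2, Or.inl h⟩)) (fun e => by omega)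
    haveI := Fact.mk hs
    have hord : orderOf (p : ZMod s) = n := orderOf_eq_of_ppd hp.out.pos (by omega) hsd hmin
    exact ⟨s, hs, hord, normal_of_two hinj hcop h hord (hsd.trans hdiv)⟩
  · rcases ppd_three_five (p := p) (n := n) (Or.inl h) hn with h' | ⟨-, h' | h' | h'⟩ | ⟨h', -⟩
    · exact hgood h'
    · exact absurd (Or.inr ⟨h, h'⟩) hex
    · exact absurd (Or.inl ⟨h', Or.inr (Or.inl h)⟩) hex
    · haveI : Fact (Nat.Prime 37) := ⟨by norm_num⟩
      have hord : orderOf (p : ZMod 37) = n := by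
        rw [h, h']
        exact orderOf_eq_of_ppd (by norm_num) (by norm_num) (by norm_num)
          (fun i hi hin => by revert hi; revert i; decide +kernel)
      refine ⟨37, by norm_num, hord, normal_of_double hinj hcop (by omega) (by norm_num) (by omega) hord ?_⟩
      exact (show 37 ∣ p ^ n - 1 by rw [h, h']; norm_num).trans hdiv
    · omega
  · rcases ppd_three_five (p := p) (n := n) (Or.inr h) hn with h' | ⟨h', -⟩ | ⟨-, h'⟩
    · exact hgood h'
    · omega
    · exact absurd (Or.inl ⟨h', Or.inr (Or.inr (Or.inl h))⟩) hex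
  · exact absurd hp.out (h ▸ by norm_num)
  · exact absurd hp.out (h ▸ by norm_num)
  · rcases ppd_large_or_sq hp.out hp7 hn with h' | ⟨h', h''⟩
    · exact hgood h'
    · exact absurd (Or.inl ⟨h'', Or.inr (Or.inr (Or.inr h'))⟩) hex

end Cfsg.Lib.Blocks.CoprimeTransitive
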