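import Cfsg.Agent.Blocks.CoprimeTransitive.SemiLinear

/-!
# Coprime groups in two dimensions
-/

set_option autoImplicit false
set_option linter.unusedSectionVars false
set_option linter.style.haveILetI false

namespace Cfsg.Lib.Blocks.CoprimeTransitive

open Subgroup Module

universe u v

/-- In a cyclic group an element of prime order generates every element of that order. -/
theorem cyclic_prime_unique {G : Type*} [Group G] [Finite G] {A : Subgroup G} [IsCyclic A] {s : ℕ} {y u : G}
    (hy : y ∈ A) (hu : u ∈ A) (hys : orderOf y = s) (hus : orderOf u = s) : u ∈ zpowers y := by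
  rw [Cfsg.Lib.SolvStruct.CyclicProduct.eq_of_card_eq_of_isCyclic (A := A) (zpowers_le.2 hy) (zpowers_le.2 hu)
    (by rw [Nat.card_zpowers, Nat.card_zpowers, hys, hus])]
  exact mem_zpowers u

/-- An element of prime order with cyclic centraliser generates a unique subgroup of its order. -/
theorem plane_unique {C : Type*} [Group C] [Finite C] (hA : AbelianCentralisers C) {s : ℕ} (hs : s.Prime)
    (hs2 : s ≠ 2) {y : C} (hy : orderOf y = s) (hcyc : IsCyclic (centralizer ({y} : Set C)))
    (h3 : ¬ 3 ∣ Nat.card C ∨ 5 < s) : ∀ u : C, orderOf u = s → u ∈ zpowers y := by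
  classical
  intro u hu
  have hyC : y ∈ centralizer ({y} : Set C) := mem_centralizer_singleton_iff.2 rfl
  by_cases hyc : y ∈ center C
  · exact cyclic_prime_unique hyC (mem_centralizer_singleton_iff.2 (mem_center_iff.1 hyc u)) hy hu
  rcases two_dim_shape hA (fun h => hyc (h ▸ mem_top y)) with ⟨-, x, hx, hxc⟩ | ⟨h, h5⟩
  · set A := centralizer ({x} : Set C)
    have hidx : A.index = 2 := by
      have := A.index_mul_card
      rw [← hxc] at this
      exact Nat.eq_of_mul_eq_mul_right Nat.card_pos this
    haveI : A.Normal := normal_of_index_eq_two hidx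
    have hodd : ∀ w : C, orderOf w = s → w ∈ A := fun w hw => by
      have h2 : w ^ 2 ∈ A := sq_mem_of_index_two hidx w
      obtain ⟨e, he⟩ : ∃ e, s = 2 * e + 1 := hs.odd_of_ne_two hs2
      have h1 : w = ((w ^ 2) ^ e)⁻¹ := eq_inv_of_mul_eq_one_left (by
        rw [← pow_mul, ← pow_succ', ← he, ← hw, pow_orderOf_eq_one])
      rw [h1]
      exact inv_mem (pow_mem h2 e)
    have hyA := hodd y hy
    rw [centralizer_eq_of_mem hA hx hyc hyA] at hcyc
    haveI := hcyc
    exact cyclic_prime_unique hyA (hodd u hu) hy hu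
  · exfalso
    have hdiv3 : 3 ∣ Nat.card C := by
      rcases h with ⟨h, -⟩ | ⟨h, -⟩ | ⟨h, -⟩ <;> rw [h] <;> exact Dvd.dvd.mul_right (by norm_num) _
    have hs5 : 5 < s := h3.resolve_left (not_not.2 hdiv3)
    have hle := h5 y hyc
    obtain ⟨a, ha⟩ := Subgroup.card_dvd_of_le (center_le_centralizer ({y} : Set C))
    have ha5 : a ≤ 5 := Nat.le_of_mul_le_mul_left (by rw [← ha, mul_comm]; exact hle) (Nat.card_pos (α := center C))
    have hsd : s ∣ Nat.card ↥(centralizer ({y} : Set C)) := by
      rw [← hy, ← Subgroup.orderOf_mk (a := y) (ha := hyC)]; exact orderOf_dvd_natCard _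
    rw [ha] at hsd
    have hsz : s ∣ Nat.card (center C) := (hs.dvd_mul.1 hsd).resolve_right fun hd => by
      rcases Nat.eq_zero_or_pos a with rfl | h0
      · rw [mul_zero] at ha; exact Nat.card_pos.ne' ha
      · have := Nat.le_of_dvd h0 hd; omega
    haveI := Fact.mk hs
    obtain ⟨c, hc⟩ := exists_prime_orderOf_dvd_card' s hsz
    have hc' : orderOf (c : C) = s := by rw [Subgroup.orderOf_coe, hc]
    haveI := hcyc
    have := cyclic_prime_unique (mem_centralizer_singleton_iff.2 (mem_center_iff.1 c.2 y).symm) hyC hc' hy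
    exact hyc ((zpowers_le.2 c.2) this)

variable {p : ℕ} [hp : Fact p.Prime] {V : Type v} [AddCommGroup V] [Module (ZMod p) V] [Finite V]
  {H : Type u} [Group H] [Finite H] {ρ : H →* Module.End (ZMod p) V}

theorem commutative_of_center_top (h : center H = ⊤) (a b : H) : a * b = b * a :=
  (mem_center_iff.1 (h ▸ mem_top a) b).symm

/-- The bound in two dimensions. -/
theorem plane_bound [Nontrivial V] (hinj : Function.Injective ρ) (hcop : ¬ p ∣ Nat.card H)
    (htrans : ∀ v w : V, v ≠ 0 → w ≠ 0 → ∃ h, ρ h v = w) (h2 : finrank (ZMod p) V = 2) {w : V} (hw : w ≠ 0) :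
    Nat.card (ConjClasses H) + Nat.card (stab ρ w) ≤ p ^ 2 ∧
      (Nat.card (ConjClasses H) + Nat.card (stab ρ w) = p ^ 2 →
        IsCyclic H ∨ (p = 3 ∧ Nat.card H = 16)) := by
  classical
  haveI := Fintype.ofFinite H
  have hA : AbelianCentralisers H :=
    abelianCentralisers_field hinj (fun h => hcop ((ZMod.natCast_eq_zero_iff _ _).1 h)) h2
  have hN : Nat.card H = (p ^ 2 - 1) * Nat.card (stab ρ w) := by rw [card_eq_mul_stab htrans hw, h2]
  have hp4 : 4 ≤ p ^ 2 := by rw [show 4 = 2 ^ 2 by norm_num]; exact Nat.pow_le_pow_left hp.out.two_le 2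
  by_cases hcen : center H = ⊤
  · have hc := commutative_of_center_top hcen
    have hc' : ∀ a ∈ (⊤ : Subgroup H), ∀ b ∈ (⊤ : Subgroup H), a * b = b * a := fun a _ b _ => hc a b
    have hS : Nat.card (stab ρ w) = 1 := Subgroup.card_eq_one.2 (Subgroup.eq_bot_iff_forall _ |>.2 fun s hs =>
      normal_abelian_free hinj htrans ⊤ hc' (mem_top s) hw hs)
    rw [hS, mul_one] at hN
    haveI := normal_abelian_cyclic hinj htrans ⊤ hc'
    refine ⟨by rw [card_classes_of_comm hc, hS, hN]; omega, fun _ => Or.inl ?_⟩
    exact isCyclic_of_surjective (⊤ : Subgroup H).subtype fun y => ⟨⟨y, mem_top y⟩, rfl⟩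
  obtain ⟨x₀, hx₀⟩ : ∃ x, x ∉ center H := by
    by_contra h
    push Not at h
    exact hcen (eq_top_iff.2 fun x _ => h x)
  set z := Nat.card (center H) with hz
  -- the centre consists of scalars
  have hlin : ∀ x : H, x ∉ center H → ∀ S : Module.End (ZMod p) V, S * ρ x = ρ x * S →
      ∃ a b : ZMod p, S = a • 1 + b • ρ x := by
    intro x hx S hS
    have hns : ¬ ∃ c : ZMod p, ρ x = c • 1 := by
      rintro ⟨c, hc⟩
      refine hx (mem_center_iff.2 fun g => hinj ?_)
      rw [map_mul, map_mul, hc, mul_smul_comm, smul_mul_assoc, mul_one, one_mul]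
    obtain ⟨v, -, hspan⟩ := exists_basis_two h2 (ρ x) hns
    obtain ⟨a, b, hab⟩ := hspan (S v)
    refine ⟨a, b, LinearMap.ext fun u => ?_⟩
    obtain ⟨c, d, rfl⟩ := hspan u
    have hS' : S (ρ x v) = ρ x (S v) := LinearMap.congr_fun hS v
    simp only [map_add, map_smul, LinearMap.add_apply, LinearMap.smul_apply, Module.End.one_apply, hS', ← hab]
  have hcomm : ∀ x : H, ∀ y ∈ centralizer ({x} : Set H), ρ y * ρ x = ρ x * ρ y := fun x y hy => by
    rw [← map_mul, ← map_mul, mem_centralizer_singleton_iff.1 hy]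
  have hscal : ∀ c ∈ center H, ∃ a : ZMod p, a ≠ 0 ∧ ρ c = a • 1 := by
    intro c hc
    obtain ⟨a, b, hab⟩ := hlin x₀ hx₀ (ρ c) (by rw [← map_mul, ← map_mul, mem_center_iff.1 hc x₀])
    have hb : b = 0 := by
      by_contra hb
      refine hx₀ (mem_center_iff.2 fun g => hinj ?_)
      have hT : ρ x₀ = b⁻¹ • (ρ c - a • 1) := by rw [hab, add_sub_cancel_left, smul_smul, inv_mul_cancel₀ hb, one_smul]
      rw [map_mul, map_mul, hT, mul_smul_comm, smul_mul_assoc, mul_sub, sub_mul, mul_smul_comm, smul_mul_assoc,
        mul_one, one_mul, ← map_mul, ← map_mul, mem_center_iff.1 hc g]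
    rw [hb, zero_smul, add_zero] at hab
    refine ⟨a, fun ha => ?_, hab⟩
    obtain ⟨u, hu⟩ := exists_ne (0 : V)
    exact rho_ne_zero (ρ := ρ) c hu (by rw [hab, ha, zero_smul, LinearMap.zero_apply])
  choose! sc hsc0 hsc using hscal
  have hzp : z + 1 ≤ p := by
    have h1 := Nat.card_le_card_of_injective (fun c : center H => (⟨sc c, hsc0 c c.2⟩ : {a : ZMod p // a ≠ 0}))
      (fun c d e => by
        have e' : sc c = sc d := congrArg Subtype.val e
        exact Subtype.ext (hinj (by rw [hsc c c.2, hsc d d.2, e'])))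
    have h2' : Nat.card {a : ZMod p // a ≠ 0} + 1 = p := by
      rw [← Finite.card_option, Nat.card_congr (Equiv.optionSubtypeNe (0 : ZMod p)), Nat.card_zmod]
    rw [hz]
    omega
  have hCle : ∀ x : H, x ∉ center H → Nat.card ↥(centralizer ({x} : Set H)) ≤ p ^ 2 - 1 := by
    intro x hx
    have hex : ∀ y : ↥(centralizer ({x} : Set H)), ∃ ab : {ab : ZMod p × ZMod p // ab ≠ 0},
        ρ y = ab.1.1 • 1 + ab.1.2 • ρ x := fun y => by
      obtain ⟨a, b, hab⟩ := hlin x hx _ (hcomm x y y.2)
      refine ⟨⟨(a, b), fun e => ?_⟩, hab⟩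
      rw [Prod.mk_eq_zero] at e
      obtain ⟨u, hu⟩ := exists_ne (0 : V)
      exact rho_ne_zero (ρ := ρ) (y : H) hu (by rw [hab, e.1, e.2]; simp)
    choose f hf using hex
    refine (Nat.card_le_card_of_injective f fun y y' e => Subtype.ext (hinj (by rw [hf, hf, e]))).trans ?_
    have h1 : Nat.card {ab : ZMod p × ZMod p // ab ≠ 0} + 1 = p ^ 2 := by
      rw [← Finite.card_option, Nat.card_congr (Equiv.optionSubtypeNe (0 : ZMod p × ZMod p)), Nat.card_prod,
        Nat.card_zmod, pow_two]
    omega
  -- the stabiliser is abelian and avoids the centre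
  set S := stab ρ w with hS
  have hSab : ∀ s ∈ S, ∀ t ∈ S, s * t = t * s := by
    obtain ⟨u, hu⟩ : ∃ u, LinearIndependent (ZMod p) ![w, u] :=
      exists_linearIndependent_pair_of_one_lt_finrank (by omega) hw
    have hsp : ∀ v : V, ∃ a b : ZMod p, a • w + b • u = v := fun v => by
      have hspan := hu.span_eq_top_of_card_eq_finrank (by rw [Fintype.card_fin, h2])
      have hv : v ∈ Submodule.span (ZMod p) (Set.range ![w, u]) := hspan ▸ Submodule.mem_top
      rw [Matrix.range_cons_cons_empty] at hv
      exact Submodule.mem_span_pair.1 hv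
    choose a b hab using hsp
    have hb : ∀ (s t : H), s ∈ S → t ∈ S → b (ρ (s * t) u) = b (ρ s u) * b (ρ t u) := by
      intro s t hs ht
      have e : ρ (s * t) u = (a (ρ t u) + b (ρ t u) * a (ρ s u)) • w + (b (ρ t u) * b (ρ s u)) • u := by
        rw [map_mul, Module.End.mul_apply]
        conv_lhs => rw [← hab (ρ t u), map_add, map_smul, map_smul, mem_stab.1 hs, ← hab (ρ s u)]
        module
      have h0 := sub_eq_zero.2 ((hab (ρ (s * t) u)).trans e)
      have := (LinearIndependent.pair_iff.1 hu _ _ (by rw [← h0]; module :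
        (a (ρ (s * t) u) - (a (ρ t u) + b (ρ t u) * a (ρ s u))) • w +
          (b (ρ (s * t) u) - b (ρ t u) * b (ρ s u)) • u = 0)).2
      rw [sub_eq_zero.1 this, mul_comm]
    have hker : ∀ e ∈ S, b (ρ e u) = 1 → e = 1 := by
      intro e he hbe
      set c := a (ρ e u)
      have heu : ρ e u = c • w + u := by rw [← hab (ρ e u), hbe, one_smul]
      have hpow : ∀ j : ℕ, ρ (e ^ j) u = ((j : ZMod p) * c) • w + u := fun j => by
        induction j with
        | zero => simp
        | succ j ih =>
          rw [pow_succ, map_mul, Module.End.mul_apply, heu, map_add, map_smul, mem_stab.1 (pow_mem he j), ih]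
          push_cast
          module
      have h1 := hpow (Nat.card H)
      rw [pow_card_eq_one', map_one, Module.End.one_apply] at h1
      have h2' : ((Nat.card H : ZMod p) * c) • w = 0 := by
        rwa [eq_comm, add_eq_right] at h1
      have hc : c = 0 := by
        rcases smul_eq_zero.1 h2' with h | h
        · exact (mul_eq_zero.1 h).resolve_left fun h' => hcop ((ZMod.natCast_eq_zero_iff _ _).1 h')
        · exact absurd h hw
      refine hinj (LinearMap.ext fun v => ?_)
      rw [← hab v, map_add, map_smul, map_smul, mem_stab.1 he, heu, hc, zero_smul, zero_add, map_one, Module.End.one_apply]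
    intro s hs t ht
    have hu' : s * t * (t * s)⁻¹ ∈ S := mul_mem (mul_mem hs ht) (inv_mem (mul_mem ht hs))
    have h1 := hb _ _ hu' (mul_mem ht hs)
    rw [inv_mul_cancel_right, hb s t hs ht, hb t s ht hs, mul_comm (b (ρ t u))] at h1
    have hne : b (ρ s u) * b (ρ t u) ≠ 0 := by
      refine mul_ne_zero ?_ ?_ <;> intro h0
      · have := hb s s⁻¹ hs (inv_mem hs)
        rw [h0, zero_mul, mul_inv_cancel, map_one, Module.End.one_apply] at this
        have e := hab u
        rw [this, zero_smul, add_zero] at e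
        exact absurd (LinearIndependent.pair_iff.1 hu (a u) (-1) (by rw [e, neg_smul, one_smul, add_neg_cancel])).2
          (neg_ne_zero.2 one_ne_zero)
      · have := hb t t⁻¹ ht (inv_mem ht)
        rw [h0, zero_mul, mul_inv_cancel, map_one, Module.End.one_apply] at this
        have e := hab u
        rw [this, zero_smul, add_zero] at e
        exact absurd (LinearIndependent.pair_iff.1 hu (a u) (-1) (by rw [e, neg_smul, one_smul, add_neg_cancel])).2
          (neg_ne_zero.2 one_ne_zero)
    have := hker _ hu' (mul_eq_right₀ hne |>.1 h1.symm)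
    exact mul_inv_eq_one.1 this
  have hSZ : ∀ s ∈ S, s ∈ center H → s = 1 := fun s hs hc =>
    normal_abelian_free hinj htrans (center H) (fun a ha b _ => (mem_center_iff.1 ha b).symm) hc hw (mem_stab.1 hs)
  have hSC : S = ⊥ ∨ ∃ x, x ∉ center H ∧ Nat.card S * z ≤ Nat.card ↥(centralizer ({x} : Set H)) := by
    by_cases hb : S = ⊥
    · exact Or.inl hb
    obtain ⟨x, hx, hx1⟩ := S.bot_or_exists_ne_one.resolve_left hb
    refine Or.inr ⟨x, fun hc => hx1 (hSZ x hx hc), ?_⟩
    rw [hz, ← Nat.card_prod]
    refine Nat.card_le_card_of_injective (fun q : S × center H => (⟨(q.1 : H) * q.2, mul_mem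
      (mem_centralizer_singleton_iff.2 (hSab _ q.1.2 _ hx)) (center_le_centralizer _ q.2.2)⟩ :
        ↥(centralizer ({x} : Set H)))) fun q q' e => ?_
    have e' : (q.1 : H) * q.2 = (q'.1 : H) * q'.2 := congrArg Subtype.val e
    have h1 : ((q'.1 : H))⁻¹ * q.1 = (q'.2 : H) * (q.2 : H)⁻¹ := by
      rw [inv_mul_eq_iff_eq_mul, ← mul_assoc, ← e', mul_inv_cancel_right]
    have h2' := hSZ _ (mul_mem (inv_mem q'.1.2) q.1.2) (h1 ▸ mul_mem q'.2.2 (inv_mem q.2.2))
    have e1 : (q'.1 : H) = q.1 := inv_mul_eq_one.1 h2'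
    rw [e1] at e'
    exact Prod.ext (Subtype.ext e1.symm) (Subtype.ext (mul_left_cancel e'))
  set h := Nat.card S
  set k := Nat.card (ConjClasses H)
  have hh0 : 0 < h := Nat.card_pos
  have hz0 : 0 < z := Nat.card_pos
  rcases two_dim_shape hA hcen with ⟨-, x, hx, hxc⟩ | ⟨hshape, h5⟩
  · have hhle : h ≤ 2 := by
      have h1 := hCle x hx
      rw [hN] at hxc
      have : (p ^ 2 - 1) * h ≤ (p ^ 2 - 1) * 2 := by rw [← hxc]; omega
      exact Nat.le_of_mul_le_mul_left this (by omega)
    -- the classes
    set A := centralizer ({x} : Set H) with hAdef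
    have hidx : A.index = 2 := by
      have := A.index_mul_card
      rw [← hxc] at this
      exact Nat.eq_of_mul_eq_mul_right Nat.card_pos this
    have hk : 4 * k ≤ Nat.card H + 6 * z := by
      have hsum : ∑ g : H, Nat.card (centralizer ({g} : Set H)) = k * Nat.card H := by
        haveI := Fintype.ofFinite (ConjClasses H)
        rw [← card_comm_eq_card_conjClasses_mul_card, ← Nat.card_sigma]
        exact Nat.card_congr
          { toFun := fun s => ⟨(s.1, s.2.1), (mem_centralizer_singleton_iff.1 s.2.2).symm⟩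
            invFun := fun q => ⟨q.1.1, q.1.2, mem_centralizer_singleton_iff.2 q.2.symm⟩
            left_inv := fun s => rfl
            right_inv := fun q => rfl }
      have hZA : center H ≤ A := center_le_centralizer _
      have hout : ∀ g : H, g ∉ A → Nat.card (centralizer ({g} : Set H)) ≤ 2 * z := by
        intro g hg
        have hgZ : g ∉ center H := fun h' => hg (hZA h')
        have hle : A ⊓ centralizer ({g} : Set H) ≤ center H := by
          rintro y ⟨hyA, hyg⟩
          by_contra hyZ
          refine hg ?_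
          rw [hAdef, ← centralizer_eq_of_mem hA hx hyZ hyA]
          exact mem_centralizer_singleton_iff.2 (mem_centralizer_singleton_iff.1 hyg).symm
        have h1 := Subgroup.relIndex_mul_relIndex ⊥ (A ⊓ centralizer ({g} : Set H)) (centralizer ({g} : Set H))
          bot_le inf_le_right
        rw [Subgroup.relIndex_bot_left, Subgroup.relIndex_bot_left, Subgroup.inf_relIndex_right] at h1
        rw [← h1, mul_comm 2]
        refine Nat.mul_le_mul (Subgroup.card_le_of_le hle) ?_
        rw [← hidx, ← Subgroup.relIndex_top_right A]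
        exact Subgroup.relIndex_le_of_le_right le_top (by rw [Subgroup.relIndex_top_right]; exact Subgroup.index_ne_zero_of_finite)
      have hin : ∀ g : H, g ∈ A → g ∉ center H → Nat.card (centralizer ({g} : Set H)) = Nat.card A := fun g hg hgZ => by
        rw [centralizer_eq_of_mem hA hx hgZ hg]
      have hcen' : ∀ g : H, g ∈ center H → Nat.card (centralizer ({g} : Set H)) = Nat.card H := fun g hg => by
        rw [show centralizer ({g} : Set H) = ⊤ from top_unique fun y _ => mem_centralizer_singleton_iff.2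
          (mem_center_iff.1 hg y), Subgroup.card_top]
      have hpart : ∑ g : H, Nat.card (centralizer ({g} : Set H)) + 0 ≤
          z * Nat.card H + (Nat.card A - z) * Nat.card A + Nat.card A * (2 * z) := by
        have c1 : (Finset.univ.filter fun g : H => g ∈ center H).card = z := by
          rw [hz, Nat.card_eq_fintype_card, Fintype.card_subtype]
        have c2 : (Finset.univ.filter fun g : H => g ∈ A).card = Nat.card A := by
          rw [Nat.card_eq_fintype_card, Fintype.card_subtype]
        have c3 : (Finset.univ.filter fun g : H => g ∉ A).card = Nat.card A := by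
          have := Finset.card_filter_add_card_filter_not (s := (Finset.univ : Finset H)) (fun g => g ∈ A)
          rw [c2, Finset.card_univ, ← Nat.card_eq_fintype_card, ← hxc] at this
          omega
        rw [add_zero, ← Finset.sum_filter_add_sum_filter_not Finset.univ (fun g => g ∈ A)]
        refine Nat.add_le_add ?_ ((Finset.sum_le_card_nsmul _ _ (2 * z) fun g hg => hout g (Finset.mem_filter.1 hg).2).trans_eq
          (by rw [c3, smul_eq_mul]))
        rw [← Finset.sum_filter_add_sum_filter_not (Finset.univ.filter fun g : H => g ∈ A) (fun g => g ∈ center H),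
          Finset.filter_filter, Finset.filter_filter]
        refine le_of_eq (congrArg₂ (· + ·) ?_ ?_)
        · rw [show (Finset.univ.filter fun g : H => g ∈ A ∧ g ∈ center H) = Finset.univ.filter fun g => g ∈ center H from
            Finset.filter_congr fun g _ => ⟨fun h' => h'.2, fun h' => ⟨hZA h', h'⟩⟩,
            Finset.sum_congr rfl fun g hg => hcen' g (Finset.mem_filter.1 hg).2, Finset.sum_const, c1, smul_eq_mul]
        · rw [Finset.sum_congr rfl fun g hg => hin g (Finset.mem_filter.1 hg).2.1 (Finset.mem_filter.1 hg).2.2,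
            Finset.sum_const, smul_eq_mul]
          congr 1
          rw [← c2, ← c1, ← Finset.card_sdiff_of_subset (fun g hg => by simp at hg ⊢; exact hZA hg)]
          congr 1
          ext g; simp
      rw [hsum] at hpart
      have hzA : z ≤ Nat.card A := Subgroup.card_le_of_le hZA
      obtain ⟨m, hm⟩ := Nat.exists_eq_add_of_le hzA
      rw [← hxc, hm, Nat.add_sub_cancel_left] at hpart
      rw [← hxc, hm]
      have hA0 : 0 < z + m := by omega
      refine Nat.le_of_mul_le_mul_left ?_ hA0
      nlinarith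
    rcases (by have := hp.out.two_le; omega : p = 2 ∨ p = 3 ∨ p = 4 ∨ 5 ≤ p) with rfl | rfl | rfl | hp5
    · exfalso
      exact hcop ⟨Nat.card A, hxc.symm⟩
    · rw [hN] at hk
      refine ⟨by norm_num at *; omega, fun e => Or.inr ⟨rfl, ?_⟩⟩
      norm_num at *
      omega
    · exact absurd hp.out (by norm_num)
    · rw [hN] at hk
      have hsq : 5 * p ≤ p ^ 2 := by rw [pow_two]; exact Nat.mul_le_mul_right p hp5
      have hh2 : (p ^ 2 - 1) * h ≤ (p ^ 2 - 1) * 2 := Nat.mul_le_mul_left _ hhle
      refine ⟨by omega, fun e => by omega⟩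
  · have hh5 : h ≤ 5 := by
      rcases hSC with hb | ⟨x, hx, hle⟩
      · have : h = 1 := Subgroup.card_eq_one.2 hb
        omega
      · exact Nat.le_of_mul_le_mul_right (hle.trans (h5 x hx)) hz0
    have hk : 2 * k ≤ 9 * z := by rcases hshape with h' | h' | h' <;> omega
    have h3 : 3 ∣ Nat.card H := by
      rcases hshape with ⟨h', -⟩ | ⟨h', -⟩ | ⟨h', -⟩ <;> rw [h'] <;> exact Dvd.dvd.mul_right (by norm_num) _
    have h2d : 2 ∣ Nat.card H := by
      rcases hshape with ⟨h', -⟩ | ⟨h', -⟩ | ⟨h', -⟩ <;> rw [h'] <;> exact Dvd.dvd.mul_right (by norm_num) _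
    have hp5 : 5 ≤ p := by
      rcases (by have := hp.out.two_le; omega : p = 2 ∨ p = 3 ∨ p = 4 ∨ 5 ≤ p) with rfl | rfl | rfl | h'
      · exact absurd h2d hcop
      · exact absurd h3 hcop
      · exact absurd hp.out (by norm_num)
      · exact h'
    have hsq : 5 * p ≤ p ^ 2 := by rw [pow_two]; exact Nat.mul_le_mul_right p hp5
    refine ⟨by omega, fun e => by omega⟩

end Cfsg.Lib.Blocks.CoprimeTransitive
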