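import Cfsg.Agent.Blocks.CoprimeTransitive.Setting
import Cfsg.Agent.OneClass.Count
import Cfsg.Agent.PairSylow.Local

/-!
# Passing to the quotient by the largest normal subgroup of order prime to `p`
-/

set_option autoImplicit false
set_option linter.unusedSectionVars false
set_option linter.style.haveILetI false

namespace Cfsg.Lib.Blocks.CoprimeTransitive

open Subgroup
open Cfsg

universe u

variable {p : ℕ} [hp : Fact p.Prime] {G : Type u} [Group G] [Finite G]

/-- The setting in the quotient. -/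
theorem exists_setting (hsolv : IsPSolvable p G) (hdiv : p ∣ Nat.card G)
    (hc : ∀ x y : G, x ≠ 1 → y ≠ 1 → (∃ k : ℕ, orderOf x = p ^ k) → (∃ k : ℕ, orderOf y = p ^ k) → IsConj x y)
    [(pPrimeCore p G).Normal] :
    ∃ Q K : Subgroup (G ⧸ pPrimeCore p G), TransSetting p Q K := by
  classical
  haveI := Fintype.ofFinite G
  set π := QuotientGroup.mk' (pPrimeCore p G) with hπ
  obtain ⟨S⟩ : Nonempty (Sylow p G) := inferInstance
  obtain ⟨hScomm, hSexp⟩ := Cfsg.Lib.OneClass.elementary_of_pSolvable_conj hsolv hc S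
  have hcopN : ¬ p ∣ Nat.card (pPrimeCore p G) :=
    hp.out.coprime_iff_not_dvd.1 (Components.coprime_card_pPrimeCore p).symm
  have hπinj : ∀ s ∈ (S : Subgroup G), π s = 1 → s = 1 := by
    intro s hs h
    by_contra hs1
    have hsN : s ∈ pPrimeCore p G := (QuotientGroup.eq_one_iff s).1 h
    refine hcopN ?_
    have ho : orderOf s = p := orderOf_eq_prime (hSexp s hs) hs1
    have := orderOf_dvd_natCard (⟨s, hsN⟩ : pPrimeCore p G)
    rwa [Subgroup.orderOf_mk, ho] at this
  set X := G ⧸ pPrimeCore p G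
  have hpX : p ∣ Nat.card X := by
    rw [Subgroup.card_eq_card_quotient_mul_card_subgroup (pPrimeCore p G)] at hdiv
    exact (hp.out.dvd_mul.1 hdiv).resolve_right hcopN
  haveI : Nontrivial X :=
    Finite.one_lt_card_iff_nontrivial.1 (lt_of_lt_of_le hp.out.one_lt (Nat.le_of_dvd Nat.card_pos hpX))
  set Q := pCore p X with hQdef
  haveI hQn : Q.Normal := Components.pCore_normal' p
  have hsolX : IsPSolvable p X := GaschutzYen.isPSolvable_quotient _ hsolv
  have hQ : Q ≠ ⊥ :=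
    (GaschutzYen.exists_core_ne_bot hsolX).resolve_right fun h => h Components.pPrimeCore_quotient_eq_bot
  have hT : ((S.mapSurjective (QuotientGroup.mk'_surjective (pPrimeCore p G)) : Sylow p _) :
      Subgroup X) = (S : Subgroup G).map π := rfl
  set T := S.mapSurjective (QuotientGroup.mk'_surjective (pPrimeCore p G))
  have hQT : Q ≤ (S : Subgroup G).map π := by
    have hsup : IsPGroup p ↥((T : Subgroup X) ⊔ Q) := T.2.to_sup_of_normal_right (Components.isPGroup_pCore p)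
    rw [← hT, ← T.3 hsup le_sup_left]
    exact le_sup_right
  obtain ⟨q₀, hq₀, hq₀1⟩ := Q.bot_or_exists_ne_one.resolve_left hQ
  obtain ⟨s₀, hs₀, rfl⟩ := hQT hq₀
  have hTQ : (S : Subgroup G).map π ≤ Q := by
    rintro _ ⟨s, hs, rfl⟩
    by_cases hs1 : s = 1
    · rw [hs1, map_one]; exact one_mem _
    obtain ⟨g, hg⟩ := isConj_iff.1 (hc s₀ s (fun e => hq₀1 (by rw [e, map_one])) hs1
      (Cfsg.Lib.OneClass.pel_of_mem S.2 hs₀) (Cfsg.Lib.OneClass.pel_of_mem S.2 hs))
    rw [← hg, map_mul, map_mul, map_inv]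
    exact hQn.conj_mem _ hq₀ _
  have hQeq : (T : Subgroup X) = Q := by rw [hT]; exact le_antisymm hTQ hQT
  have hidx : ¬ p ∣ Q.index := hQeq ▸ T.not_dvd_index
  have hcop : (Nat.card Q).Coprime Q.index := by
    obtain ⟨m, hm⟩ := IsPGroup.iff_card.1 (hQeq ▸ T.2 : IsPGroup p Q)
    rw [hm]
    exact Nat.Coprime.pow_left _ (hp.out.coprime_iff_not_dvd.2 hidx)
  obtain ⟨K, hK⟩ := Subgroup.exists_right_complement'_of_coprime hcop
  have hcomm : ∀ a ∈ Q, ∀ b ∈ Q, a * b = b * a := by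
    intro a ha b hb
    obtain ⟨a, ha', rfl⟩ := hQT ha
    obtain ⟨b, hb', rfl⟩ := hQT hb
    rw [← map_mul, ← map_mul]
    exact congrArg π (congrArg Subtype.val (hScomm.is_comm.comm ⟨a, ha'⟩ ⟨b, hb'⟩))
  refine ⟨Q, K, hQn, hcomm, fun a ha => ?_, ?_, ?_, hK, ?_, hQ⟩
  · obtain ⟨a, ha', rfl⟩ := hQT ha
    rw [← map_pow, hSexp a ha', map_one]
  · intro h
    exact hidx (by rw [hK.symm.index_eq_card]; exact h)
  · exact Cfsg.Lib.PairSylow.centralizer_pCore_quotient hsolv
  · intro v hv w hw hv1 hw1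
    obtain ⟨a, ha, rfl⟩ := hQT hv
    obtain ⟨b, hb, rfl⟩ := hQT hw
    obtain ⟨g, hg⟩ := isConj_iff.1 (hc a b (fun e => hv1 (by rw [e, map_one])) (fun e => hw1 (by rw [e, map_one]))
      (Cfsg.Lib.OneClass.pel_of_mem S.2 ha) (Cfsg.Lib.OneClass.pel_of_mem S.2 hb))
    obtain ⟨⟨⟨q, hq⟩, ⟨k, hk⟩⟩, hqk⟩ := hK.2 (π g)
    have hqk' : q * k = π g := hqk
    refine ⟨k, hk, ?_⟩
    have hb' : π g * π a * (π g)⁻¹ = π b := by rw [← hg, map_mul, map_mul, map_inv]
    rw [← hqk'] at hb'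
    have hkv : k * π a * k⁻¹ ∈ Q := hQn.conj_mem _ hv k
    rw [← hb', show q * k * π a * (q * k)⁻¹ = q * (k * π a * k⁻¹) * q⁻¹ by group, hcomm q hq _ hkv]
    group

/-- An element of order prime to `p` lifts. -/
theorem exists_regular_lift (N : Subgroup G) [N.Normal] {y : G ⧸ N} (hy : ¬ p ∣ orderOf y) :
    ∃ g : G, QuotientGroup.mk' N g = y ∧ ¬ p ∣ orderOf g := by
  obtain ⟨g, rfl⟩ := QuotientGroup.mk'_surjective N y
  set a := (orderOf g).factorization p
  have hcop : (p ^ a).Coprime (orderOf (QuotientGroup.mk' N g)) :=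
    Nat.Coprime.pow_left _ (hp.out.coprime_iff_not_dvd.2 hy)
  obtain ⟨j, hj⟩ := exists_pow_eq_self_of_coprime hcop
  refine ⟨(g ^ p ^ a) ^ j, by rw [map_pow, map_pow]; exact hj, fun h => ?_⟩
  have h1 : orderOf ((g ^ p ^ a) ^ j) ∣ orderOf g / p ^ a := by
    refine (orderOf_pow_dvd j).trans ?_
    rw [orderOf_pow_of_dvd (pow_ne_zero _ hp.out.ne_zero) (Nat.ordProj_dvd _ _)]
  exact Nat.not_dvd_ordCompl hp.out (orderOf_pos g).ne' (h.trans h1)

theorem regular_map (N : Subgroup G) [N.Normal] {g : G} (hg : ¬ p ∣ orderOf g) :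
    ¬ p ∣ orderOf (QuotientGroup.mk' N g) := fun h => hg (h.trans (orderOf_map_dvd _ g))

theorem regular_of_map (N : Subgroup G) [N.Normal] (hN : ¬ p ∣ Nat.card N) {g : G}
    (hg : ¬ p ∣ orderOf (QuotientGroup.mk' N g)) : ¬ p ∣ orderOf g := by
  intro h
  set o := orderOf (QuotientGroup.mk' N g)
  have hmem : g ^ o ∈ N := (QuotientGroup.eq_one_iff _).1 (by
    show QuotientGroup.mk' N (g ^ o) = 1
    rw [map_pow, pow_orderOf_eq_one])
  have h1 : (g ^ o) ^ Nat.card N = 1 := by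
    have := congrArg Subtype.val (pow_card_eq_one' (x := (⟨g ^ o, hmem⟩ : N)))
    rw [SubmonoidClass.coe_pow, OneMemClass.coe_one] at this
    exact this
  rw [← pow_mul] at h1
  rcases hp.out.dvd_mul.1 (h.trans (orderOf_dvd_of_pow_eq_one h1)) with h | h
  exacts [hg h, hN h]

/-- The regular classes of a quotient. -/
theorem card_regClass_quotient (N : Subgroup G) [N.Normal] (hN : ¬ p ∣ Nat.card N) :
    Nat.card (RegClass p (G ⧸ N)) ≤ Nat.card (RegClass p G) ∧
      (N ≠ ⊥ → Nat.card (RegClass p (G ⧸ N)) + 1 ≤ Nat.card (RegClass p G) ∧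
        (Nat.card (RegClass p G) ≤ Nat.card (RegClass p (G ⧸ N)) + 1 →
          (∀ a b : G, ¬ p ∣ orderOf a → ¬ p ∣ orderOf b → QuotientGroup.mk' N a ≠ 1 →
            IsConj (QuotientGroup.mk' N a) (QuotientGroup.mk' N b) → IsConj a b) ∧
          (∀ a b : G, a ∈ N → b ∈ N → a ≠ 1 → b ≠ 1 → IsConj a b))) := by
  classical
  set π := QuotientGroup.mk' N
  let f : RegClass p G → RegClass p (G ⧸ N) := fun c => ⟨ConjClasses.map π c.1, by
    obtain ⟨g, hg, hr⟩ := c.2
    exact ⟨π g, by rw [← hg]; rfl, regular_map N hr⟩⟩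
  have hf : Function.Surjective f := by
    rintro ⟨c, y, rfl, hy⟩
    obtain ⟨g, hg, hr⟩ := exists_regular_lift N hy
    exact ⟨⟨ConjClasses.mk g, g, rfl, hr⟩, Subtype.ext (congrArg ConjClasses.mk hg)⟩
  refine ⟨Nat.card_le_card_of_surjective f hf, fun hne => ?_⟩
  have hregN : ∀ a ∈ N, ¬ p ∣ orderOf a := fun a ha h => hN (h.trans (by
    rw [← Subgroup.orderOf_mk (a := a) (ha := ha)]; exact orderOf_dvd_natCard _))
  have hone : ¬ p ∣ orderOf (1 : G) := by rw [orderOf_one]; exact hp.out.not_dvd_one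
  have hone' : ¬ p ∣ orderOf (1 : G ⧸ N) := by rw [orderOf_one]; exact hp.out.not_dvd_one
  let e : RegClass p (G ⧸ N) := ⟨ConjClasses.mk 1, 1, rfl, hone'⟩
  let cN : ∀ a ∈ N, RegClass p G := fun a ha => ⟨ConjClasses.mk a, a, rfl, hregN a ha⟩
  have hfN : ∀ a ha, f (cN a ha) = e := fun a ha => Subtype.ext (congrArg ConjClasses.mk ((QuotientGroup.eq_one_iff a).2 ha))
  have hcN : ∀ a ha, cN a ha = cN 1 (one_mem N) → a = 1 := fun a ha h =>
    isConj_one_left.1 (ConjClasses.mk_eq_mk_iff_isConj.1 (congrArg Subtype.val h))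
  obtain ⟨sec, hsec⟩ := hf.hasRightInverse
  let sec' : RegClass p (G ⧸ N) → RegClass p G := fun d => if d = e then cN 1 (one_mem N) else sec d
  have hsec' : ∀ d, f (sec' d) = d := fun d => by
    show f (if d = e then cN 1 (one_mem N) else sec d) = d
    split_ifs with h
    · rw [hfN _ (one_mem N), h]
    · exact hsec d
  obtain ⟨a₀, ha₀, ha₀1⟩ := N.bot_or_exists_ne_one.resolve_left hne
  let F : Option (RegClass p (G ⧸ N)) → RegClass p G := fun o => o.elim (cN a₀ ha₀) sec'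
  have hnone : ∀ d, sec' d ≠ cN a₀ ha₀ := fun d h => by
    have he : d = e := by rw [← hsec' d, h, hfN _ ha₀]
    rw [he, show sec' e = cN 1 (one_mem N) from if_pos rfl] at h
    exact ha₀1 (hcN a₀ ha₀ h.symm)
  have hF : Function.Injective F := by
    rintro (_ | d) (_ | d') h
    · rfl
    · exact absurd h.symm (hnone d')
    · exact absurd h (hnone d)
    · exact congrArg some (by rw [← hsec' d, show sec' d = sec' d' from h, hsec'])
  have hle := Nat.card_le_card_of_injective F hF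
  rw [Finite.card_option] at hle
  refine ⟨hle, fun hge => ?_⟩
  have hsur : Function.Surjective F :=
    ((Nat.bijective_iff_injective_and_card F).2 ⟨hF, by rw [Finite.card_option]; omega⟩).2
  have hcases : ∀ c : RegClass p G, c = cN a₀ ha₀ ∨ c = sec' (f c) := fun c => by
    obtain ⟨o, ho⟩ := hsur c
    rcases o with _ | d
    · exact Or.inl ho.symm
    · refine Or.inr ?_
      have hd : sec' d = c := ho
      rw [← hd, hsec']
  refine ⟨fun a b ha hb hne1 hab => ?_, fun a b ha hb ha1 hb1 => ?_⟩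
  · have key : ∀ x : G, ∀ hx : ¬ p ∣ orderOf x, π x ≠ 1 →
        (⟨ConjClasses.mk x, x, rfl, hx⟩ : RegClass p G) = sec' ⟨ConjClasses.mk (π x), π x, rfl, regular_map N hx⟩ := by
      intro x hx hx1
      refine (hcases _).resolve_left fun h => hx1 ?_
      have := congrArg f h
      rw [hfN _ ha₀] at this
      exact isConj_one_left.1 (ConjClasses.mk_eq_mk_iff_isConj.1 (congrArg Subtype.val this))
    have hb1 : π b ≠ 1 := fun h => hne1 (isConj_one_left.1 (h ▸ hab))
    have h1 := key a ha hne1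
    have h2 := key b hb hb1
    have heq : (⟨ConjClasses.mk (π a), π a, rfl, regular_map N ha⟩ : RegClass p (G ⧸ N)) =
        ⟨ConjClasses.mk (π b), π b, rfl, regular_map N hb⟩ := Subtype.ext (ConjClasses.mk_eq_mk_iff_isConj.2 hab)
    rw [heq, ← h2] at h1
    exact ConjClasses.mk_eq_mk_iff_isConj.1 (congrArg Subtype.val h1)
  · have key : ∀ x, ∀ hx : x ∈ N, x ≠ 1 → cN x hx = cN a₀ ha₀ := fun x hx hx1 =>
      (hcases _).resolve_right fun h => hx1 (hcN x hx (by rw [h, hfN _ hx]; exact if_pos rfl))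
    exact ConjClasses.mk_eq_mk_iff_isConj.1 (congrArg Subtype.val ((key a ha ha1).trans (key b hb hb1).symm))

end Cfsg.Lib.Blocks.CoprimeTransitive
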