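import Cfsg.Agent.Blocks.CoprimeTransitive.Homogeneous
import Cfsg.Agent.Classical.SUThree.RegularVector

/-!
# The semilinear case of the class number bound

A transitive group normalising an element with irreducible minimal polynomial of full degree has at most
`|V| - |stabiliser|` classes, with the three known cases of equality.
-/

set_option autoImplicit false
set_option linter.unusedSectionVars false
set_option linter.style.haveILetI false

namespace Cfsg.Lib.Blocks.CoprimeTransitive

open Polynomial Module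

universe u v

section stab

variable {p : ℕ} [hp : Fact p.Prime] {V : Type v} [AddCommGroup V] [Module (ZMod p) V]
  {H : Type u} [Group H]

/-- The stabiliser of a vector. -/
def stab (ρ : H →* Module.End (ZMod p) V) (w : V) : Subgroup H where
  carrier := {h | ρ h w = w}
  one_mem' := by simp
  mul_mem' {a b} (ha : ρ a w = w) (hb : ρ b w = w) := by
    show ρ (a * b) w = w
    rw [map_mul, Module.End.mul_apply, hb, ha]
  inv_mem' {a} (ha : ρ a w = w) := by
    show ρ a⁻¹ w = w
    conv_lhs => rw [← ha]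
    rw [← Module.End.mul_apply, ← map_mul, inv_mul_cancel, map_one, Module.End.one_apply]

variable {ρ : H →* Module.End (ZMod p) V}

theorem mem_stab {w : V} {h : H} : h ∈ stab ρ w ↔ ρ h w = w := Iff.rfl

variable [Finite V] [Finite H]

theorem index_stab (htrans : ∀ v w : V, v ≠ 0 → w ≠ 0 → ∃ h, ρ h v = w) {w : V} (hw : w ≠ 0) :
    (stab ρ w).index = p ^ finrank (ZMod p) V - 1 := by
  rw [← card_nonzero, Subgroup.index]
  refine Nat.card_congr (Equiv.ofBijective (Quotient.lift
    (fun h : H => (⟨ρ h w, rho_ne_zero h hw⟩ : {u : V // u ≠ 0})) ?_) ⟨?_, ?_⟩)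
  · intro a b h
    have h' : ρ (a⁻¹ * b) w = w := QuotientGroup.leftRel_apply.1 h
    refine Subtype.ext ?_
    show ρ a w = ρ b w
    conv_lhs => rw [← h']
    rw [← Module.End.mul_apply, ← map_mul, mul_inv_cancel_left]
  · rintro ⟨a⟩ ⟨b⟩ h
    have h' : ρ a w = ρ b w := congrArg Subtype.val h
    refine Quotient.sound (QuotientGroup.leftRel_apply.2 ?_)
    show ρ (a⁻¹ * b) w = w
    rw [map_mul, Module.End.mul_apply, ← h', conj_mul_apply]
  · rintro ⟨u, hu⟩
    obtain ⟨h, hh⟩ := htrans w u hw hu
    exact ⟨Quotient.mk'' h, Subtype.ext hh⟩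

theorem card_eq_mul_stab (htrans : ∀ v w : V, v ≠ 0 → w ≠ 0 → ∃ h, ρ h v = w) {w : V} (hw : w ≠ 0) :
    Nat.card H = (p ^ finrank (ZMod p) V - 1) * Nat.card (stab ρ w) := by
  rw [← index_stab htrans hw, Subgroup.index_mul_card]

end stab

/-- The final inequality. -/
theorem semilinear_arith {p n k h a c r : ℕ} (hp : p.Prime) (hn : 2 ≤ n) (hpa : ¬ p ∣ a) (han : a ∣ n)
    (ha : 2 ≤ a) (hr : ∃ o, 2 ≤ o ∧ o ∣ a ∧ (r + 1) ^ o = p ^ n) (hk : k * a + r ≤ c + a * a * r)
    (hca : c * a = (p ^ n - 1) * h) (hh : h ≤ a) :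
    k + h ≤ p ^ n ∧ (k + h = p ^ n → (p ^ n = 8 ∧ c * a = 21) ∨ (p ^ n = 9 ∧ c * a = 16)) := by
  obtain ⟨o, ho, hoa, hro⟩ := hr
  set q := p ^ n with hq
  have hq1 : 1 ≤ q := Nat.one_le_pow _ _ hp.pos
  have hc : c ≤ q - 1 := Nat.le_of_mul_le_mul_right (hca.le.trans (Nat.mul_le_mul_left _ hh)) (by omega)
  have hsq : (r + 1) ^ 2 ≤ q := hro ▸ Nat.pow_le_pow_right (by omega) ho
  have hal : a ≤ n := Nat.le_of_dvd (by omega) han
  by_cases hbig : (a + 1) * (r + 1) < q
  · have h1 : a * (k + h) < a * q := by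
      have h2 : a * h ≤ a * a := Nat.mul_le_mul_left a hh
      obtain ⟨a', rfl⟩ : ∃ a', a = a' + 2 := ⟨a - 2, by omega⟩
      have h3 : (a' + 1) * ((a' + 3) * (r + 1)) < (a' + 1) * q := Nat.mul_lt_mul_of_pos_left hbig (by omega)
      have h4 : (a' + 1) * ((a' + 3) * (r + 1)) + (r + 1) = (a' + 2) * (a' + 2) * (r + 1) := by ring
      rw [show (a' + 2) * (a' + 2) * r = (a' + 2) * (a' + 2) * (r + 1) - (a' + 2) * (a' + 2) from
        Nat.eq_sub_of_add_eq (by ring)] at hk
      have h5 : (a' + 2) * (a' + 2) ≤ (a' + 2) * (a' + 2) * (r + 1) := Nat.le_mul_of_pos_right _ (by omega)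
      have h6 : (a' + 2) * q = (a' + 1) * q + q := by ring
      have h7 : (a' + 2) * (k + h) = k * (a' + 2) + (a' + 2) * h := by ring
      omega
    have := Nat.lt_of_mul_lt_mul_left h1
    exact ⟨this.le, fun e => absurd e this.ne⟩
  -- the small cases
  have hsmall : (p = 2 ∧ n = 3 ∧ a = 3) ∨ (p = 3 ∧ n = 2 ∧ a = 2) := by
    rcases (by have := hp.two_le; omega : p = 2 ∨ p = 3 ∨ 4 ≤ p) with rfl | rfl | h4
    · have ha2 : a % 2 = 1 := by omega
      rcases (by omega : n ≤ 5 ∨ 6 ≤ n) with h5 | h6
      · interval_cases n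
        · interval_cases a <;> simp_all
        · interval_cases a <;> simp_all
        · interval_cases a <;> simp_all
        · exfalso
          have : a = 5 := by interval_cases a <;> simp_all
          subst this
          have ho5 : o = 5 := by
            rcases (Nat.dvd_prime (by norm_num : Nat.Prime 5)).1 hoa with h | h <;> omega
          subst ho5
          have : r + 1 = 2 := Nat.pow_left_injective (by norm_num : 5 ≠ 0) (hro.trans hq)
          rw [this, hq] at hbig
          norm_num at hbig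
      · exfalso
        apply hbig
        have key : ∀ m, 6 ≤ m → (m + 1) ^ 2 < 2 ^ m := by
          intro m hm
          induction m, hm using Nat.le_induction with
          | base => norm_num
          | succ m hm ih =>
            rw [pow_succ 2 m]
            nlinarith
        have h2 : ((a + 1) * (r + 1)) ^ 2 < q ^ 2 := by
          rw [mul_pow, pow_two q]
          calc (a + 1) ^ 2 * (r + 1) ^ 2 < q * (r + 1) ^ 2 :=
                Nat.mul_lt_mul_of_pos_right (lt_of_le_of_lt (Nat.pow_le_pow_left (by omega) 2) (key n h6)) (by positivity)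
            _ ≤ q * q := Nat.mul_le_mul_left q hsq
        exact lt_of_pow_lt_pow_left₀ 2 (Nat.zero_le _) h2
    · rcases (by omega : n = 2 ∨ 3 ≤ n) with rfl | h3
      · exact Or.inr ⟨rfl, rfl, by omega⟩
      · exfalso
        apply hbig
        have key : ∀ m, 3 ≤ m → (m + 1) ^ 2 < 3 ^ m := by
          intro m hm
          induction m, hm using Nat.le_induction with
          | base => norm_num
          | succ m hm ih =>
            rw [pow_succ 3 m]
            nlinarith
        have h2 : ((a + 1) * (r + 1)) ^ 2 < q ^ 2 := by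
          rw [mul_pow, pow_two q]
          calc (a + 1) ^ 2 * (r + 1) ^ 2 < q * (r + 1) ^ 2 :=
                Nat.mul_lt_mul_of_pos_right (lt_of_le_of_lt (Nat.pow_le_pow_left (by omega) 2) (key n h3)) (by positivity)
            _ ≤ q * q := Nat.mul_le_mul_left q hsq
        exact lt_of_pow_lt_pow_left₀ 2 (Nat.zero_le _) h2
    · exfalso
      apply hbig
      have key : ∀ m, 2 ≤ m → (m + 1) ^ 2 < 4 ^ m := by
        intro m hm
        induction m, hm using Nat.le_induction with
        | base => norm_num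
        | succ m hm ih =>
          rw [pow_succ 4 m]
          nlinarith
      have h2 : ((a + 1) * (r + 1)) ^ 2 < q ^ 2 := by
        rw [mul_pow, pow_two q]
        calc (a + 1) ^ 2 * (r + 1) ^ 2 < q * (r + 1) ^ 2 :=
              Nat.mul_lt_mul_of_pos_right (lt_of_le_of_lt (Nat.pow_le_pow_left (by omega) 2)
                (lt_of_lt_of_le (key n hn) (Nat.pow_le_pow_left h4 n))) (by positivity)
          _ ≤ q * q := Nat.mul_le_mul_left q hsq
      exact lt_of_pow_lt_pow_left₀ 2 (Nat.zero_le _) h2
  rcases hsmall with ⟨rfl, rfl, rfl⟩ | ⟨rfl, rfl, rfl⟩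
  · have ho3 : o = 3 := by rcases (Nat.dvd_prime Nat.prime_three).1 hoa with h | h <;> omega
    subst ho3
    have hr1 : r + 1 = 2 := Nat.pow_left_injective (by norm_num : 3 ≠ 0) (hro.trans hq)
    have hq8 : q = 8 := by rw [hq]; norm_num
    rw [hq8] at hca ⊢
    refine ⟨by omega, fun e => Or.inl ⟨rfl, by omega⟩⟩
  · have ho2 : o = 2 := by have := Nat.le_of_dvd (by norm_num) hoa; omega
    subst ho2
    have hr1 : r + 1 = 3 := Nat.pow_left_injective (by norm_num : 2 ≠ 0) (hro.trans hq)
    have hq9 : q = 9 := by rw [hq]; norm_num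
    rw [hq9] at hca ⊢
    refine ⟨by omega, fun e => Or.inr ⟨rfl, by omega⟩⟩

variable {p : ℕ} [hp : Fact p.Prime] {V : Type v} [AddCommGroup V] [Module (ZMod p) V] [Finite V]
  {H : Type u} [Group H] [Finite H] {ρ : H →* Module.End (ZMod p) V}

/-- The bound when `⟨x⟩` is normal and `x` acts irreducibly. -/
theorem semilinear_bound [Nontrivial V] (hinj : Function.Injective ρ) (hcop : ¬ p ∣ Nat.card H)
    (htrans : ∀ v w : V, v ≠ 0 → w ≠ 0 → ∃ h, ρ h v = w) (x : H) (hx : (Subgroup.zpowers x).Normal)
    (hirr : Irreducible (minpoly (ZMod p) (ρ x)))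
    (hdeg : (minpoly (ZMod p) (ρ x)).natDegree = finrank (ZMod p) V) {w : V} (hw : w ≠ 0) :
    Nat.card (ConjClasses H) + Nat.card (stab ρ w) ≤ p ^ finrank (ZMod p) V ∧
      (Nat.card (ConjClasses H) + Nat.card (stab ρ w) = p ^ finrank (ZMod p) V →
        IsCyclic H ∨ (p ^ finrank (ZMod p) V = 8 ∧ Nat.card H = 21) ∨
          (p ^ finrank (ZMod p) V = 9 ∧ Nat.card H = 16)) := by
  classical
  haveI := Fintype.ofFinite H
  set n := finrank (ZMod p) V with hn
  set T := ρ x with hT
  set m := minpoly (ZMod p) T with hm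
  haveI : Fact (Irreducible m) := ⟨hirr⟩
  set C := Subgroup.centralizer ({x} : Set H) with hC
  have hsq : Squarefree m := hirr.squarefree
  have hpoly : ∀ g : C, ∃ f : (ZMod p)[X], ρ g = aeval T f := fun g =>
    Cfsg.Lib.Classical.SUThree.commute_eq_aeval T hsq hdeg
      (by rw [hT, ← map_mul, ← map_mul, Subgroup.mem_centralizer_singleton_iff.1 g.2])
  have hCcomm : ∀ a ∈ C, ∀ b ∈ C, a * b = b * a := by
    intro a ha b hb
    obtain ⟨f, hf⟩ := hpoly ⟨a, ha⟩
    obtain ⟨g, hg⟩ := hpoly ⟨b, hb⟩
    refine hinj ?_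
    rw [map_mul, map_mul, show ρ a = aeval T f from hf, show ρ b = aeval T g from hg, ← map_mul, mul_comm, map_mul]
  haveI hCn : C.Normal := ⟨fun c hc g => by
    rw [Subgroup.mem_centralizer_singleton_iff] at hc ⊢
    obtain ⟨i, hi⟩ := Subgroup.mem_zpowers_iff.1 (hx.conj_mem x (Subgroup.mem_zpowers x) g⁻¹)
    rw [inv_inv] at hi
    have hci : c * x ^ i = x ^ i * c := ((show Commute c x from hc).zpow_right i).eq
    calc g * c * g⁻¹ * x = g * (c * (g⁻¹ * x * g)) * g⁻¹ := by group
      _ = g * (c * x ^ i) * g⁻¹ := by rw [hi]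
      _ = g * (x ^ i * c) * g⁻¹ := by rw [hci]
      _ = g * ((g⁻¹ * x * g) * c) * g⁻¹ := by rw [hi]
      _ = x * (g * c * g⁻¹) := by group⟩
  set c := Nat.card C with hcd
  set a := C.index with had
  set k := Nat.card (ConjClasses H)
  set h := Nat.card (stab ρ w)
  have hH : c * a = (p ^ n - 1) * h := by rw [hcd, had, C.card_mul_index, card_eq_mul_stab htrans hw]
  -- the stabiliser meets `C` trivially
  have hha : h ≤ a := by
    refine Nat.card_le_card_of_injective (fun s : stab ρ w => ((s : H) : H ⧸ C)) fun s t hst => ?_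
    have hmem : (s : H)⁻¹ * t ∈ C := QuotientGroup.eq.1 hst
    have h1 : (s : H)⁻¹ * t = 1 :=
      normal_abelian_free hinj htrans C hCcomm hmem hw (mem_stab.1 (mul_mem (inv_mem s.2) t.2))
    exact Subtype.ext (inv_mul_eq_one.1 h1)
  haveI hCcyc : IsCyclic C := normal_abelian_cyclic hinj htrans C hCcomm
  by_cases ha1 : a = 1
  · -- everything is cyclic
    have htop : C = ⊤ := Subgroup.index_eq_one.1 (had ▸ ha1)
    have hHc : IsCyclic H := isCyclic_of_surjective C.subtype fun y => ⟨⟨y, htop ▸ Subgroup.mem_top y⟩, rfl⟩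
    have hk : k = Nat.card H := card_classes_of_comm fun y z =>
      hCcomm y (htop ▸ Subgroup.mem_top y) z (htop ▸ Subgroup.mem_top z)
    refine ⟨?_, fun _ => Or.inl hHc⟩
    have h1 : h = 1 := le_antisymm (ha1 ▸ hha) Nat.card_pos
    have h2 : c = Nat.card H := by rw [hcd, htop, Subgroup.card_top]
    rw [ha1, h1, mul_one, mul_one] at hH
    have := Nat.one_le_pow n p hp.out.pos
    omega
  have hpos : 0 < a := Nat.pos_of_ne_zero (had ▸ Subgroup.index_ne_zero_of_finite)
  -- the field
  set K := AdjoinRoot m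
  let ι : K →ₐ[ZMod p] Module.End (ZMod p) V :=
    Ideal.Quotient.liftₐ (Ideal.span ({m} : Set (ZMod p)[X])) (aeval T) fun f hf => by
      obtain ⟨e, rfl⟩ := Ideal.mem_span_singleton.1 hf
      rw [map_mul, hm, minpoly.aeval, zero_mul]
  have hι : ∀ f, ι (AdjoinRoot.mk m f) = aeval T f := fun f => rfl
  have hιinj : Function.Injective ι := ι.toRingHom.injective
  haveI : Module.Finite (ZMod p) K := (AdjoinRoot.powerBasis hirr.ne_zero).finite
  haveI : Finite K := Module.finite_of_finite (ZMod p)
  have hKrank : finrank (ZMod p) K = n := by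
    rw [(AdjoinRoot.powerBasis hirr.ne_zero).finrank, AdjoinRoot.powerBasis_dim, hdeg]
  have hKcard : Nat.card K = p ^ n := by rw [Module.natCard_eq_pow_finrank (K := ZMod p), Nat.card_zmod, hKrank]
  have hCK : ∀ g ∈ C, ∃ y, ι y = ρ g := fun g hg => by
    obtain ⟨f, hf⟩ := hpoly ⟨g, hg⟩
    exact ⟨AdjoinRoot.mk m f, (hι f).trans hf.symm⟩
  have hconjK : ∀ (g : H) (y : K), ∃ z, ι z = ρ g * ι y * ρ g⁻¹ := by
    intro g y
    obtain ⟨f, rfl⟩ := AdjoinRoot.mk_surjective y
    rw [hι]
    obtain ⟨z, hz⟩ := hCK (g * x * g⁻¹) (hCn.conj_mem x (Subgroup.mem_centralizer_singleton_iff.2 rfl) g)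
    refine ⟨aeval z f, ?_⟩
    rw [← Polynomial.aeval_algHom_apply, hz, map_mul, map_mul, ← hT]
    induction f using Polynomial.induction_on' with
    | add f g' hf hg => rw [map_add, map_add, hf, hg, mul_add, add_mul]
    | monomial i e =>
      have hu : ρ g⁻¹ * ρ g = 1 := by rw [← map_mul, inv_mul_cancel, map_one]
      have hu' : ρ g * ρ g⁻¹ = 1 := by rw [← map_mul, mul_inv_cancel, map_one]
      have hp' := Units.conj_pow ⟨ρ g, ρ g⁻¹, hu', hu⟩ T i
      rw [aeval_monomial, aeval_monomial]
      rw [show (ρ g * T * ρ g⁻¹) ^ i = ρ g * T ^ i * ρ g⁻¹ from hp']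
      rw [← mul_assoc, ← mul_assoc, Algebra.commutes, mul_assoc (ρ g) (algebraMap _ _ e)]
  choose σf hσf using hconjK
  have hσ1 : ∀ g y z, σf g (y * z) = σf g y * σf g z := fun g y z => hιinj (by
    simp only [map_mul, hσf]
    have hu : ρ g⁻¹ * ρ g = 1 := by rw [← map_mul, inv_mul_cancel, map_one]
    simp only [mul_assoc]
    rw [← mul_assoc (ρ g⁻¹) (ρ g), hu, one_mul])
  have hσ2 : ∀ g y z, σf g (y + z) = σf g y + σf g z := fun g y z => hιinj (by
    simp only [map_add, hσf, mul_add, add_mul])
  have hσ3 : ∀ g (e : ZMod p), σf g (algebraMap _ _ e) = algebraMap _ _ e := fun g e => hιinj (by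
    rw [hσf, AlgHom.commutes, ← Algebra.commutes, mul_assoc, ← map_mul ρ, mul_inv_cancel, map_one, mul_one])
  let σh : H → (K →ₐ[ZMod p] K) := fun g =>
    { toFun := σf g
      map_one' := by
        have := hσ3 g 1
        rwa [map_one] at this
      map_mul' := hσ1 g
      map_zero' := by
        have := hσ3 g 0
        rwa [map_zero] at this
      map_add' := hσ2 g
      commutes' := hσ3 g }
  let σe : H → (K ≃ₐ[ZMod p] K) := fun g =>
    AlgEquiv.ofBijective (σh g) (Finite.injective_iff_bijective.1 (σh g).toRingHom.injective)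
  let σ : H →* (K ≃ₐ[ZMod p] K) := MonoidHom.mk' σe fun g g' => AlgEquiv.ext fun y => hιinj (by
    show ι (σf (g * g') y) = ι (σf g (σf g' y))
    rw [hσf, hσf, hσf, mul_inv_rev, map_mul, map_mul]
    simp only [mul_assoc])
  have hker : ∀ g : H, σ g = 1 ↔ g ∈ C := by
    intro g
    rw [hC, Subgroup.mem_centralizer_singleton_iff]
    constructor
    · intro hg
      have h1 := congrArg ι (AlgEquiv.congr_fun hg (AdjoinRoot.root m))
      have hroot : ι (AdjoinRoot.root m) = T := by rw [← AdjoinRoot.mk_X, hι, aeval_X]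
      have h2 : ι (σf g (AdjoinRoot.root m)) = ι (AdjoinRoot.root m) := h1
      rw [hσf, hroot, hT, ← map_mul, ← map_mul] at h2
      exact mul_inv_eq_iff_eq_mul.1 (hinj h2)
    · intro hg
      refine AlgEquiv.ext fun y => hιinj ?_
      show ι (σf g y) = ι y
      obtain ⟨f, rfl⟩ := AdjoinRoot.mk_surjective y
      rw [hσf, hι]
      obtain ⟨e, he⟩ := hpoly ⟨g, Subgroup.mem_centralizer_singleton_iff.2 hg⟩
      rw [show ρ g = aeval T e from he, ← map_mul, mul_comm e f, map_mul, mul_assoc, ← he, ← map_mul,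
        mul_inv_cancel, map_one, mul_one]
  have hrange : Nat.card σ.range = a := by
    rw [← Subgroup.index_ker, had]
    congr 1
    ext g
    rw [MonoidHom.mem_ker, hker]
  haveI : IsGalois (ZMod p) K := inferInstance
  have hgal : Nat.card (K ≃ₐ[ZMod p] K) = n := by rw [IsGalois.card_aut_eq_finrank, hKrank]
  have han : a ∣ n := by rw [← hrange, ← hgal]; exact Subgroup.card_subgroup_dvd_card _
  -- fixed points
  have hfix : ∀ g : H, g ∉ C → ∃ r o : ℕ, 2 ≤ o ∧ o ∣ a ∧ (r + 1) ^ o = p ^ n ∧
      Nat.card ↥(C ⊓ Subgroup.centralizer ({g} : Set H)) ≤ r := by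
    intro g hg
    set F := IntermediateField.fixedField (Subgroup.zpowers (σ g))
    have ho1 : σ g ≠ 1 := fun e => hg ((hker g).1 e)
    have hfr : finrank F K = orderOf (σ g) := by
      rw [IntermediateField.finrank_fixedField_eq_card, Nat.card_zpowers]
    have hF1 : 1 ≤ Nat.card F := Nat.card_pos
    refine ⟨Nat.card F - 1, orderOf (σ g), ?_, ?_, ?_, ?_⟩
    · have := orderOf_pos (σ g)
      have : orderOf (σ g) ≠ 1 := fun e => ho1 (orderOf_eq_one_iff.1 e)
      omega
    · rw [← hrange, ← Subgroup.orderOf_mk (a := σ g) (ha := (MonoidHom.mem_range.2 ⟨g, rfl⟩ : σ g ∈ σ.range))]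
      exact orderOf_dvd_natCard _
    · rw [Nat.sub_add_cancel hF1, ← hfr, ← Module.natCard_eq_pow_finrank, hKcard]
    · have hex : ∀ y : ↥(C ⊓ Subgroup.centralizer ({g} : Set H)), ∃ z : {z : F // z ≠ 0}, ι (z.1 : K) = ρ y := by
        intro y
        obtain ⟨z, hz⟩ := hCK y (Subgroup.mem_inf.1 y.2).1
        have hzF : z ∈ F := by
          rw [IntermediateField.mem_fixedField_iff]
          intro f hf
          have hfix : σ g z = z := hιinj (by
            show ι (σf g z) = ι z
            rw [hσf, hz, ← map_mul, ← map_mul]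
            congr 1
            rw [← Subgroup.mem_centralizer_singleton_iff.1 (Subgroup.mem_inf.1 y.2).2, mul_inv_cancel_right])
          have : Subgroup.zpowers (σ g) ≤ MulAction.stabilizer (K ≃ₐ[ZMod p] K) z :=
            Subgroup.zpowers_le.2 hfix
          exact this hf
        refine ⟨⟨⟨z, hzF⟩, fun e => ?_⟩, hz⟩
        have hz0 : z = 0 := congrArg Subtype.val e
        obtain ⟨u, hu⟩ := exists_ne (0 : V)
        refine rho_ne_zero (ρ := ρ) (y : H) hu ?_
        rw [← hz, hz0, map_zero, LinearMap.zero_apply]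
      choose f hf using hex
      refine (Nat.card_le_card_of_injective f fun y y' e => Subtype.ext (hinj (by rw [← hf, ← hf, e]))).trans ?_
      rw [← Nat.card_congr (Equiv.optionSubtypeNe (0 : F)), Finite.card_option, Nat.add_sub_cancel]
  -- choose the largest fixed field
  have hne : (Finset.univ.filter fun g : H => g ∉ C).Nonempty := by
    by_contra he
    refine ha1 (had ▸ Subgroup.index_eq_one.2 (Subgroup.eq_top_iff' C |>.2 fun y => ?_))
    by_contra hy
    exact he ⟨y, Finset.mem_filter.2 ⟨Finset.mem_univ _, hy⟩⟩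
  choose! r o ho hoa hro hrle using hfix
  obtain ⟨g₀, hg₀, hmax⟩ := Finset.exists_max_image _ r hne
  set R := r g₀
  have hR : ∀ g ∉ C, Nat.card ↥(C ⊓ Subgroup.centralizer ({g} : Set H)) ≤ R := fun g hg =>
    (hrle g hg).trans (hmax g (Finset.mem_filter.2 ⟨Finset.mem_univ _, hg⟩))
  -- the class count
  have hk : k * a + R ≤ c + a * a * R := by
    have hsum : ∑ g : H, Nat.card (Subgroup.centralizer ({g} : Set H)) = k * (c * a) := by
      rw [hcd, had, C.card_mul_index]
      haveI := Fintype.ofFinite (ConjClasses H)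
      rw [← card_comm_eq_card_conjClasses_mul_card, ← Nat.card_sigma]
      exact Nat.card_congr
        { toFun := fun s => ⟨(s.1, s.2.1), (Subgroup.mem_centralizer_singleton_iff.1 s.2.2).symm⟩
          invFun := fun q => ⟨q.1.1, q.1.2, Subgroup.mem_centralizer_singleton_iff.2 q.2.symm⟩
          left_inv := fun s => rfl
          right_inv := fun q => rfl }
    have hswap : ∑ g ∈ Finset.univ.filter (fun g : H => g ∈ C), Nat.card (Subgroup.centralizer ({g} : Set H)) =
        ∑ g : H, Nat.card ↥(C ⊓ Subgroup.centralizer ({g} : Set H)) := by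
      have e1 : ∀ g : H, Nat.card (Subgroup.centralizer ({g} : Set H)) =
          (Finset.univ.filter fun y => y * g = g * y).card := fun g => by
        rw [← Fintype.card_subtype, ← Nat.card_eq_fintype_card]
        exact Nat.card_congr (Equiv.subtypeEquivRight fun y => Subgroup.mem_centralizer_singleton_iff)
      have e2 : ∀ g : H, Nat.card ↥(C ⊓ Subgroup.centralizer ({g} : Set H)) =
          (Finset.univ.filter fun y => y ∈ C ∧ g * y = y * g).card := fun g => by
        rw [← Fintype.card_subtype, ← Nat.card_eq_fintype_card]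
        exact Nat.card_congr (Equiv.subtypeEquivRight fun y => Subgroup.mem_inf.trans
          (and_congr_right fun _ => Subgroup.mem_centralizer_singleton_iff.trans eq_comm))
      simp only [e1, e2, Finset.card_filter]
      rw [Finset.sum_filter, Finset.sum_comm (f := fun g y => if y ∈ C ∧ g * y = y * g then 1 else 0)]
      refine Finset.sum_congr rfl fun g _ => ?_
      split_ifs with hgC
      · exact Finset.sum_congr rfl fun y _ => by simp [hgC]
      · exact (Finset.sum_eq_zero fun y _ => by simp [hgC]).symm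
    have hcf : (Finset.univ.filter fun g : H => g ∈ C).card = c := by
      rw [hcd, Nat.card_eq_fintype_card, Fintype.card_subtype]
    have hncf : (Finset.univ.filter fun g : H => g ∉ C).card + c = c * a := by
      rw [← hcf, add_comm, Finset.card_filter_add_card_filter_not, hcf, Finset.card_univ, ← Nat.card_eq_fintype_card,
        hcd, had, C.card_mul_index]
    have hin : ∑ g : H, Nat.card ↥(C ⊓ Subgroup.centralizer ({g} : Set H)) ≤
        c * c + (Finset.univ.filter fun g : H => g ∉ C).card * R := by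
      rw [← Finset.sum_filter_add_sum_filter_not Finset.univ (fun g => g ∈ C)]
      refine Nat.add_le_add ?_ ?_
      · refine (Finset.sum_le_card_nsmul _ _ c fun g _ => ?_).trans_eq (by rw [hcf, smul_eq_mul])
        exact Subgroup.card_le_of_le inf_le_left
      · exact (Finset.sum_le_card_nsmul _ _ R fun g hg => hR g (Finset.mem_filter.1 hg).2).trans_eq
          (by rw [smul_eq_mul])
    have hout : ∀ g ∈ Finset.univ.filter (fun g : H => g ∉ C),
        Nat.card (Subgroup.centralizer ({g} : Set H)) ≤ a * R := by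
      intro g hg
      set D := Subgroup.centralizer ({g} : Set H)
      have h1 := Subgroup.relIndex_mul_relIndex ⊥ (C ⊓ D) D bot_le inf_le_right
      rw [Subgroup.relIndex_bot_left, Subgroup.relIndex_bot_left, Subgroup.inf_relIndex_right] at h1
      rw [← h1, mul_comm a R]
      refine Nat.mul_le_mul (hR g (Finset.mem_filter.1 hg).2) ?_
      rw [had, ← Subgroup.relIndex_top_right C]
      exact Subgroup.relIndex_le_of_le_right le_top (by rw [Subgroup.relIndex_top_right]; exact Subgroup.index_ne_zero_of_finite)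
    have htot := hsum
    rw [← Finset.sum_filter_add_sum_filter_not Finset.univ (fun g => g ∈ C), hswap] at htot
    have h2 := (Finset.sum_le_card_nsmul _ _ _ hout)
    rw [smul_eq_mul] at h2
    set M := (Finset.univ.filter fun g : H => g ∉ C).card
    have h3 : k * (c * a) ≤ c * c + M * R + M * (a * R) := by
      rw [← htot]; exact Nat.add_le_add hin h2
    have hc0 : 0 < c := Nat.card_pos
    obtain ⟨a', ha'⟩ : ∃ a', a = a' + 1 := ⟨a - 1, by omega⟩
    have hM : M = c * a' := by rw [ha', mul_add, mul_one] at hncf; omega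
    rw [hM, ha'] at h3
    refine Nat.le_of_mul_le_mul_left ?_ hc0
    rw [ha']
    nlinarith
  by_cases hn2 : 2 ≤ n
  · obtain ⟨hb, heq⟩ := semilinear_arith hp.out hn2
      (fun hd => hcop (hd.trans (had ▸ C.index_dvd_card))) han (by omega)
      ⟨o g₀, ho g₀ (Finset.mem_filter.1 hg₀).2, hoa g₀ (Finset.mem_filter.1 hg₀).2, hro g₀ (Finset.mem_filter.1 hg₀).2⟩
      hk hH hha
    refine ⟨hb, fun e => Or.inr ?_⟩
    have hcardH : Nat.card H = c * a := by rw [hcd, had, C.card_mul_index]
    rcases heq e with ⟨h1, h2⟩ | ⟨h1, h2⟩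
    · exact Or.inl ⟨h1, hcardH.trans h2⟩
    · exact Or.inr ⟨h1, hcardH.trans h2⟩
  · exfalso
    have := Nat.le_of_dvd (Module.finrank_pos : 0 < n) han
    omega

end Cfsg.Lib.Blocks.CoprimeTransitive
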