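import Cfsg.Agent.Blocks.CoprimeTransitive.Main
import Cfsg.Agent.Coprime.SchurZassenhaus
import Cfsg.Prelude.Def_Solvable
import Cfsg.Prelude.Def_Perm

/-!
# An elementary abelian normal Sylow subgroup with a transitive complement
-/

set_option autoImplicit false
set_option linter.unusedSectionVars false
set_option linter.style.haveILetI false

namespace Cfsg.Lib.Blocks.CoprimeTransitive

open Subgroup
open Cfsg

universe u

open Module in
/-- A coprime group of automorphisms transitive on the non-identity elements. -/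
theorem action_classes {p : ℕ} [hp : Fact p.Prime] {H : Type u} [Group H] [Finite H] {A : Type u} [CommGroup A]
    [Finite A] [Nontrivial A] [Module (ZMod p) (Additive A)] (act : H →* MulAut A) (hinj : Function.Injective act)
    (hcop : ¬ p ∣ Nat.card H) (htrans : ∀ v w : A, v ≠ 1 → w ≠ 1 → ∃ h, act h v = w) :
    p ≤ Nat.card (ConjClasses H) ∨
      (Nat.card A = p ∧ Nat.card H = p - 1 ∧ Nat.card (ConjClasses H) = p - 1) ∨
      (p = 11 ∧ Nat.card A = 121 ∧ Nat.card H = 120 ∧ Nat.card (ConjClasses H) = 9 ∧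
        Nat.card (center H) = 2 ∧ (∀ x : H, x ∉ center H → Nat.card ↥(centralizer ({x} : Set H)) ≤ 10) ∧
        Nonempty (H ≃* Matrix.SpecialLinearGroup (Fin 2) (ZMod 5))) := by
  let ρ : H →* Module.End (ZMod p) (Additive A) :=
    { toFun := fun x => (MonoidHom.toAdditive (act x).toMonoidHom).toZModLinearMap p
      map_one' := LinearMap.ext fun v => by simp <;> rfl
      map_mul' := fun x y => LinearMap.ext fun v => by simp <;> rfl }
  have hval : ∀ (x : H) (v : Additive A), Additive.toMul (ρ x v) = act x (Additive.toMul v) := fun x v => rfl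
  have hinj' : Function.Injective ρ := fun a b h => hinj (MulEquiv.ext fun v => by
    have := congrArg (fun f : Module.End (ZMod p) (Additive A) => Additive.toMul (f (Additive.ofMul v))) h
    simpa [hval] using this)
  have htr : ∀ v w : Additive A, v ≠ 0 → w ≠ 0 → ∃ h, ρ h v = w := by
    intro v w hv hw
    obtain ⟨h, hh⟩ := htrans (Additive.toMul v) (Additive.toMul w) (fun e => hv (Additive.toMul.injective e))
      (fun e => hw (Additive.toMul.injective e))
    exact ⟨h, Additive.toMul.injective ((hval h v).trans hh)⟩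
  have hcard : Nat.card A = p ^ finrank (ZMod p) (Additive A) := by
    rw [← card_vectors (p := p) (V := Additive A)]; rfl
  rcases coprime_transitive hinj' hcop htr with h | ⟨h1, h2, h3⟩ | ⟨h1, h2, h3, h4, h5, h6, h7⟩
  · exact Or.inl h
  · exact Or.inr (Or.inl ⟨by rw [hcard, h1, pow_one], h2, h3⟩)
  · exact Or.inr (Or.inr ⟨h1, by rw [hcard, h2, h1]; norm_num, h3, h4, h5, h6, h7⟩)

/-- The classes of elements of order prime to `p`. -/
abbrev RegClass (p : ℕ) (G : Type u) [Group G] : Type u :=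
  {c : ConjClasses G // ∃ g : G, ConjClasses.mk g = c ∧ ¬ p ∣ orderOf g}

/-- A normal elementary abelian self-centralising subgroup with a transitive coprime complement. -/
structure TransSetting (p : ℕ) {X : Type u} [Group X] (Q K : Subgroup X) : Prop where
  normal : Q.Normal
  comm : ∀ a ∈ Q, ∀ b ∈ Q, a * b = b * a
  exp : ∀ a ∈ Q, a ^ p = 1
  cop : ¬ p ∣ Nat.card K
  self : centralizer (Q : Set X) ≤ Q
  compl : IsComplement' Q K
  trans : ∀ v ∈ Q, ∀ w ∈ Q, v ≠ 1 → w ≠ 1 → ∃ k ∈ K, k * v * k⁻¹ = w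
  ne : Q ≠ ⊥

namespace TransSetting

variable {p : ℕ} [hp : Fact p.Prime] {X : Type u} [Group X] [Finite X] {Q K : Subgroup X}
  (S : TransSetting p Q K)

include S

theorem decomp (x : X) : ∃ q ∈ Q, ∃ k ∈ K, q * k = x := by
  obtain ⟨⟨⟨q, hq⟩, ⟨k, hk⟩⟩, h⟩ := S.compl.2 x
  exact ⟨q, hq, k, hk, h⟩

theorem eq_of_mk {k k' : X} (hk : k ∈ K) (hk' : k' ∈ K) (h : k⁻¹ * k' ∈ Q) : k = k' := by
  have : k⁻¹ * k' ∈ Q ⊓ K := Subgroup.mem_inf.2 ⟨h, mul_mem (inv_mem hk) hk'⟩
  rw [S.compl.disjoint.eq_bot, Subgroup.mem_bot, inv_mul_eq_one] at this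
  exact this

theorem isPGroup : IsPGroup p Q := fun a => ⟨1, Subtype.ext (by
  rw [pow_one, SubmonoidClass.coe_pow, OneMemClass.coe_one, S.exp a a.2])⟩

theorem coprime : (Nat.card Q).Coprime (Nat.card K) := by
  obtain ⟨m, hm⟩ := IsPGroup.iff_card.1 S.isPGroup
  rw [hm]
  exact Nat.Coprime.pow_left _ (hp.out.coprime_iff_not_dvd.2 S.cop)

/-- The retraction onto the complement, as a quotient map. -/
theorem mk_bijective [Q.Normal] : Function.Bijective ((QuotientGroup.mk' Q).comp K.subtype) := by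
  refine ⟨fun a b h => Subtype.ext (S.eq_of_mk a.2 b.2 (QuotientGroup.eq.1 h)), fun x => ?_⟩
  obtain ⟨y, rfl⟩ := QuotientGroup.mk'_surjective Q x
  obtain ⟨q, hq, k, hk, rfl⟩ := S.decomp y
  exact ⟨⟨k, hk⟩, (QuotientGroup.eq.2 (by
    show k⁻¹ * (q * k) ∈ Q
    rw [show k⁻¹ * (q * k) = k⁻¹ * q * (k⁻¹)⁻¹ by group]
    exact S.normal.conj_mem q hq k⁻¹))⟩

theorem card_eq : Nat.card X = Nat.card Q * Nat.card K := S.compl.card_mul_card.symm

/-- The classes of `p`-regular elements are those of the complement. -/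
theorem card_regClass : Nat.card (RegClass p X) = Nat.card (ConjClasses K) := by
  haveI := S.normal
  let r : K →* X ⧸ Q := (QuotientGroup.mk' Q).comp K.subtype
  let F : ConjClasses K → RegClass p X := fun c => ⟨ConjClasses.map K.subtype c, by
    obtain ⟨k, rfl⟩ := ConjClasses.exists_rep c
    refine ⟨(k : X), rfl, fun h => S.cop ?_⟩
    rw [Subgroup.orderOf_coe] at h
    exact h.trans (orderOf_dvd_natCard k)⟩
  refine (Nat.card_congr (Equiv.ofBijective F ⟨?_, ?_⟩)).symm
  · intro a b h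
    obtain ⟨k, rfl⟩ := ConjClasses.exists_rep a
    obtain ⟨k', rfl⟩ := ConjClasses.exists_rep b
    obtain ⟨c, hc⟩ := isConj_iff.1 (ConjClasses.mk_eq_mk_iff_isConj.1 (congrArg Subtype.val h))
    obtain ⟨d, hd⟩ := S.mk_bijective.2 (QuotientGroup.mk' Q c)
    refine ConjClasses.mk_eq_mk_iff_isConj.2 (isConj_iff.2 ⟨d, S.mk_bijective.1 ?_⟩)
    show r (d * k * d⁻¹) = r k'
    rw [map_mul, map_mul, map_inv, show r d = QuotientGroup.mk' Q c from hd]
    show QuotientGroup.mk' Q c * QuotientGroup.mk' Q (k : X) * (QuotientGroup.mk' Q c)⁻¹ = QuotientGroup.mk' Q (k' : X)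
    rw [← map_inv, ← map_mul, ← map_mul]
    exact congrArg _ hc
  · rintro ⟨c, g, rfl, hg⟩
    have hsup : Q ⊔ K = ⊤ := S.compl.sup_eq_top
    obtain ⟨x, -, hx⟩ := Cfsg.Lib.Coprime.exists_conj_le_of_coprime (N := Q) (H := K) (L := zpowers g)
      (le_top.trans (top_le_iff.2 (Subgroup.normalizer_eq_top_iff.2 S.normal))) S.coprime
      (Or.inr (Group.isSolvable_of_comm fun a b => by
        obtain ⟨i, hi⟩ := mem_zpowers_iff.1 a.2
        obtain ⟨j, hj⟩ := mem_zpowers_iff.1 b.2
        exact Subtype.ext (by rw [Subgroup.coe_mul, Subgroup.coe_mul, ← hi, ← hj, ← zpow_add, ← zpow_add, add_comm])))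
      (by rw [hsup]; exact le_top) (by
        obtain ⟨m, hm⟩ := IsPGroup.iff_card.1 S.isPGroup
        rw [hm, Nat.card_zpowers]
        exact Nat.Coprime.pow_left _ (hp.out.coprime_iff_not_dvd.2 hg))
    have hgK := Cfsg.Lib.Coprime.mem_conjMap.1 (hx (mem_zpowers g))
    exact ⟨ConjClasses.mk ⟨_, hgK⟩, Subtype.ext (ConjClasses.mk_eq_mk_iff_isConj.2
      (isConj_iff.2 ⟨x, by show x * (x⁻¹ * g * x) * x⁻¹ = g; group⟩))⟩

/-- A complement of order `|Q| - 1` acts freely. -/
theorem free (hK : Nat.card K = Nat.card Q - 1) {v k : X} (hv : v ∈ Q) (hv1 : v ≠ 1) (hk : k ∈ K)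
    (hfix : k * v * k⁻¹ = v) : k = 1 := by
  haveI := S.normal
  classical
  let orbit : K → {w : Q // w ≠ 1} := fun c => ⟨⟨(c : X) * v * (c : X)⁻¹, S.normal.conj_mem v hv c⟩, fun h => hv1 (by
    have h' : (c : X) * v * (c : X)⁻¹ = 1 := congrArg Subtype.val h
    exact conj_eq_one_iff.1 h')⟩
  have hsurj : Function.Surjective orbit := by
    rintro ⟨⟨w, hw⟩, hw1⟩
    obtain ⟨c, hc, h⟩ := S.trans v hv w hw hv1 fun e => hw1 (Subtype.ext e)
    exact ⟨⟨c, hc⟩, Subtype.ext (Subtype.ext h)⟩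
  have hcard : Nat.card {w : Q // w ≠ 1} = Nat.card Q - 1 := by
    rw [← Nat.card_congr (Equiv.optionSubtypeNe (1 : Q)), Finite.card_option, Nat.add_sub_cancel]
  have hb := (Nat.bijective_iff_surjective_and_card orbit).2 ⟨hsurj, by rw [hK, hcard]⟩
  have := hb.1 (a₁ := ⟨k, hk⟩) (a₂ := 1) (Subtype.ext (Subtype.ext (by simpa [orbit] using hfix)))
  exact congrArg Subtype.val this

/-- Then the complement is a Frobenius complement. -/
theorem frobenius (hK : Nat.card K = Nat.card Q - 1) (hK1 : K ≠ ⊥) : IsFrobeniusComplement K := by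
  haveI := S.normal
  refine ⟨hK1, fun htop => S.ne ?_, fun g hg => ?_⟩
  · have h := S.compl.disjoint.eq_bot
    rwa [htop, inf_top_eq] at h
  obtain ⟨q, hq, k, hk, rfl⟩ := S.decomp g
  have hq1 : q ≠ 1 := fun e => hg (by rw [e, one_mul]; exact hk)
  rw [Subgroup.eq_bot_iff_forall]
  intro y hy2
  obtain ⟨hy, hy'⟩ := Subgroup.mem_inf.1 hy2
  rw [Subgroup.mem_pointwise_smul_iff_inv_smul_mem, ← map_inv] at hy'
  have hb : k⁻¹ * (q⁻¹ * y * q) * k ∈ K := by
    simpa [MulAut.smul_def, mul_assoc] using hy'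
  have hd : q⁻¹ * y * q ∈ K := by
    have := mul_mem (mul_mem hk hb) (inv_mem hk)
    rwa [show k * (k⁻¹ * (q⁻¹ * y * q) * k) * k⁻¹ = q⁻¹ * y * q by group] at this
  have heq : y = q⁻¹ * y * q := S.eq_of_mk hy hd (by
    rw [show y⁻¹ * (q⁻¹ * y * q) = (y⁻¹ * q⁻¹ * (y⁻¹)⁻¹) * q by group]
    exact mul_mem (S.normal.conj_mem _ (inv_mem hq) _) hq)
  refine S.free hK hq hq1 hy ?_
  have hyq : q * y = y * q := by
    conv_lhs => rw [heq]
    group
  rw [← hyq]; group

/-- The class number of the complement. -/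
theorem classes :
    p ≤ Nat.card (ConjClasses K) ∨
      (Nat.card Q = p ∧ Nat.card K = p - 1 ∧ Nat.card (ConjClasses K) = p - 1) ∨
      (p = 11 ∧ Nat.card Q = 121 ∧ Nat.card K = 120 ∧ Nat.card (ConjClasses K) = 9 ∧
        Nat.card (center K) = 2 ∧ (∀ x : K, x ∉ center K → Nat.card ↥(centralizer ({x} : Set K)) ≤ 10) ∧
        Nonempty (K ≃* Matrix.SpecialLinearGroup (Fin 2) (ZMod 5))) := by
  haveI := S.normal
  haveI : Nontrivial Q := (Subgroup.nontrivial_iff_ne_bot Q).2 S.ne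
  letI : CommGroup Q := { mul_comm := fun a b => Subtype.ext (S.comm a a.2 b b.2) }
  let act : K →* MulAut Q := (MulAut.conjNormal (H := Q)).comp K.subtype
  have hval : ∀ (x : K) (v : Q), ((act x v : Q) : X) = (x : X) * (v : X) * (x : X)⁻¹ :=
    fun x v => MulAut.conjNormal_apply _ _
  refine @action_classes p hp K _ _ Q _ _ _
    (AddCommGroup.zmodModule (n := p) fun v => Additive.toMul.injective (Subtype.ext (by
      simpa using S.exp _ (Additive.toMul v).2))) act ?_ S.cop ?_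
  · intro a b h
    refine Subtype.ext (S.eq_of_mk a.2 b.2 (S.self ?_))
    rw [Subgroup.mem_centralizer_iff]
    intro v hv
    have h' := congrArg (fun f : MulAut Q => ((f ⟨v, hv⟩ : Q) : X)) h
    simp only [hval] at h'
    calc v * ((a : X)⁻¹ * b) = (a : X)⁻¹ * ((a : X) * v * (a : X)⁻¹) * b := by group
      _ = (a : X)⁻¹ * ((b : X) * v * (b : X)⁻¹) * b := by rw [h']
      _ = (a : X)⁻¹ * b * v := by group
  · intro v w hv hw
    obtain ⟨k, hk, h⟩ := S.trans (v : X) v.2 (w : X) w.2 (fun e => hv (Subtype.ext e)) fun e => hw (Subtype.ext e)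
    exact ⟨⟨k, hk⟩, Subtype.ext (by rw [hval]; exact h)⟩

omit S in
/-- The affine group. -/
theorem affine (S : TransSetting p Q K) (hQ : Nat.card Q = p) :
    Nonempty (X ≃* ↥(Cfsg.affineGroup (ZMod p))) := by
  haveI := S.normal
  haveI : Fintype Q := Fintype.ofFinite Q
  obtain ⟨v, hv, hv1⟩ := Q.bot_or_exists_ne_one.resolve_left S.ne
  have hov : orderOf (⟨v, hv⟩ : Q) = p := by
    rcases (Nat.dvd_prime hp.out).1 (hQ ▸ orderOf_dvd_natCard (⟨v, hv⟩ : Q)) with h | h
    · exact absurd (congrArg Subtype.val (orderOf_eq_one_iff.1 h)) hv1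
    · exact h
  have hov' : orderOf v = p := by rw [← hov, Subgroup.orderOf_mk]
  have hgen : ∀ w ∈ Q, ∃ c : ZMod p, v ^ c.val = w := by
    intro w hw
    have hz : zpowers v = Q := eq_of_le_of_card_ge (zpowers_le.2 hv) (by rw [Nat.card_zpowers, hov', hQ])
    rw [← hz, ← mem_powers_iff_mem_zpowers, Submonoid.mem_powers_iff] at hw
    obtain ⟨i, rfl⟩ := hw
    exact ⟨(i : ZMod p), by rw [ZMod.val_natCast, ← hov', pow_mod_orderOf]⟩
  have hinjv : ∀ c d : ZMod p, v ^ c.val = v ^ d.val → c = d := fun c d h =>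
    ZMod.val_injective p (pow_injOn_Iio_orderOf (by simp [hov', ZMod.val_lt]) (by simp [hov', ZMod.val_lt]) h)
  have hmodp : ∀ k : ℕ, v ^ (k % p) = v ^ k := fun k => by conv_rhs => rw [← pow_mod_orderOf, hov']
  have hmul : ∀ c d : ZMod p, v ^ (c + d).val = v ^ c.val * v ^ d.val := fun c d => by
    rw [ZMod.val_add, ← pow_add, hmodp]
  have hmul' : ∀ (c : ZMod p) (n : ℕ), v ^ ((n : ZMod p) * c).val = (v ^ c.val) ^ n := fun c n => by
    induction n with
    | zero => simp
    | succ n ih => rw [Nat.cast_succ, add_mul, one_mul, hmul, ih, pow_succ]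
  choose e he using hgen
  let dq : X → X := fun x => (S.decomp x).choose
  have hdq : ∀ x, dq x ∈ Q := fun x => (S.decomp x).choose_spec.1
  let dk : X → X := fun x => (S.decomp x).choose_spec.2.choose
  have hdk : ∀ x, dk x ∈ K := fun x => (S.decomp x).choose_spec.2.choose_spec.1
  have hdec : ∀ x, dq x * dk x = x := fun x => (S.decomp x).choose_spec.2.choose_spec.2
  have hprod : ∀ x y, dq (x * y) = dq x * (dk x * dq y * (dk x)⁻¹) ∧ dk (x * y) = dk x * dk y := by
    intro x y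
    have hm : dq x * (dk x * dq y * (dk x)⁻¹) ∈ Q := mul_mem (hdq x) (S.normal.conj_mem _ (hdq y) _)
    have he' : dq x * (dk x * dq y * (dk x)⁻¹) * (dk x * dk y) = dq (x * y) * dk (x * y) := by
      rw [hdec, show dq x * (dk x * dq y * (dk x)⁻¹) * (dk x * dk y) = dq x * dk x * (dq y * dk y) by group, hdec, hdec]
    have h2 : dk x * dk y = dk (x * y) := S.eq_of_mk (mul_mem (hdk x) (hdk y)) (hdk _) (by
      have h3 : (dk x * dk y)⁻¹ * dk (x * y) = (dk x * dk y)⁻¹ * ((dq (x * y))⁻¹ * (dq x * (dk x * dq y * (dk x)⁻¹))) *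
          ((dk x * dk y)⁻¹)⁻¹ := by
        rw [show dk (x * y) = (dq (x * y))⁻¹ * (dq (x * y) * dk (x * y)) by group, ← he']
        group
      rw [h3]
      exact S.normal.conj_mem _ (mul_mem (inv_mem (hdq _)) hm) _)
    rw [← h2] at he'
    exact ⟨(mul_right_cancel he').symm, h2.symm⟩
  have hconjmem : ∀ x w, w ∈ Q → dk x * w * (dk x)⁻¹ ∈ Q := fun x w hw => S.normal.conj_mem w hw _
  let a : X → ZMod p := fun x => e _ (hconjmem x v hv)
  let b : X → ZMod p := fun x => e _ (hdq x)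
  have hconj : ∀ x (c : ZMod p), dk x * v ^ c.val * (dk x)⁻¹ = v ^ (a x * c).val := by
    intro x c
    conv_rhs => rw [mul_comm, ← ZMod.natCast_zmod_val c, hmul', he]
    rw [conj_pow]
  have ha0 : ∀ x, a x ≠ 0 := fun x h => hv1 (by
    have := he _ (hconjmem x v hv)
    rw [show e _ (hconjmem x v hv) = 0 from h, ZMod.val_zero, pow_zero] at this
    exact conj_eq_one_iff.1 this.symm)
  have hab : ∀ x y, a (x * y) = a x * a y ∧ b (x * y) = b x + a x * b y := by
    intro x y
    obtain ⟨h1, h2⟩ := hprod x y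
    refine ⟨hinjv _ _ ?_, hinjv _ _ ?_⟩
    · rw [← hconj, he, he, h2]; group
    · rw [hmul, ← hconj, he, he, he, h1]
  let σ : X → Equiv.Perm (ZMod p) := fun x => (Equiv.mulLeft₀ (a x) (ha0 x)).trans (Equiv.addRight (b x))
  have hσ : ∀ x c, σ x c = a x * c + b x := fun x c => rfl
  let Φ : X →* Equiv.Perm (ZMod p) := MonoidHom.mk' σ fun x y => Equiv.ext fun c => by
    rw [Equiv.Perm.mul_apply, hσ, hσ, hσ, (hab x y).1, (hab x y).2]; ring
  have hrange : ∀ x, Φ x ∈ Cfsg.affineGroup (ZMod p) := fun x => ⟨Units.mk0 _ (ha0 x), b x, hσ x⟩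
  refine ⟨MulEquiv.ofBijective (Φ.codRestrict _ hrange) ⟨(MonoidHom.ker_eq_bot_iff _).1 ?_, ?_⟩⟩
  · rw [Subgroup.eq_bot_iff_forall]
    intro x hx
    have hx' : ∀ c, a x * c + b x = c := fun c => by
      rw [← hσ]; exact Equiv.congr_fun (congrArg Subtype.val hx) c
    have hb0 : b x = 0 := by simpa using hx' 0
    have ha1 : a x = 1 := by simpa [hb0] using hx' 1
    have hq1 : dq x = 1 := by
      have := he _ (hdq x)
      rw [show e _ (hdq x) = 0 from hb0, ZMod.val_zero, pow_zero] at this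
      exact this.symm
    have hk1 : dk x = 1 := by
      have hc : dk x ∈ centralizer (Q : Set X) := by
        rw [Subgroup.mem_centralizer_iff]
        intro w hw
        have := hconj x (e w hw)
        rw [ha1, one_mul, he] at this
        conv_lhs => rw [← this]
        group
      exact S.eq_of_mk (one_mem K) (hdk x) (by simpa using S.self hc) |>.symm
    rw [← hdec x, hq1, hk1, one_mul]
  · rintro ⟨τ, u, t, hτ⟩
    obtain ⟨k, hk, hkv⟩ := S.trans v hv (v ^ (u : ZMod p).val) (pow_mem hv _) hv1 (fun h => u.ne_zero (hinjv _ 0 (by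
      rw [h, ZMod.val_zero, pow_zero])))
    refine ⟨v ^ t.val * k, Subtype.ext (Equiv.ext fun c => ?_)⟩
    have hd2 : dk (v ^ t.val * k) = k := S.eq_of_mk (hdk _) hk (by
      have h3 : (dk (v ^ t.val * k))⁻¹ * k = (dk (v ^ t.val * k))⁻¹ * ((v ^ t.val)⁻¹ * dq (v ^ t.val * k)) *
          ((dk (v ^ t.val * k))⁻¹)⁻¹ := by
        calc (dk (v ^ t.val * k))⁻¹ * k = (dk (v ^ t.val * k))⁻¹ * ((v ^ t.val)⁻¹ * (dq (v ^ t.val * k) * dk (v ^ t.val * k))) := by
              rw [hdec]; group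
          _ = _ := by group
      rw [h3]
      exact S.normal.conj_mem _ (mul_mem (inv_mem (pow_mem hv _)) (hdq _)) _)
    have hd1 : dq (v ^ t.val * k) = v ^ t.val := mul_right_cancel (b := k) (by
      have h := hdec (v ^ t.val * k)
      rw [hd2] at h
      exact h)
    have hbt : b (v ^ t.val * k) = t := hinjv _ _ (by rw [he, hd1])
    have hau : a (v ^ t.val * k) = u := hinjv _ _ (by rw [he, hd2, hkv])
    show σ (v ^ t.val * k) c = τ c
    rw [hσ, hτ, hbt, hau]

end TransSetting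

end Cfsg.Lib.Blocks.CoprimeTransitive
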