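import Cfsg.Agent.Blocks.CoprimeTransitive.Normal
import Cfsg.Agent.Blocks.CoprimeTransitive.FieldStructure
import Cfsg.Agent.S0899

/-!
# The exceptional pairs in dimension six
-/

set_option autoImplicit false
set_option linter.unusedSectionVars false
set_option linter.style.haveILetI false

namespace Cfsg.Lib.Blocks.CoprimeTransitive

open Module Subgroup Polynomial
open Cfsg Cfsg.Lib.Blocks Cfsg.Lib.Chars

universe u v

variable {p : ℕ} [hp : Fact p.Prime] {V : Type v} [AddCommGroup V] [Module (ZMod p) V] [Finite V]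
  {H : Type u} [Group H] [Finite H] {ρ : H →* Module.End (ZMod p) V}

/-- A conjugacy class inside a cyclic subgroup of prime order is small. -/
theorem index_centralizer_le (hinj : Function.Injective ρ) {x : H} {s : ℕ} (hs : s.Prime) (hx : orderOf x = s)
    (hsp : s ≠ p) (hn : (zpowers x).Normal) :
    (centralizer ({x} : Set H)).index ≤ finrank (ZMod p) V := by
  classical
  haveI := Fintype.ofFinite H
  set C := centralizer ({x} : Set H)
  have h1 : Nat.card (ConjClasses.mk x).carrier = C.index := by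
    refine Nat.eq_of_mul_eq_mul_right (Nat.card_pos : 0 < Nat.card C) ?_
    rw [card_carrier_mul, C.index_mul_card]
  rw [← h1]
  refine le_trans ?_ (conj_pow_count hinj hs hx hsp)
  have hex : ∀ y : (ConjClasses.mk x).carrier, ∃ i : Fin s, IsConj x (x ^ (i : ℕ)) ∧ x ^ (i : ℕ) = y.1 := by
    rintro ⟨y, hy⟩
    have hc : IsConj x y := (ConjClasses.mk_eq_mk_iff_isConj.1 (ConjClasses.mem_carrier_iff_mk_eq.1 hy)).symm
    obtain ⟨e, he⟩ := isConj_iff.1 hc
    have hyX : y ∈ zpowers x := by rw [← he]; exact hn.conj_mem x (mem_zpowers x) e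
    rw [← mem_powers_iff_mem_zpowers, Submonoid.mem_powers_iff] at hyX
    obtain ⟨i, rfl⟩ := hyX
    refine ⟨⟨i % s, Nat.mod_lt _ hs.pos⟩, ?_, ?_⟩
    · show IsConj x (x ^ (i % s))
      rw [show x ^ (i % s) = x ^ i by conv_rhs => rw [← pow_mod_orderOf, hx]]
      exact hc
    · show x ^ (i % s) = x ^ i
      conv_rhs => rw [← pow_mod_orderOf, hx]
  choose f hf1 hf2 using hex
  refine Nat.card_le_card_of_injective (fun y => ⟨f y, hf1 y⟩) fun y y' h => ?_
  have : f y = f y' := congrArg Subtype.val h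
  exact Subtype.ext (by rw [← hf2, ← hf2, this])

/-- The centraliser of a generator of a normal cyclic subgroup is normal. -/
theorem centralizer_normal {x : H} (hn : (zpowers x).Normal) : (centralizer ({x} : Set H)).Normal := by
  refine ⟨fun c hc g => mem_centralizer_singleton_iff.2 ?_⟩
  obtain ⟨i, hi⟩ := mem_zpowers_iff.1 (hn.conj_mem x (mem_zpowers x) g⁻¹)
  rw [inv_inv] at hi
  have hx : x = g * x ^ i * g⁻¹ := by rw [hi]; group
  have hcx : c * x ^ i = x ^ i * c := (Commute.zpow_right (mem_centralizer_singleton_iff.1 hc : Commute c x) i).eq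
  calc g * c * g⁻¹ * x = g * c * g⁻¹ * (g * x ^ i * g⁻¹) := by rw [← hx]
    _ = g * (c * x ^ i) * g⁻¹ := by group
    _ = g * x ^ i * g⁻¹ * (g * c * g⁻¹) := by rw [hcx]; group
    _ = x * (g * c * g⁻¹) := by rw [← hx]

/-- The minimal polynomial of an element of prime order spanning a normal subgroup. -/
theorem normal_prime_minpoly [Nontrivial V] (hinj : Function.Injective ρ)
    (htrans : ∀ v w : V, v ≠ 0 → w ≠ 0 → ∃ h, ρ h v = w) {a : H} {t : ℕ} (ht : t.Prime) (ha : orderOf a = t)
    (htp : t ≠ p) (hn : (zpowers a).Normal) :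
    Irreducible (minpoly (ZMod p) (ρ a)) ∧ (minpoly (ZMod p) (ρ a)).natDegree = orderOf (p : ZMod t) := by
  haveI := Fact.mk ht
  haveI := hn
  have hcomm : ∀ x ∈ zpowers a, ∀ y ∈ zpowers a, x * y = y * x := by
    intro x hx y hy
    obtain ⟨i, rfl⟩ := mem_zpowers_iff.1 hx
    obtain ⟨j, rfl⟩ := mem_zpowers_iff.1 hy
    rw [← zpow_add, ← zpow_add, add_comm]
  have hirr := normal_abelian_minpoly htrans (zpowers a) hcomm (mem_zpowers a)
  refine ⟨hirr, ?_⟩
  set m := minpoly (ZMod p) (ρ a) with hm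
  have hdvd : m ∣ (X - C 1) * cyclotomic t (ZMod p) := by
    rw [mul_comm, map_one, cyclotomic_prime_mul_X_sub_one]
    refine minpoly.dvd _ _ ?_
    rw [map_sub, map_pow, aeval_X, map_one, ← map_pow, ← ha, pow_orderOf_eq_one, map_one, sub_self]
  rcases hirr.prime.dvd_or_dvd hdvd with h | h
  · exfalso
    have h1 : aeval (ρ a) (X - C (1 : ZMod p)) = 0 := by
      obtain ⟨e, he⟩ := h
      rw [he, map_mul, hm, minpoly.aeval, zero_mul]
    rw [map_sub, aeval_X, aeval_C, map_one, sub_eq_zero] at h1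
    have h2 : a = 1 := hinj (by rw [map_one]; exact h1)
    rw [h2, orderOf_one] at ha
    exact ht.one_lt.ne ha
  · have hcop : p.Coprime t := (Nat.coprime_primes hp.out ht).2 (Ne.symm htp)
    rw [natDegree_of_dvd_cyclotomic_of_irreducible (K := ZMod p) (f := 1) (by rw [ZMod.card, pow_one]) hcop h hirr,
      ← orderOf_units, ZMod.coe_unitOfCoprime, pow_one]

/-- The Sylow `t`-subgroups are normal. -/
theorem sylow_normal_six (hinj : Function.Injective ρ) (hcop : ¬ p ∣ Nat.card H) (h6 : finrank (ZMod p) V = 6)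
    {t : ℕ} [Fact t.Prime] (ht : (p = 2 ∧ t = 7) ∨ (p = 3 ∧ t = 13) ∨ (p = 5 ∧ t = 31) ∨ (p = 17 ∧ t = 307))
    (P : Sylow t H) : (P : Subgroup H).Normal := by
  classical
  haveI := Fintype.ofFinite H
  obtain ⟨M, hM⟩ := exists_isPModular hp.out
  set b := Module.finBasis (ZMod p) V
  obtain ⟨m, hmn, π, hπ⟩ := exists_lift (M := M) ((LinearMap.toMatrixAlgEquiv b).toMonoidHom.comp ρ) hM
    (by rwa [← Nat.card_eq_fintype_card]) ((LinearMap.toMatrixAlgEquiv b).injective.comp hinj)
  rw [h6] at hmn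
  by_cases hp2 : p = 2
  · obtain rfl : t = 7 := by omega
    subst hp2
    by_contra hP
    have hodd : Odd (Nat.card H) := Nat.odd_iff.2 (by omega)
    have hdeg : Cfsg.charDegree π.character = m :=
      (deg_character π).trans (by rw [finrank_fintype_fun_eq_card, Fintype.card_fin])
    obtain ⟨hms, ⟨k, hk⟩, -⟩ := Cfsg.Agent.S4468.result π.character ⟨m, π, rfl⟩
      (fun g hg => Cfsg.Lib.OddChar.Blichfeldt.faithful_of_character hπ hg) m hdeg 7 Fact.out
      (Cfsg.Lib.Blocks.isPSolvable_of_solvable (Cfsg.Agent.S0205.result hodd)) (by omega) P hP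
    have hk3 : k < 3 := by
      by_contra h
      have h8 : 2 ^ 3 ≤ 2 ^ k := Nat.pow_le_pow_right (by norm_num) (by omega)
      omega
    interval_cases k <;> omega
  refine Cfsg.Agent.S0899.result m π hπ t (Or.inr ⟨by omega, fun K hK Q => ?_⟩) P
  by_contra hQ
  have htK : t ∣ Nat.card K := by
    by_contra h
    refine hQ ?_
    have : (Q : Subgroup K) = ⊥ := by
      obtain ⟨j, hj⟩ := IsPGroup.iff_card.1 Q.2
      rcases j with _ | j
      · exact Subgroup.card_eq_one.1 (by rw [hj, pow_zero])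
      · exact absurd ((dvd_pow_self t j.succ_ne_zero).trans (hj ▸ Subgroup.card_subgroup_dvd_card _)) h
    rw [this]
    infer_instance
  have hno : ∀ X : Subgroup K, X.Normal → Nat.card X ≠ t := fun X hX hc => by
    haveI := hX
    have hXp : IsPGroup t X := IsPGroup.iff_card.2 ⟨1, by rw [hc, pow_one]⟩
    have hXQ : X = (Q : Subgroup K) := eq_of_le_of_card_ge (hXp.le_sylow_of_normal Q)
      (by rw [hc, sylow_card_prime htK hK Q])
    exact hQ (hXQ ▸ hX)
  let πK : Representation ℂ K (Fin m → ℂ) := π.comp K.subtype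
  have hπK : Function.Injective πK := hπ.comp K.subtype_injective
  have hb := deg_bound_faithful (p := t) (G := K) htK hK hno
    (χ := πK.character) ⟨m, πK, rfl⟩
    (fun g hg => Cfsg.Lib.OddChar.Blichfeldt.faithful_of_character hπK hg)
  rw [deg_character, finrank_fintype_fun_eq_card, Fintype.card_fin] at hb
  obtain ⟨rfl, rfl⟩ : p = 3 ∧ t = 13 := by omega
  have hdeg : Cfsg.charDegree πK.character = m :=
    (deg_character πK).trans
      (by rw [finrank_fintype_fun_eq_card, Fintype.card_fin])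
  obtain ⟨e⟩ := Cfsg.Agent.S4504.result 13 Fact.out htK hK hno _ ⟨m, πK, rfl⟩
    (fun g hg => Cfsg.Lib.OddChar.Blichfeldt.faithful_of_character hπK hg) (by rw [hdeg]; omega)
  exact hcop (((show 3 ∣ 6 by norm_num).trans (six_dvd_of_psl (by norm_num) e)).trans
    (Subgroup.card_subgroup_dvd_card K))

/-- An element of order `t` spanning a normal subgroup. -/
theorem exists_normal_prime [Nontrivial V] (hinj : Function.Injective ρ)
    (htrans : ∀ v w : V, v ≠ 0 → w ≠ 0 → ∃ h, ρ h v = w) {t : ℕ} [Fact t.Prime] (P : Sylow t H)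
    (hP : (P : Subgroup H).Normal) (htH : t ∣ Nat.card H) : ∃ a : H, orderOf a = t ∧ (zpowers a).Normal := by
  haveI := hP
  have ht : t.Prime := Fact.out
  haveI hPne : Nontrivial (P : Subgroup H) := by
    have := P.pow_dvd_card_of_pow_dvd_card (n := 1) (by simpa using htH)
    rw [pow_one] at this
    exact Finite.one_lt_card_iff_nontrivial.1 (lt_of_lt_of_le ht.one_lt (Nat.le_of_dvd Nat.card_pos this))
  haveI := P.2.center_nontrivial
  set Z := (center (P : Subgroup H)).map (P : Subgroup H).subtype with hZ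
  haveI hZn : Z.Normal := ConjAct.normal_of_characteristic_of_normal
  have hZc : ∀ a ∈ Z, ∀ b ∈ Z, a * b = b * a := by
    rintro _ ⟨a, ha, rfl⟩ _ ⟨b, -, rfl⟩
    exact congrArg Subtype.val (mem_center_iff.1 ha b).symm
  obtain ⟨z, hz⟩ := exists_prime_orderOf_dvd_card' (G := center (P : Subgroup H)) t (by
    obtain ⟨m, hm0, hm⟩ := (P.2.to_subgroup (center (P : Subgroup H))).nontrivial_iff_card.1 inferInstance
    exact hm ▸ dvd_pow_self t hm0.ne')
  refine ⟨((z : (P : Subgroup H)) : H), by rw [Subgroup.orderOf_coe, Subgroup.orderOf_coe, hz], ⟨fun y hy g => ?_⟩⟩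
  haveI := normal_abelian_cyclic hinj htrans Z hZc
  obtain ⟨i, rfl⟩ := mem_zpowers_iff.1 hy
  have hzZ : ((z : (P : Subgroup H)) : H) ∈ Z := ⟨_, z.2, rfl⟩
  rw [← conj_zpow]
  refine zpow_mem (cyclic_prime_unique hzZ (hZn.conj_mem _ hzZ g) rfl ?_) i
  exact (MulAut.conj g).orderOf_eq _

/-- The bound for the exceptional pairs in dimension six. -/
theorem six_bound [Nontrivial V] (hinj : Function.Injective ρ) (hcop : ¬ p ∣ Nat.card H)
    (htrans : ∀ v w : V, v ≠ 0 → w ≠ 0 → ∃ h, ρ h v = w) (h6 : finrank (ZMod p) V = 6)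
    (hp' : p = 2 ∨ p = 3 ∨ p = 5 ∨ p = 17) {w : V} (hw : w ≠ 0) : Bound ρ w := by
  classical
  have hdvd : p ^ 6 - 1 ∣ Nat.card H := by
    have := (vectors_dvd htrans).1
    rwa [h6] at this
  obtain ⟨t, htp, htp', ht3, htd⟩ : ∃ t, t.Prime ∧
      ((p = 2 ∧ t = 7) ∨ (p = 3 ∧ t = 13) ∨ (p = 5 ∧ t = 31) ∨ (p = 17 ∧ t = 307)) ∧
      orderOf (p : ZMod t) = 3 ∧ t ∣ p ^ 6 - 1 := by
    rcases hp' with rfl | rfl | rfl | rfl
    · exact ⟨7, by norm_num, Or.inl ⟨rfl, rfl⟩, orderOf_eq_of_ppd (by norm_num) (by norm_num) (by norm_num)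
        (fun i hi hin => by revert hi; revert i; decide +kernel), by norm_num⟩
    · exact ⟨13, by norm_num, Or.inr (Or.inl ⟨rfl, rfl⟩), orderOf_eq_of_ppd (by norm_num) (by norm_num) (by norm_num)
        (fun i hi hin => by revert hi; revert i; decide +kernel), by norm_num⟩
    · exact ⟨31, by norm_num, Or.inr (Or.inr (Or.inl ⟨rfl, rfl⟩)), orderOf_eq_of_ppd (by norm_num) (by norm_num)
        (by norm_num) (fun i hi hin => by revert hi; revert i; decide +kernel), by norm_num⟩
    · exact ⟨307, by norm_num, Or.inr (Or.inr (Or.inr ⟨rfl, rfl⟩)), orderOf_eq_of_ppd (by norm_num) (by norm_num)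
        (by norm_num) (fun i hi hin => by revert hi; revert i; decide +kernel), by norm_num⟩
  haveI := Fact.mk htp
  obtain ⟨P⟩ : Nonempty (Sylow t H) := inferInstance
  obtain ⟨a, ha, han⟩ := exists_normal_prime hinj htrans P (sylow_normal_six hinj hcop h6 htp' P) (htd.trans hdvd)
  have htne : t ≠ p := fun e => hcop (e ▸ htd.trans hdvd)
  obtain ⟨hirr, hdeg⟩ := normal_prime_minpoly hinj htrans htp ha htne han
  rw [ht3] at hdeg
  set C := centralizer ({a} : Set H) with hC
  haveI hCn : C.Normal := centralizer_normal han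
  have hidx := index_centralizer_le hinj htp ha htne han
  rw [h6, ← hC] at hidx
  have hidx0 : C.index ≠ 0 := Subgroup.index_ne_zero_of_finite
  have hA : AbelianCentralisers C := abelianCentralisers_half hinj hcop hirr (minpoly.aeval _ _) C
    (fun c hc => by rw [← map_mul, ← map_mul, mem_centralizer_singleton_iff.1 hc]) (by rw [h6, hdeg])
  have hmul := C.index_mul_card
  by_cases hp2 : p = 2
  · subst hp2
    have hodd : ¬ 2 ∣ Nat.card C := fun h => hcop (h.trans (Subgroup.card_subgroup_dvd_card C))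
    have hcen : center C = ⊤ := by
      by_contra h
      rcases two_dim_shape hA h with ⟨-, x, -, hx⟩ | ⟨h' | h' | h', -⟩
      · exact hodd ⟨_, hx.symm⟩
      all_goals exact hodd (by rw [h'.1]; exact Dvd.dvd.mul_right (by norm_num) _)
    have hCc : ∀ x ∈ C, ∀ y ∈ C, x * y = y * x := fun x hx y hy =>
      congrArg Subtype.val (commutative_of_center_top hcen (⟨x, hx⟩ : C) ⟨y, hy⟩)
    haveI := normal_abelian_cyclic hinj htrans C hCc
    obtain ⟨g, hg⟩ := IsCyclic.exists_ofOrder_eq_natCard (α := C)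
    have hgo : orderOf (g : H) = Nat.card C := by rw [Subgroup.orderOf_coe, hg]
    have hgz : zpowers (g : H) = C :=
      eq_of_le_of_card_ge (zpowers_le.2 g.2) (by rw [Nat.card_zpowers, hgo])
    have hgirr := normal_abelian_minpoly htrans C hCc g.2
    set m := minpoly (ZMod 2) (ρ (g : H)) with hm
    haveI := Fact.mk hgirr
    have hd6 : m.natDegree ≤ 6 := by
      rw [← h6, ← LinearMap.charpoly_natDegree (ρ (g : H))]
      exact natDegree_le_of_dvd (LinearMap.minpoly_dvd_charpoly _) (LinearMap.charpoly_monic _).ne_zero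
    haveI : Module.Finite (ZMod 2) (AdjoinRoot m) := (AdjoinRoot.powerBasis hgirr.ne_zero).finite
    haveI : Finite (AdjoinRoot m) := Module.finite_of_finite (ZMod 2)
    have hcard : Nat.card (AdjoinRoot m) = 2 ^ m.natDegree := by
      rw [Module.natCard_eq_pow_finrank (K := ZMod 2), Nat.card_zmod,
        (AdjoinRoot.powerBasis hgirr.ne_zero).finrank, AdjoinRoot.powerBasis_dim]
    have h21 : 21 ∣ Nat.card C := by
      have h63 : 63 ∣ C.index * Nat.card C := hmul.symm ▸ hdvd
      have h3 : C.index ≠ 0 ∧ C.index ≤ 6 := ⟨hidx0, hidx⟩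
      have ho : ¬ 2 ∣ C.index := fun h => hcop (h.trans (Subgroup.index_dvd_card C))
      generalize C.index = i at *
      obtain ⟨h0, h6'⟩ := h3
      interval_cases i <;> omega
    have hpow : (g : H) ^ 2 ^ m.natDegree = g := by
      haveI := Fintype.ofFinite (AdjoinRoot m)
      have h1 := FiniteField.pow_card (AdjoinRoot.root m)
      rw [← Nat.card_eq_fintype_card, hcard] at h1
      have h2 : AdjoinRoot.mk m (X ^ 2 ^ m.natDegree) = AdjoinRoot.mk m X := by rw [map_pow, AdjoinRoot.mk_X, h1]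
      rw [AdjoinRoot.mk_eq_mk, hm, minpoly.dvd_iff, map_sub, sub_eq_zero, map_pow, aeval_X, ← map_pow] at h2
      exact hinj h2
    have hd : m.natDegree = 6 := by
      have h1 : orderOf (g : H) ∣ 2 ^ m.natDegree - 1 := by
        refine orderOf_dvd_of_pow_eq_one ?_
        have h2 : (g : H) ^ (2 ^ m.natDegree - 1) * g = g := by
          rw [← pow_succ, Nat.sub_add_cancel Nat.one_le_two_pow, hpow]
        exact mul_eq_right.1 h2
      rw [hgo] at h1
      have h3 := h21.trans h1
      have h4 := hgirr.natDegree_pos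
      generalize m.natDegree = d at *
      interval_cases d <;> omega
    exact semilinear_bound hinj hcop htrans (g : H) (hgz.symm ▸ hCn) hgirr (by rw [hd, h6]) hw
  · haveI : Fact (Nat.Prime 7) := ⟨by norm_num⟩
    have h7 : 7 ∣ p ^ 6 - 1 := by rcases hp' with rfl | rfl | rfl | rfl <;> norm_num at *
    have hord : orderOf (p : ZMod 7) = finrank (ZMod p) V := by
      rw [h6]
      refine orderOf_eq_of_ppd hp.out.pos (by norm_num) h7 fun i hi hin => ?_
      rcases hp' with rfl | rfl | rfl | rfl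
      · exact absurd rfl hp2
      all_goals (revert hi; revert i; decide +kernel)
    have h7C : 7 ∣ Nat.card C := by
      refine ((Fact.out : Nat.Prime 7).dvd_mul.1 (hmul.symm ▸ h7.trans hdvd)).resolve_left fun h => ?_
      have := Nat.le_of_dvd (by omega) h
      omega
    obtain ⟨y, hy⟩ := exists_prime_orderOf_dvd_card' 7 h7C
    have hyH : orderOf (y : H) = 7 := by rw [Subgroup.orderOf_coe, hy]
    have hsp : 7 ≠ p := fun e => hcop (e ▸ h7.trans hdvd)
    haveI := ThreeChars.centralizer_cyclic ρ hinj hyH hord hsp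
    have hcyc : IsCyclic (centralizer ({y} : Set C)) := by
      let f : centralizer ({y} : Set C) →* centralizer ({(y : H)} : Set H) :=
        { toFun := fun c => ⟨((c : C) : H), mem_centralizer_singleton_iff.2
            (congrArg Subtype.val (mem_centralizer_singleton_iff.1 c.2))⟩
          map_one' := rfl
          map_mul' := fun _ _ => rfl }
      exact isCyclic_of_injective f fun c c' h => Subtype.ext (Subtype.ext (congrArg Subtype.val h :))
    have huniq := plane_unique hA (s := 7) (by norm_num) (by norm_num) hy hcyc (Or.inr (by norm_num))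
    refine bound_of_normal hinj hcop htrans hw hord ⟨zpowers (y : H), ⟨fun z hz g => ?_⟩,
      by rw [Nat.card_zpowers, hyH]⟩
    obtain ⟨i, rfl⟩ := mem_zpowers_iff.1 hz
    rw [← conj_zpow]
    refine zpow_mem ?_ i
    have hgy : g * y * g⁻¹ ∈ C := hCn.conj_mem _ y.2 g
    obtain ⟨j, hj⟩ := mem_zpowers_iff.1 (huniq ⟨_, hgy⟩ (by
      rw [← Subgroup.orderOf_coe]
      exact ((MulAut.conj g).orderOf_eq (y : H)).trans hyH))
    exact mem_zpowers_iff.2 ⟨j, by rw [← Subgroup.coe_zpow, hj]⟩

end Cfsg.Lib.Blocks.CoprimeTransitive
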