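import Cfsg.Agent.Blocks.CoprimeTransitive.Four

/-!
# Class number plus stabiliser order of a coprime transitive linear group
-/

set_option autoImplicit false
set_option linter.unusedSectionVars false
set_option linter.style.haveILetI false

namespace Cfsg.Lib.Blocks.CoprimeTransitive

open Module Subgroup

universe u v

variable {p : ℕ} [hp : Fact p.Prime] {V : Type v} [AddCommGroup V] [Module (ZMod p) V] [Finite V]
  {H : Type u} [Group H] [Finite H] {ρ : H →* Module.End (ZMod p) V}

/-- One dimension. -/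
theorem line_bound [Nontrivial V] (hinj : Function.Injective ρ)
    (htrans : ∀ v w : V, v ≠ 0 → w ≠ 0 → ∃ h, ρ h v = w) (h1 : finrank (ZMod p) V = 1) {w : V} (hw : w ≠ 0) :
    Bound ρ w := by
  obtain ⟨hH, hk⟩ := one_dim hinj htrans h1
  have hh := card_eq_mul_stab (ρ := ρ) htrans hw
  rw [h1, pow_one, hH] at hh
  have hp2 := hp.out.two_le
  have hS : Nat.card (stab ρ w) = 1 :=
    Nat.eq_of_mul_eq_mul_left (show 0 < p - 1 by omega) (hh.symm.trans (mul_one _).symm)
  refine ⟨by rw [hk, hS, h1, pow_one]; omega, fun _ => Or.inl ?_⟩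
  obtain ⟨v, hv, hspan⟩ := finrank_eq_one_iff'.1 h1
  have hc : ∀ a b : H, a * b = b * a := fun a b => hinj (LinearMap.ext fun u => by
    obtain ⟨c, rfl⟩ := hspan u
    obtain ⟨r, hr⟩ := hspan (ρ a v)
    obtain ⟨t, ht⟩ := hspan (ρ b v)
    rw [map_mul, map_mul, Module.End.mul_apply, Module.End.mul_apply]
    simp only [map_smul, ← hr, ← ht]
    rw [smul_comm r t])
  haveI := normal_abelian_cyclic hinj htrans (⊤ : Subgroup H) (fun a _ b _ => hc a b)
  exact isCyclic_of_surjective (⊤ : Subgroup H).subtype fun y => ⟨⟨y, mem_top y⟩, rfl⟩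

/-- A coprime transitive linear group. -/
theorem linear_bound [Nontrivial V] (hinj : Function.Injective ρ) (hcop : ¬ p ∣ Nat.card H)
    (htrans : ∀ v w : V, v ≠ 0 → w ≠ 0 → ∃ h, ρ h v = w) {w : V} (hw : w ≠ 0) : Bound ρ w := by
  classical
  have hn0 : 0 < finrank (ZMod p) V := Module.finrank_pos
  rcases (by omega : finrank (ZMod p) V = 1 ∨ finrank (ZMod p) V = 2 ∨ 3 ≤ finrank (ZMod p) V) with h1 | h2 | h3
  · exact line_bound hinj htrans h1 hw
  · obtain ⟨hle, heq⟩ := plane_bound hinj hcop htrans h2 hw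
    refine ⟨by rw [h2]; exact hle, fun e => ?_⟩
    rw [h2] at e ⊢
    rcases heq e with h | ⟨rfl, h⟩
    · exact Or.inl h
    · exact Or.inr (Or.inr ⟨by norm_num, h⟩)
  · by_cases hex : (finrank (ZMod p) V = 6 ∧ (p = 2 ∨ p = 3 ∨ p = 5 ∨ p = 17)) ∨ (p = 3 ∧ finrank (ZMod p) V = 4)
    · rcases hex with ⟨h6, hp'⟩ | ⟨rfl, h4⟩
      · exact six_bound hinj hcop htrans h6 hp' hw
      · exact four_bound hinj hcop htrans h4 hw
    · obtain ⟨s, hs, hord, hX⟩ := exists_normal_ppd hinj hcop h3 (vectors_dvd htrans).1 hex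
      haveI := Fact.mk hs
      exact bound_of_normal hinj hcop htrans hw hord hX

/-- The same for a group of automorphisms. -/
theorem action_bound {H : Type u} [Group H] [Finite H] {A : Type v} [CommGroup A] [Finite A] [Nontrivial A]
    [Module (ZMod p) (Additive A)] (act : H →* MulAut A) (hinj : Function.Injective act)
    (hcop : ¬ p ∣ Nat.card H) (htrans : ∀ a b : A, a ≠ 1 → b ≠ 1 → ∃ h, act h a = b) {w : A} (hw : w ≠ 1)
    (S : Subgroup H) (hS : ∀ h, h ∈ S ↔ act h w = w) :
    Nat.card (ConjClasses H) + Nat.card S ≤ Nat.card A ∧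
      (Nat.card (ConjClasses H) + Nat.card S = Nat.card A →
        IsCyclic H ∨ (Nat.card A = 8 ∧ Nat.card H = 21) ∨ (Nat.card A = 9 ∧ Nat.card H = 16)) := by
  let ρ : H →* Module.End (ZMod p) (Additive A) :=
    { toFun := fun x => (MonoidHom.toAdditive (act x).toMonoidHom).toZModLinearMap p
      map_one' := LinearMap.ext fun v => by simp <;> rfl
      map_mul' := fun x y => LinearMap.ext fun v => by simp <;> rfl }
  have hval : ∀ (x : H) (v : Additive A), Additive.toMul (ρ x v) = act x (Additive.toMul v) := fun x v => rfl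
  have hinj' : Function.Injective ρ := fun a b h => hinj (MulEquiv.ext fun v => by
    have := congrArg (fun f : Module.End (ZMod p) (Additive A) => Additive.toMul (f (Additive.ofMul v))) h
    simpa [hval] using this)
  have htr : ∀ v w : Additive A, v ≠ 0 → w ≠ 0 → ∃ h, ρ h v = w := by
    intro v w hv hw
    obtain ⟨h, hh⟩ := htrans (Additive.toMul v) (Additive.toMul w) (fun e => hv (Additive.toMul.injective e))
      (fun e => hw (Additive.toMul.injective e))
    exact ⟨h, Additive.toMul.injective ((hval h v).trans hh)⟩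
  have hcard : Nat.card A = p ^ finrank (ZMod p) (Additive A) := by
    rw [← card_vectors (p := p) (V := Additive A)]; rfl
  have hw' : Additive.ofMul w ≠ (0 : Additive A) := fun e => hw (Additive.ofMul.injective e)
  have hSeq : S = stab ρ (Additive.ofMul w) := by
    ext h
    rw [hS, mem_stab]
    exact ⟨fun e => Additive.toMul.injective ((hval h _).trans e), fun e => (hval h (Additive.ofMul w)).symm.trans
      (congrArg Additive.toMul e)⟩
  rw [hSeq, hcard]
  exact linear_bound hinj' hcop htr hw'

end Cfsg.Lib.Blocks.CoprimeTransitive
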